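import Cfsg.Agent.Lib.Helper9.TCData.X1690B.Main

set_option autoImplicit false
set_option maxRecDepth 1000000

namespace Cfsg.Agent.Helper9.TCData.X1690B
open Cfsg.Agent.Helper9.TC2 Cfsg.Agent.Helper9.TCData.X1690

theorem o1_80 : allRange 22400 280 (fun u => chkO1 tab orb u) = true := by decide +kernel

theorem o1_81 : allRange 22680 280 (fun u => chkO1 tab orb u) = true := by decide +kernel

theorem o1_82 : allRange 22960 280 (fun u => chkO1 tab orb u) = true := by decide +kernel

theorem o1_83 : allRange 23240 280 (fun u => chkO1 tab orb u) = true := by decide +kernel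

theorem o1_84 : allRange 23520 280 (fun u => chkO1 tab orb u) = true := by decide +kernel

theorem o1_85 : allRange 23800 280 (fun u => chkO1 tab orb u) = true := by decide +kernel

theorem o1_86 : allRange 24080 280 (fun u => chkO1 tab orb u) = true := by decide +kernel

theorem o1_87 : allRange 24360 280 (fun u => chkO1 tab orb u) = true := by decide +kernel


end Cfsg.Agent.Helper9.TCData.X1690B
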