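import Cfsg.Agent.Lib.Helper9.TCData.X1690B.Main

set_option autoImplicit false
set_option maxRecDepth 1000000

namespace Cfsg.Agent.Helper9.TCData.X1690B
open Cfsg.Agent.Helper9.TC2 Cfsg.Agent.Helper9.TCData.X1690

theorem o1_800 : allRange 224000 280 (fun u => chkO1 tab orb u) = true := by decide +kernel

theorem o1_801 : allRange 224280 280 (fun u => chkO1 tab orb u) = true := by decide +kernel

theorem o1_802 : allRange 224560 280 (fun u => chkO1 tab orb u) = true := by decide +kernel

theorem o1_803 : allRange 224840 280 (fun u => chkO1 tab orb u) = true := by decide +kernel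

theorem o1_804 : allRange 225120 280 (fun u => chkO1 tab orb u) = true := by decide +kernel

theorem o1_805 : allRange 225400 280 (fun u => chkO1 tab orb u) = true := by decide +kernel

theorem o1_806 : allRange 225680 280 (fun u => chkO1 tab orb u) = true := by decide +kernel

theorem o1_807 : allRange 225960 280 (fun u => chkO1 tab orb u) = true := by decide +kernel


end Cfsg.Agent.Helper9.TCData.X1690B
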