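import Cfsg.Agent.Lib.Helper9.TCData.X1690B.Main

set_option autoImplicit false
set_option maxRecDepth 1000000

namespace Cfsg.Agent.Helper9.TCData.X1690B
open Cfsg.Agent.Helper9.TC2 Cfsg.Agent.Helper9.TCData.X1690

theorem o1_808 : allRange 226240 280 (fun u => chkO1 tab orb u) = true := by decide +kernel

theorem o1_809 : allRange 226520 280 (fun u => chkO1 tab orb u) = true := by decide +kernel

theorem o1_810 : allRange 226800 280 (fun u => chkO1 tab orb u) = true := by decide +kernel

theorem o1_811 : allRange 227080 280 (fun u => chkO1 tab orb u) = true := by decide +kernel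

theorem o1_812 : allRange 227360 280 (fun u => chkO1 tab orb u) = true := by decide +kernel

theorem o1_813 : allRange 227640 280 (fun u => chkO1 tab orb u) = true := by decide +kernel

theorem o1_814 : allRange 227920 280 (fun u => chkO1 tab orb u) = true := by decide +kernel

theorem o1_815 : allRange 228200 280 (fun u => chkO1 tab orb u) = true := by decide +kernel


end Cfsg.Agent.Helper9.TCData.X1690B
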