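import Cfsg.Agent.Lib.Helper9.TCData.X1690B.Main

set_option autoImplicit false
set_option maxRecDepth 1000000

namespace Cfsg.Agent.Helper9.TCData.X1690B
open Cfsg.Agent.Helper9.TC2 Cfsg.Agent.Helper9.TCData.X1690

theorem o1_816 : allRange 228480 280 (fun u => chkO1 tab orb u) = true := by decide +kernel

theorem o1_817 : allRange 228760 280 (fun u => chkO1 tab orb u) = true := by decide +kernel

theorem o1_818 : allRange 229040 280 (fun u => chkO1 tab orb u) = true := by decide +kernel

theorem o1_819 : allRange 229320 280 (fun u => chkO1 tab orb u) = true := by decide +kernel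

theorem o1_820 : allRange 229600 280 (fun u => chkO1 tab orb u) = true := by decide +kernel

theorem o1_821 : allRange 229880 280 (fun u => chkO1 tab orb u) = true := by decide +kernel

theorem o1_822 : allRange 230160 280 (fun u => chkO1 tab orb u) = true := by decide +kernel

theorem o1_823 : allRange 230440 280 (fun u => chkO1 tab orb u) = true := by decide +kernel


end Cfsg.Agent.Helper9.TCData.X1690B
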