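import Cfsg.Agent.Lib.Helper9.TCData.X1690B.Main

set_option autoImplicit false
set_option maxRecDepth 1000000

namespace Cfsg.Agent.Helper9.TCData.X1690B
open Cfsg.Agent.Helper9.TC2 Cfsg.Agent.Helper9.TCData.X1690

theorem o1_832 : allRange 232960 280 (fun u => chkO1 tab orb u) = true := by decide +kernel

theorem o1_833 : allRange 233240 280 (fun u => chkO1 tab orb u) = true := by decide +kernel

theorem o1_834 : allRange 233520 280 (fun u => chkO1 tab orb u) = true := by decide +kernel

theorem o1_835 : allRange 233800 280 (fun u => chkO1 tab orb u) = true := by decide +kernel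

theorem o1_836 : allRange 234080 280 (fun u => chkO1 tab orb u) = true := by decide +kernel

theorem o1_837 : allRange 234360 280 (fun u => chkO1 tab orb u) = true := by decide +kernel

theorem o1_838 : allRange 234640 280 (fun u => chkO1 tab orb u) = true := by decide +kernel

theorem o1_839 : allRange 234920 280 (fun u => chkO1 tab orb u) = true := by decide +kernel


end Cfsg.Agent.Helper9.TCData.X1690B
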