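import Cfsg.Agent.Lib.Helper9.TCData.X1690B.Main

set_option autoImplicit false
set_option maxRecDepth 1000000

namespace Cfsg.Agent.Helper9.TCData.X1690B
open Cfsg.Agent.Helper9.TC2 Cfsg.Agent.Helper9.TCData.X1690

theorem o1_840 : allRange 235200 280 (fun u => chkO1 tab orb u) = true := by decide +kernel

theorem o1_841 : allRange 235480 280 (fun u => chkO1 tab orb u) = true := by decide +kernel

theorem o1_842 : allRange 235760 280 (fun u => chkO1 tab orb u) = true := by decide +kernel

theorem o1_843 : allRange 236040 280 (fun u => chkO1 tab orb u) = true := by decide +kernel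

theorem o1_844 : allRange 236320 280 (fun u => chkO1 tab orb u) = true := by decide +kernel

theorem o1_845 : allRange 236600 280 (fun u => chkO1 tab orb u) = true := by decide +kernel

theorem o1_846 : allRange 236880 280 (fun u => chkO1 tab orb u) = true := by decide +kernel

theorem o1_847 : allRange 237160 280 (fun u => chkO1 tab orb u) = true := by decide +kernel


end Cfsg.Agent.Helper9.TCData.X1690B
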