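import Cfsg.Agent.Lib.Helper9.TCData.X1690B.Main

set_option autoImplicit false
set_option maxRecDepth 1000000

namespace Cfsg.Agent.Helper9.TCData.X1690B
open Cfsg.Agent.Helper9.TC2 Cfsg.Agent.Helper9.TCData.X1690

theorem o1_864 : allRange 241920 280 (fun u => chkO1 tab orb u) = true := by decide +kernel

theorem o1_865 : allRange 242200 280 (fun u => chkO1 tab orb u) = true := by decide +kernel

theorem o1_866 : allRange 242480 280 (fun u => chkO1 tab orb u) = true := by decide +kernel

theorem o1_867 : allRange 242760 280 (fun u => chkO1 tab orb u) = true := by decide +kernel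

theorem o1_868 : allRange 243040 280 (fun u => chkO1 tab orb u) = true := by decide +kernel

theorem o1_869 : allRange 243320 280 (fun u => chkO1 tab orb u) = true := by decide +kernel

theorem o1_870 : allRange 243600 280 (fun u => chkO1 tab orb u) = true := by decide +kernel

theorem o1_871 : allRange 243880 280 (fun u => chkO1 tab orb u) = true := by decide +kernel


end Cfsg.Agent.Helper9.TCData.X1690B
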