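import Cfsg.Agent.Lib.Helper9.TCData.X1690B.Main

set_option autoImplicit false
set_option maxRecDepth 1000000

namespace Cfsg.Agent.Helper9.TCData.X1690B
open Cfsg.Agent.Helper9.TC2 Cfsg.Agent.Helper9.TCData.X1690

theorem o1_872 : allRange 244160 280 (fun u => chkO1 tab orb u) = true := by decide +kernel

theorem o1_873 : allRange 244440 280 (fun u => chkO1 tab orb u) = true := by decide +kernel

theorem o1_874 : allRange 244720 280 (fun u => chkO1 tab orb u) = true := by decide +kernel

theorem o1_875 : allRange 245000 280 (fun u => chkO1 tab orb u) = true := by decide +kernel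

theorem o1_876 : allRange 245280 280 (fun u => chkO1 tab orb u) = true := by decide +kernel

theorem o1_877 : allRange 245560 280 (fun u => chkO1 tab orb u) = true := by decide +kernel

theorem o1_878 : allRange 245840 280 (fun u => chkO1 tab orb u) = true := by decide +kernel

theorem o1_879 : allRange 246120 280 (fun u => chkO1 tab orb u) = true := by decide +kernel


end Cfsg.Agent.Helper9.TCData.X1690B
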