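import Cfsg.Agent.Lib.Helper9.TCData.X1690B.Main

set_option autoImplicit false
set_option maxRecDepth 1000000

namespace Cfsg.Agent.Helper9.TCData.X1690B
open Cfsg.Agent.Helper9.TC2 Cfsg.Agent.Helper9.TCData.X1690

theorem o1_888 : allRange 248640 280 (fun u => chkO1 tab orb u) = true := by decide +kernel

theorem o1_889 : allRange 248920 280 (fun u => chkO1 tab orb u) = true := by decide +kernel

theorem o1_890 : allRange 249200 280 (fun u => chkO1 tab orb u) = true := by decide +kernel

theorem o1_891 : allRange 249480 280 (fun u => chkO1 tab orb u) = true := by decide +kernel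

theorem o1_892 : allRange 249760 280 (fun u => chkO1 tab orb u) = true := by decide +kernel

theorem o1_893 : allRange 250040 280 (fun u => chkO1 tab orb u) = true := by decide +kernel

theorem o1_894 : allRange 250320 280 (fun u => chkO1 tab orb u) = true := by decide +kernel

theorem o1_895 : allRange 250600 280 (fun u => chkO1 tab orb u) = true := by decide +kernel


end Cfsg.Agent.Helper9.TCData.X1690B
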