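import Cfsg.Agent.Lib.Helper9.TCData.X1690B.Main

set_option autoImplicit false
set_option maxRecDepth 1000000

namespace Cfsg.Agent.Helper9.TCData.X1690B
open Cfsg.Agent.Helper9.TC2 Cfsg.Agent.Helper9.TCData.X1690

theorem o1_896 : allRange 250880 280 (fun u => chkO1 tab orb u) = true := by decide +kernel

theorem o1_897 : allRange 251160 280 (fun u => chkO1 tab orb u) = true := by decide +kernel

theorem o1_898 : allRange 251440 280 (fun u => chkO1 tab orb u) = true := by decide +kernel

theorem o1_899 : allRange 251720 280 (fun u => chkO1 tab orb u) = true := by decide +kernel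

theorem o1_900 : allRange 252000 280 (fun u => chkO1 tab orb u) = true := by decide +kernel

theorem o1_901 : allRange 252280 280 (fun u => chkO1 tab orb u) = true := by decide +kernel

theorem o1_902 : allRange 252560 280 (fun u => chkO1 tab orb u) = true := by decide +kernel

theorem o1_903 : allRange 252840 280 (fun u => chkO1 tab orb u) = true := by decide +kernel


end Cfsg.Agent.Helper9.TCData.X1690B
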