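import Cfsg.Agent.Lib.Helper9.TCData.X1690B.Main

set_option autoImplicit false
set_option maxRecDepth 1000000

namespace Cfsg.Agent.Helper9.TCData.X1690B
open Cfsg.Agent.Helper9.TC2 Cfsg.Agent.Helper9.TCData.X1690

theorem o1_920 : allRange 257600 280 (fun u => chkO1 tab orb u) = true := by decide +kernel

theorem o1_921 : allRange 257880 280 (fun u => chkO1 tab orb u) = true := by decide +kernel

theorem o1_922 : allRange 258160 280 (fun u => chkO1 tab orb u) = true := by decide +kernel

theorem o1_923 : allRange 258440 280 (fun u => chkO1 tab orb u) = true := by decide +kernel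

theorem o1_924 : allRange 258720 280 (fun u => chkO1 tab orb u) = true := by decide +kernel

theorem o1_925 : allRange 259000 280 (fun u => chkO1 tab orb u) = true := by decide +kernel

theorem o1_926 : allRange 259280 280 (fun u => chkO1 tab orb u) = true := by decide +kernel

theorem o1_927 : allRange 259560 280 (fun u => chkO1 tab orb u) = true := by decide +kernel


end Cfsg.Agent.Helper9.TCData.X1690B
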