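import Cfsg.Agent.Lib.Helper9.TCData.X1690B.Main

set_option autoImplicit false
set_option maxRecDepth 1000000

namespace Cfsg.Agent.Helper9.TCData.X1690B
open Cfsg.Agent.Helper9.TC2 Cfsg.Agent.Helper9.TCData.X1690

theorem o1_936 : allRange 262080 280 (fun u => chkO1 tab orb u) = true := by decide +kernel

theorem o1_937 : allRange 262360 280 (fun u => chkO1 tab orb u) = true := by decide +kernel

theorem o1_938 : allRange 262640 280 (fun u => chkO1 tab orb u) = true := by decide +kernel

theorem o1_939 : allRange 262920 280 (fun u => chkO1 tab orb u) = true := by decide +kernel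

theorem o1_940 : allRange 263200 280 (fun u => chkO1 tab orb u) = true := by decide +kernel

theorem o1_941 : allRange 263480 280 (fun u => chkO1 tab orb u) = true := by decide +kernel

theorem o1_942 : allRange 263760 280 (fun u => chkO1 tab orb u) = true := by decide +kernel

theorem o1_943 : allRange 264040 280 (fun u => chkO1 tab orb u) = true := by decide +kernel


end Cfsg.Agent.Helper9.TCData.X1690B
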