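import Cfsg.Agent.Lib.Helper9.TCData.X1690B.Main

set_option autoImplicit false
set_option maxRecDepth 1000000

namespace Cfsg.Agent.Helper9.TCData.X1690B
open Cfsg.Agent.Helper9.TC2 Cfsg.Agent.Helper9.TCData.X1690

theorem o1_984 : allRange 275520 280 (fun u => chkO1 tab orb u) = true := by decide +kernel

theorem o1_985 : allRange 275800 280 (fun u => chkO1 tab orb u) = true := by decide +kernel

theorem o1_986 : allRange 276080 280 (fun u => chkO1 tab orb u) = true := by decide +kernel

theorem o1_987 : allRange 276360 280 (fun u => chkO1 tab orb u) = true := by decide +kernel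

theorem o1_988 : allRange 276640 280 (fun u => chkO1 tab orb u) = true := by decide +kernel

theorem o1_989 : allRange 276920 280 (fun u => chkO1 tab orb u) = true := by decide +kernel

theorem o1_990 : allRange 277200 280 (fun u => chkO1 tab orb u) = true := by decide +kernel

theorem o1_991 : allRange 277480 280 (fun u => chkO1 tab orb u) = true := by decide +kernel


end Cfsg.Agent.Helper9.TCData.X1690B
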