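import Cfsg.Agent.Lib.Helper9.TCData.X1690B.Main

set_option autoImplicit false
set_option maxRecDepth 1000000

namespace Cfsg.Agent.Helper9.TCData.X1690B
open Cfsg.Agent.Helper9.TC2 Cfsg.Agent.Helper9.TCData.X1690

theorem o1_992 : allRange 277760 280 (fun u => chkO1 tab orb u) = true := by decide +kernel

theorem o1_993 : allRange 278040 280 (fun u => chkO1 tab orb u) = true := by decide +kernel

theorem o1_994 : allRange 278320 280 (fun u => chkO1 tab orb u) = true := by decide +kernel

theorem o1_995 : allRange 278600 280 (fun u => chkO1 tab orb u) = true := by decide +kernel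

theorem o1_996 : allRange 278880 280 (fun u => chkO1 tab orb u) = true := by decide +kernel

theorem o1_997 : allRange 279160 280 (fun u => chkO1 tab orb u) = true := by decide +kernel

theorem o1_998 : allRange 279440 280 (fun u => chkO1 tab orb u) = true := by decide +kernel

theorem o1_999 : allRange 279720 280 (fun u => chkO1 tab orb u) = true := by decide +kernel


end Cfsg.Agent.Helper9.TCData.X1690B
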