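import Cfsg.Agent.Lib.Helper9.TCData.X1690B.Main

set_option autoImplicit false
set_option maxRecDepth 1000000

namespace Cfsg.Agent.Helper9.TCData.X1690B
open Cfsg.Agent.Helper9.TC2 Cfsg.Agent.Helper9.TCData.X1690

theorem o1_1000 : allRange 280000 280 (fun u => chkO1 tab orb u) = true := by decide +kernel

theorem o1_1001 : allRange 280280 280 (fun u => chkO1 tab orb u) = true := by decide +kernel

theorem o1_1002 : allRange 280560 280 (fun u => chkO1 tab orb u) = true := by decide +kernel

theorem o1_1003 : allRange 280840 280 (fun u => chkO1 tab orb u) = true := by decide +kernel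

theorem o1_1004 : allRange 281120 280 (fun u => chkO1 tab orb u) = true := by decide +kernel

theorem o1_1005 : allRange 281400 280 (fun u => chkO1 tab orb u) = true := by decide +kernel

theorem o1_1006 : allRange 281680 280 (fun u => chkO1 tab orb u) = true := by decide +kernel

theorem o1_1007 : allRange 281960 280 (fun u => chkO1 tab orb u) = true := by decide +kernel


end Cfsg.Agent.Helper9.TCData.X1690B
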