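import Cfsg.Agent.Lib.Helper9.TCData.X1690B.Main

set_option autoImplicit false
set_option maxRecDepth 1000000

namespace Cfsg.Agent.Helper9.TCData.X1690B
open Cfsg.Agent.Helper9.TC2 Cfsg.Agent.Helper9.TCData.X1690

theorem o1_1008 : allRange 282240 280 (fun u => chkO1 tab orb u) = true := by decide +kernel

theorem o1_1009 : allRange 282520 280 (fun u => chkO1 tab orb u) = true := by decide +kernel

theorem o1_1010 : allRange 282800 280 (fun u => chkO1 tab orb u) = true := by decide +kernel

theorem o1_1011 : allRange 283080 280 (fun u => chkO1 tab orb u) = true := by decide +kernel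

theorem o1_1012 : allRange 283360 280 (fun u => chkO1 tab orb u) = true := by decide +kernel

theorem o1_1013 : allRange 283640 280 (fun u => chkO1 tab orb u) = true := by decide +kernel

theorem o1_1014 : allRange 283920 280 (fun u => chkO1 tab orb u) = true := by decide +kernel

theorem o1_1015 : allRange 284200 280 (fun u => chkO1 tab orb u) = true := by decide +kernel


end Cfsg.Agent.Helper9.TCData.X1690B
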