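import Cfsg.Agent.Lib.Helper9.TCData.X1690B.Main

set_option autoImplicit false
set_option maxRecDepth 1000000

namespace Cfsg.Agent.Helper9.TCData.X1690B
open Cfsg.Agent.Helper9.TC2 Cfsg.Agent.Helper9.TCData.X1690

theorem o1_1016 : allRange 284480 280 (fun u => chkO1 tab orb u) = true := by decide +kernel

theorem o1_1017 : allRange 284760 280 (fun u => chkO1 tab orb u) = true := by decide +kernel

theorem o1_1018 : allRange 285040 280 (fun u => chkO1 tab orb u) = true := by decide +kernel

theorem o1_1019 : allRange 285320 280 (fun u => chkO1 tab orb u) = true := by decide +kernel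

theorem o1_1020 : allRange 285600 280 (fun u => chkO1 tab orb u) = true := by decide +kernel

theorem o1_1021 : allRange 285880 280 (fun u => chkO1 tab orb u) = true := by decide +kernel

theorem o1_1022 : allRange 286160 280 (fun u => chkO1 tab orb u) = true := by decide +kernel

theorem o1_1023 : allRange 286440 280 (fun u => chkO1 tab orb u) = true := by decide +kernel


end Cfsg.Agent.Helper9.TCData.X1690B
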