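import Cfsg.Agent.Lib.Helper9.TCData.X1690B.Main

set_option autoImplicit false
set_option maxRecDepth 1000000

namespace Cfsg.Agent.Helper9.TCData.X1690B
open Cfsg.Agent.Helper9.TC2 Cfsg.Agent.Helper9.TCData.X1690

theorem o1_1032 : allRange 288960 280 (fun u => chkO1 tab orb u) = true := by decide +kernel

theorem o1_1033 : allRange 289240 280 (fun u => chkO1 tab orb u) = true := by decide +kernel

theorem o1_1034 : allRange 289520 280 (fun u => chkO1 tab orb u) = true := by decide +kernel

theorem o1_1035 : allRange 289800 280 (fun u => chkO1 tab orb u) = true := by decide +kernel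

theorem o1_1036 : allRange 290080 280 (fun u => chkO1 tab orb u) = true := by decide +kernel

theorem o1_1037 : allRange 290360 280 (fun u => chkO1 tab orb u) = true := by decide +kernel

theorem o1_1038 : allRange 290640 280 (fun u => chkO1 tab orb u) = true := by decide +kernel

theorem o1_1039 : allRange 290920 280 (fun u => chkO1 tab orb u) = true := by decide +kernel


end Cfsg.Agent.Helper9.TCData.X1690B
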