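import Cfsg.Agent.Lib.Helper9.TCData.X1690B.Main

set_option autoImplicit false
set_option maxRecDepth 1000000

namespace Cfsg.Agent.Helper9.TCData.X1690B
open Cfsg.Agent.Helper9.TC2 Cfsg.Agent.Helper9.TCData.X1690

theorem o1_1040 : allRange 291200 280 (fun u => chkO1 tab orb u) = true := by decide +kernel

theorem o1_1041 : allRange 291480 280 (fun u => chkO1 tab orb u) = true := by decide +kernel

theorem o1_1042 : allRange 291760 280 (fun u => chkO1 tab orb u) = true := by decide +kernel

theorem o1_1043 : allRange 292040 280 (fun u => chkO1 tab orb u) = true := by decide +kernel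

theorem o1_1044 : allRange 292320 280 (fun u => chkO1 tab orb u) = true := by decide +kernel

theorem o1_1045 : allRange 292600 280 (fun u => chkO1 tab orb u) = true := by decide +kernel

theorem o1_1046 : allRange 292880 280 (fun u => chkO1 tab orb u) = true := by decide +kernel

theorem o1_1047 : allRange 293160 280 (fun u => chkO1 tab orb u) = true := by decide +kernel


end Cfsg.Agent.Helper9.TCData.X1690B
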