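import Cfsg.Agent.Lib.Helper9.TCData.X1690B.Main

set_option autoImplicit false
set_option maxRecDepth 1000000

namespace Cfsg.Agent.Helper9.TCData.X1690B
open Cfsg.Agent.Helper9.TC2 Cfsg.Agent.Helper9.TCData.X1690

theorem o1_1064 : allRange 297920 280 (fun u => chkO1 tab orb u) = true := by decide +kernel

theorem o1_1065 : allRange 298200 280 (fun u => chkO1 tab orb u) = true := by decide +kernel

theorem o1_1066 : allRange 298480 280 (fun u => chkO1 tab orb u) = true := by decide +kernel

theorem o1_1067 : allRange 298760 280 (fun u => chkO1 tab orb u) = true := by decide +kernel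

theorem o1_1068 : allRange 299040 280 (fun u => chkO1 tab orb u) = true := by decide +kernel

theorem o1_1069 : allRange 299320 280 (fun u => chkO1 tab orb u) = true := by decide +kernel

theorem o1_1070 : allRange 299600 280 (fun u => chkO1 tab orb u) = true := by decide +kernel

theorem o1_1071 : allRange 299880 280 (fun u => chkO1 tab orb u) = true := by decide +kernel


end Cfsg.Agent.Helper9.TCData.X1690B
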