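import Cfsg.Agent.Lib.Helper9.TCData.X1690B.Main

set_option autoImplicit false
set_option maxRecDepth 1000000

namespace Cfsg.Agent.Helper9.TCData.X1690B
open Cfsg.Agent.Helper9.TC2 Cfsg.Agent.Helper9.TCData.X1690

theorem o1_1088 : allRange 304640 280 (fun u => chkO1 tab orb u) = true := by decide +kernel

theorem o1_1089 : allRange 304920 280 (fun u => chkO1 tab orb u) = true := by decide +kernel

theorem o1_1090 : allRange 305200 280 (fun u => chkO1 tab orb u) = true := by decide +kernel

theorem o1_1091 : allRange 305480 280 (fun u => chkO1 tab orb u) = true := by decide +kernel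

theorem o1_1092 : allRange 305760 280 (fun u => chkO1 tab orb u) = true := by decide +kernel

theorem o1_1093 : allRange 306040 280 (fun u => chkO1 tab orb u) = true := by decide +kernel

theorem o1_1094 : allRange 306320 280 (fun u => chkO1 tab orb u) = true := by decide +kernel

theorem o1_1095 : allRange 306600 280 (fun u => chkO1 tab orb u) = true := by decide +kernel


end Cfsg.Agent.Helper9.TCData.X1690B
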