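import Cfsg.Agent.Lib.Helper9.TCData.X1690B.Main

set_option autoImplicit false
set_option maxRecDepth 1000000

namespace Cfsg.Agent.Helper9.TCData.X1690B
open Cfsg.Agent.Helper9.TC2 Cfsg.Agent.Helper9.TCData.X1690

theorem o2_31 : allRange 41354 1334 (fun u => chkO2 tab orb u) = true := by decide +kernel

theorem o2_32 : allRange 42688 1334 (fun u => chkO2 tab orb u) = true := by decide +kernel

theorem o2_33 : allRange 44022 1334 (fun u => chkO2 tab orb u) = true := by decide +kernel

theorem o2_34 : allRange 45356 1334 (fun u => chkO2 tab orb u) = true := by decide +kernel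

theorem o2_35 : allRange 46690 1334 (fun u => chkO2 tab orb u) = true := by decide +kernel

theorem o2_36 : allRange 48024 1334 (fun u => chkO2 tab orb u) = true := by decide +kernel

theorem o2_37 : allRange 49358 1334 (fun u => chkO2 tab orb u) = true := by decide +kernel

theorem o2_38 : allRange 50692 1334 (fun u => chkO2 tab orb u) = true := by decide +kernel


end Cfsg.Agent.Helper9.TCData.X1690B
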