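import Cfsg.Agent.Lib.Helper9.TCData.X1690B.Main

set_option autoImplicit false
set_option maxRecDepth 1000000

namespace Cfsg.Agent.Helper9.TCData.X1690B
open Cfsg.Agent.Helper9.TC2 Cfsg.Agent.Helper9.TCData.X1690

theorem o2_71 : allRange 94714 1334 (fun u => chkO2 tab orb u) = true := by decide +kernel

theorem o2_72 : allRange 96048 1334 (fun u => chkO2 tab orb u) = true := by decide +kernel

theorem o2_73 : allRange 97382 1334 (fun u => chkO2 tab orb u) = true := by decide +kernel

theorem o2_74 : allRange 98716 1334 (fun u => chkO2 tab orb u) = true := by decide +kernel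

theorem o2_75 : allRange 100050 1334 (fun u => chkO2 tab orb u) = true := by decide +kernel

theorem o2_76 : allRange 101384 1334 (fun u => chkO2 tab orb u) = true := by decide +kernel

theorem o2_77 : allRange 102718 1334 (fun u => chkO2 tab orb u) = true := by decide +kernel

theorem o2_78 : allRange 104052 1334 (fun u => chkO2 tab orb u) = true := by decide +kernel


end Cfsg.Agent.Helper9.TCData.X1690B
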