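import Cfsg.Agent.Lib.Helper9.TCData.X1690B.Main

set_option autoImplicit false
set_option maxRecDepth 1000000

namespace Cfsg.Agent.Helper9.TCData.X1690B
open Cfsg.Agent.Helper9.TC2 Cfsg.Agent.Helper9.TCData.X1690

theorem o2_87 : allRange 116058 1334 (fun u => chkO2 tab orb u) = true := by decide +kernel

theorem o2_88 : allRange 117392 1334 (fun u => chkO2 tab orb u) = true := by decide +kernel

theorem o2_89 : allRange 118726 1334 (fun u => chkO2 tab orb u) = true := by decide +kernel

theorem o2_90 : allRange 120060 1334 (fun u => chkO2 tab orb u) = true := by decide +kernel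

theorem o2_91 : allRange 121394 1334 (fun u => chkO2 tab orb u) = true := by decide +kernel

theorem o2_92 : allRange 122728 1334 (fun u => chkO2 tab orb u) = true := by decide +kernel

theorem o2_93 : allRange 124062 1334 (fun u => chkO2 tab orb u) = true := by decide +kernel

theorem o2_94 : allRange 125396 1334 (fun u => chkO2 tab orb u) = true := by decide +kernel


end Cfsg.Agent.Helper9.TCData.X1690B
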