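import Cfsg.Agent.Lib.Helper9.TCData.X1690B.Main

set_option autoImplicit false
set_option maxRecDepth 1000000

namespace Cfsg.Agent.Helper9.TCData.X1690B
open Cfsg.Agent.Helper9.TC2 Cfsg.Agent.Helper9.TCData.X1690

theorem o2_119 : allRange 158746 1334 (fun u => chkO2 tab orb u) = true := by decide +kernel

theorem o2_120 : allRange 160080 1334 (fun u => chkO2 tab orb u) = true := by decide +kernel

theorem o2_121 : allRange 161414 1334 (fun u => chkO2 tab orb u) = true := by decide +kernel

theorem o2_122 : allRange 162748 1334 (fun u => chkO2 tab orb u) = true := by decide +kernel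

theorem o2_123 : allRange 164082 1334 (fun u => chkO2 tab orb u) = true := by decide +kernel

theorem o2_124 : allRange 165416 1334 (fun u => chkO2 tab orb u) = true := by decide +kernel

theorem o2_125 : allRange 166750 1334 (fun u => chkO2 tab orb u) = true := by decide +kernel

theorem o2_126 : allRange 168084 1334 (fun u => chkO2 tab orb u) = true := by decide +kernel


end Cfsg.Agent.Helper9.TCData.X1690B
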