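import Cfsg.Agent.Lib.Helper9.TCData.X1690B.Main

set_option autoImplicit false
set_option maxRecDepth 1000000

namespace Cfsg.Agent.Helper9.TCData.X1690B
open Cfsg.Agent.Helper9.TC2 Cfsg.Agent.Helper9.TCData.X1690

theorem o2_127 : allRange 169418 1334 (fun u => chkO2 tab orb u) = true := by decide +kernel

theorem o2_128 : allRange 170752 1334 (fun u => chkO2 tab orb u) = true := by decide +kernel

theorem o2_129 : allRange 172086 1334 (fun u => chkO2 tab orb u) = true := by decide +kernel

theorem o2_130 : allRange 173420 1334 (fun u => chkO2 tab orb u) = true := by decide +kernel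

theorem o2_131 : allRange 174754 1334 (fun u => chkO2 tab orb u) = true := by decide +kernel

theorem o2_132 : allRange 176088 1334 (fun u => chkO2 tab orb u) = true := by decide +kernel

theorem o2_133 : allRange 177422 1334 (fun u => chkO2 tab orb u) = true := by decide +kernel

theorem o2_134 : allRange 178756 1334 (fun u => chkO2 tab orb u) = true := by decide +kernel


end Cfsg.Agent.Helper9.TCData.X1690B
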