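import Cfsg.Agent.Lib.Helper9.TCData.X1690B.Main

set_option autoImplicit false
set_option maxRecDepth 1000000

namespace Cfsg.Agent.Helper9.TCData.X1690B
open Cfsg.Agent.Helper9.TC2 Cfsg.Agent.Helper9.TCData.X1690

theorem o2_135 : allRange 180090 1334 (fun u => chkO2 tab orb u) = true := by decide +kernel

theorem o2_136 : allRange 181424 1334 (fun u => chkO2 tab orb u) = true := by decide +kernel

theorem o2_137 : allRange 182758 1334 (fun u => chkO2 tab orb u) = true := by decide +kernel

theorem o2_138 : allRange 184092 1334 (fun u => chkO2 tab orb u) = true := by decide +kernel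

theorem o2_139 : allRange 185426 1334 (fun u => chkO2 tab orb u) = true := by decide +kernel

theorem o2_140 : allRange 186760 1334 (fun u => chkO2 tab orb u) = true := by decide +kernel

theorem o2_141 : allRange 188094 1334 (fun u => chkO2 tab orb u) = true := by decide +kernel

theorem o2_142 : allRange 189428 1334 (fun u => chkO2 tab orb u) = true := by decide +kernel


end Cfsg.Agent.Helper9.TCData.X1690B
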