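import Cfsg.Agent.Lib.Helper9.TCData.X1690B.Main

set_option autoImplicit false
set_option maxRecDepth 1000000

namespace Cfsg.Agent.Helper9.TCData.X1690B
open Cfsg.Agent.Helper9.TC2 Cfsg.Agent.Helper9.TCData.X1690

theorem o2_151 : allRange 201434 1334 (fun u => chkO2 tab orb u) = true := by decide +kernel

theorem o2_152 : allRange 202768 1334 (fun u => chkO2 tab orb u) = true := by decide +kernel

theorem o2_153 : allRange 204102 1334 (fun u => chkO2 tab orb u) = true := by decide +kernel

theorem o2_154 : allRange 205436 1334 (fun u => chkO2 tab orb u) = true := by decide +kernel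

theorem o2_155 : allRange 206770 1334 (fun u => chkO2 tab orb u) = true := by decide +kernel

theorem o2_156 : allRange 208104 1334 (fun u => chkO2 tab orb u) = true := by decide +kernel

theorem o2_157 : allRange 209438 1334 (fun u => chkO2 tab orb u) = true := by decide +kernel

theorem o2_158 : allRange 210772 1334 (fun u => chkO2 tab orb u) = true := by decide +kernel


end Cfsg.Agent.Helper9.TCData.X1690B
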