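import Cfsg.Agent.Lib.Helper9.TCData.X1690B.Main

set_option autoImplicit false
set_option maxRecDepth 1000000

namespace Cfsg.Agent.Helper9.TCData.X1690B
open Cfsg.Agent.Helper9.TC2 Cfsg.Agent.Helper9.TCData.X1690

theorem o2_159 : allRange 212106 1334 (fun u => chkO2 tab orb u) = true := by decide +kernel

theorem o2_160 : allRange 213440 1334 (fun u => chkO2 tab orb u) = true := by decide +kernel

theorem o2_161 : allRange 214774 1334 (fun u => chkO2 tab orb u) = true := by decide +kernel

theorem o2_162 : allRange 216108 1334 (fun u => chkO2 tab orb u) = true := by decide +kernel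

theorem o2_163 : allRange 217442 1334 (fun u => chkO2 tab orb u) = true := by decide +kernel

theorem o2_164 : allRange 218776 1334 (fun u => chkO2 tab orb u) = true := by decide +kernel

theorem o2_165 : allRange 220110 1334 (fun u => chkO2 tab orb u) = true := by decide +kernel

theorem o2_166 : allRange 221444 1334 (fun u => chkO2 tab orb u) = true := by decide +kernel


end Cfsg.Agent.Helper9.TCData.X1690B
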