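import Cfsg.Agent.Lib.Helper9.TCData.X1690B.Main

set_option autoImplicit false
set_option maxRecDepth 1000000

namespace Cfsg.Agent.Helper9.TCData.X1690B
open Cfsg.Agent.Helper9.TC2 Cfsg.Agent.Helper9.TCData.X1690

theorem o2_167 : allRange 222778 1334 (fun u => chkO2 tab orb u) = true := by decide +kernel

theorem o2_168 : allRange 224112 1334 (fun u => chkO2 tab orb u) = true := by decide +kernel

theorem o2_169 : allRange 225446 1334 (fun u => chkO2 tab orb u) = true := by decide +kernel

theorem o2_170 : allRange 226780 1334 (fun u => chkO2 tab orb u) = true := by decide +kernel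

theorem o2_171 : allRange 228114 1334 (fun u => chkO2 tab orb u) = true := by decide +kernel

theorem o2_172 : allRange 229448 1334 (fun u => chkO2 tab orb u) = true := by decide +kernel

theorem o2_173 : allRange 230782 1334 (fun u => chkO2 tab orb u) = true := by decide +kernel

theorem o2_174 : allRange 232116 1334 (fun u => chkO2 tab orb u) = true := by decide +kernel


end Cfsg.Agent.Helper9.TCData.X1690B
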