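import Cfsg.Agent.Lib.Helper9.TCData.X1690B.Main

set_option autoImplicit false
set_option maxRecDepth 1000000

namespace Cfsg.Agent.Helper9.TCData.X1690B
open Cfsg.Agent.Helper9.TC2 Cfsg.Agent.Helper9.TCData.X1690

theorem o2_175 : allRange 233450 1334 (fun u => chkO2 tab orb u) = true := by decide +kernel

theorem o2_176 : allRange 234784 1334 (fun u => chkO2 tab orb u) = true := by decide +kernel

theorem o2_177 : allRange 236118 1334 (fun u => chkO2 tab orb u) = true := by decide +kernel

theorem o2_178 : allRange 237452 1334 (fun u => chkO2 tab orb u) = true := by decide +kernel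

theorem o2_179 : allRange 238786 1334 (fun u => chkO2 tab orb u) = true := by decide +kernel

theorem o2_180 : allRange 240120 1334 (fun u => chkO2 tab orb u) = true := by decide +kernel

theorem o2_181 : allRange 241454 1334 (fun u => chkO2 tab orb u) = true := by decide +kernel

theorem o2_182 : allRange 242788 1334 (fun u => chkO2 tab orb u) = true := by decide +kernel


end Cfsg.Agent.Helper9.TCData.X1690B
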