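import Cfsg.Agent.Lib.Helper9.TCData.X1690B.Main

set_option autoImplicit false
set_option maxRecDepth 1000000

namespace Cfsg.Agent.Helper9.TCData.X1690B
open Cfsg.Agent.Helper9.TC2 Cfsg.Agent.Helper9.TCData.X1690

theorem o2_183 : allRange 244122 1334 (fun u => chkO2 tab orb u) = true := by decide +kernel

theorem o2_184 : allRange 245456 1334 (fun u => chkO2 tab orb u) = true := by decide +kernel

theorem o2_185 : allRange 246790 1334 (fun u => chkO2 tab orb u) = true := by decide +kernel

theorem o2_186 : allRange 248124 1334 (fun u => chkO2 tab orb u) = true := by decide +kernel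

theorem o2_187 : allRange 249458 1334 (fun u => chkO2 tab orb u) = true := by decide +kernel

theorem o2_188 : allRange 250792 1334 (fun u => chkO2 tab orb u) = true := by decide +kernel

theorem o2_189 : allRange 252126 1334 (fun u => chkO2 tab orb u) = true := by decide +kernel

theorem o2_190 : allRange 253460 1334 (fun u => chkO2 tab orb u) = true := by decide +kernel


end Cfsg.Agent.Helper9.TCData.X1690B
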