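import Cfsg.Agent.Lib.Helper9.TCData.X1690B.Main

set_option autoImplicit false
set_option maxRecDepth 1000000

namespace Cfsg.Agent.Helper9.TCData.X1690B
open Cfsg.Agent.Helper9.TC2 Cfsg.Agent.Helper9.TCData.X1690

theorem o2_191 : allRange 254794 1334 (fun u => chkO2 tab orb u) = true := by decide +kernel

theorem o2_192 : allRange 256128 1334 (fun u => chkO2 tab orb u) = true := by decide +kernel

theorem o2_193 : allRange 257462 1334 (fun u => chkO2 tab orb u) = true := by decide +kernel

theorem o2_194 : allRange 258796 1334 (fun u => chkO2 tab orb u) = true := by decide +kernel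

theorem o2_195 : allRange 260130 1334 (fun u => chkO2 tab orb u) = true := by decide +kernel

theorem o2_196 : allRange 261464 1334 (fun u => chkO2 tab orb u) = true := by decide +kernel

theorem o2_197 : allRange 262798 1334 (fun u => chkO2 tab orb u) = true := by decide +kernel

theorem o2_198 : allRange 264132 1334 (fun u => chkO2 tab orb u) = true := by decide +kernel


end Cfsg.Agent.Helper9.TCData.X1690B
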