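import Cfsg.Agent.Lib.Helper9.TCData.X1690B.Main

set_option autoImplicit false
set_option maxRecDepth 1000000

namespace Cfsg.Agent.Helper9.TCData.X1690B
open Cfsg.Agent.Helper9.TC2 Cfsg.Agent.Helper9.TCData.X1690

theorem o2_199 : allRange 265466 1334 (fun u => chkO2 tab orb u) = true := by decide +kernel

theorem o2_200 : allRange 266800 1334 (fun u => chkO2 tab orb u) = true := by decide +kernel

theorem o2_201 : allRange 268134 1334 (fun u => chkO2 tab orb u) = true := by decide +kernel

theorem o2_202 : allRange 269468 1334 (fun u => chkO2 tab orb u) = true := by decide +kernel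

theorem o2_203 : allRange 270802 1334 (fun u => chkO2 tab orb u) = true := by decide +kernel

theorem o2_204 : allRange 272136 1334 (fun u => chkO2 tab orb u) = true := by decide +kernel

theorem o2_205 : allRange 273470 1334 (fun u => chkO2 tab orb u) = true := by decide +kernel

theorem o2_206 : allRange 274804 1334 (fun u => chkO2 tab orb u) = true := by decide +kernel


end Cfsg.Agent.Helper9.TCData.X1690B
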