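import Cfsg.Agent.Lib.Helper9.TCData.X1690B.Main

set_option autoImplicit false
set_option maxRecDepth 1000000

namespace Cfsg.Agent.Helper9.TCData.X1690B
open Cfsg.Agent.Helper9.TC2 Cfsg.Agent.Helper9.TCData.X1690

theorem o2_207 : allRange 276138 1334 (fun u => chkO2 tab orb u) = true := by decide +kernel

theorem o2_208 : allRange 277472 1334 (fun u => chkO2 tab orb u) = true := by decide +kernel

theorem o2_209 : allRange 278806 1334 (fun u => chkO2 tab orb u) = true := by decide +kernel

theorem o2_210 : allRange 280140 1334 (fun u => chkO2 tab orb u) = true := by decide +kernel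

theorem o2_211 : allRange 281474 1334 (fun u => chkO2 tab orb u) = true := by decide +kernel

theorem o2_212 : allRange 282808 1334 (fun u => chkO2 tab orb u) = true := by decide +kernel

theorem o2_213 : allRange 284142 1334 (fun u => chkO2 tab orb u) = true := by decide +kernel

theorem o2_214 : allRange 285476 1334 (fun u => chkO2 tab orb u) = true := by decide +kernel


end Cfsg.Agent.Helper9.TCData.X1690B
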