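import Cfsg.Agent.Lib.Helper9.TCData.X1690B.Main

set_option autoImplicit false
set_option maxRecDepth 1000000

namespace Cfsg.Agent.Helper9.TCData.X1690B
open Cfsg.Agent.Helper9.TC2 Cfsg.Agent.Helper9.TCData.X1690

theorem o2_215 : allRange 286810 1334 (fun u => chkO2 tab orb u) = true := by decide +kernel

theorem o2_216 : allRange 288144 1334 (fun u => chkO2 tab orb u) = true := by decide +kernel

theorem o2_217 : allRange 289478 1334 (fun u => chkO2 tab orb u) = true := by decide +kernel

theorem o2_218 : allRange 290812 1334 (fun u => chkO2 tab orb u) = true := by decide +kernel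

theorem o2_219 : allRange 292146 1334 (fun u => chkO2 tab orb u) = true := by decide +kernel

theorem o2_220 : allRange 293480 1334 (fun u => chkO2 tab orb u) = true := by decide +kernel

theorem o2_221 : allRange 294814 1334 (fun u => chkO2 tab orb u) = true := by decide +kernel

theorem o2_222 : allRange 296148 1334 (fun u => chkO2 tab orb u) = true := by decide +kernel


end Cfsg.Agent.Helper9.TCData.X1690B
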