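import Cfsg.Agent.Lib.Helper9.TCData.X1690B.Main

set_option autoImplicit false
set_option maxRecDepth 1000000

namespace Cfsg.Agent.Helper9.TCData.X1690B
open Cfsg.Agent.Helper9.TC2 Cfsg.Agent.Helper9.TCData.X1690

theorem o2_223 : allRange 297482 1334 (fun u => chkO2 tab orb u) = true := by decide +kernel

theorem o2_224 : allRange 298816 1334 (fun u => chkO2 tab orb u) = true := by decide +kernel

theorem o2_225 : allRange 300150 1334 (fun u => chkO2 tab orb u) = true := by decide +kernel

theorem o2_226 : allRange 301484 1334 (fun u => chkO2 tab orb u) = true := by decide +kernel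

theorem o2_227 : allRange 302818 1334 (fun u => chkO2 tab orb u) = true := by decide +kernel

theorem o2_228 : allRange 304152 1334 (fun u => chkO2 tab orb u) = true := by decide +kernel

theorem o2_229 : allRange 305486 1334 (fun u => chkO2 tab orb u) = true := by decide +kernel

theorem o2_230 : allRange 306820 116 (fun u => chkO2 tab orb u) = true := by decide +kernel


end Cfsg.Agent.Helper9.TCData.X1690B
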