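import Cfsg.Agent.Lib.Helper9.TCData.X1690B.Main

set_option autoImplicit false
set_option maxRecDepth 1000000

namespace Cfsg.Agent.Helper9.TCData.X1690B
open Cfsg.Agent.Helper9.TC2 Cfsg.Agent.Helper9.TCData.X1690

theorem ol_24 : allRange 192000 8000 (fun u => Nat.blt (orb.lab u) 3) = true := by decide +kernel

theorem ol_25 : allRange 200000 8000 (fun u => Nat.blt (orb.lab u) 3) = true := by decide +kernel

theorem ol_26 : allRange 208000 8000 (fun u => Nat.blt (orb.lab u) 3) = true := by decide +kernel

theorem ol_27 : allRange 216000 8000 (fun u => Nat.blt (orb.lab u) 3) = true := by decide +kernel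

theorem ol_28 : allRange 224000 8000 (fun u => Nat.blt (orb.lab u) 3) = true := by decide +kernel

theorem ol_29 : allRange 232000 8000 (fun u => Nat.blt (orb.lab u) 3) = true := by decide +kernel

theorem ol_30 : allRange 240000 8000 (fun u => Nat.blt (orb.lab u) 3) = true := by decide +kernel

theorem ol_31 : allRange 248000 8000 (fun u => Nat.blt (orb.lab u) 3) = true := by decide +kernel


end Cfsg.Agent.Helper9.TCData.X1690B
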