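import Cfsg.Agent.Lib.Helper9.TCData.X1690B.Main

set_option autoImplicit false
set_option maxRecDepth 1000000

namespace Cfsg.Agent.Helper9.TCData.X1690B
open Cfsg.Agent.Helper9.TC2 Cfsg.Agent.Helper9.TCData.X1690

theorem ol_32 : allRange 256000 8000 (fun u => Nat.blt (orb.lab u) 3) = true := by decide +kernel

theorem ol_33 : allRange 264000 8000 (fun u => Nat.blt (orb.lab u) 3) = true := by decide +kernel

theorem ol_34 : allRange 272000 8000 (fun u => Nat.blt (orb.lab u) 3) = true := by decide +kernel

theorem ol_35 : allRange 280000 8000 (fun u => Nat.blt (orb.lab u) 3) = true := by decide +kernel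

theorem ol_36 : allRange 288000 8000 (fun u => Nat.blt (orb.lab u) 3) = true := by decide +kernel

theorem ol_37 : allRange 296000 8000 (fun u => Nat.blt (orb.lab u) 3) = true := by decide +kernel

theorem ol_38 : allRange 304000 2936 (fun u => Nat.blt (orb.lab u) 3) = true := by decide +kernel


end Cfsg.Agent.Helper9.TCData.X1690B
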