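import Cfsg.Agent.Lib.Helper9.TCData.X1690B.Main

set_option autoImplicit false
set_option maxRecDepth 1000000

namespace Cfsg.Agent.Helper9.TCData.X1690B
open Cfsg.Agent.Helper9.TC2 Cfsg.Agent.Helper9.TCData.X1690

theorem xp_0 : allRange 0 301 (fun u => chkXP tab xc xw u) = true := by decide +kernel

theorem xp_1 : allRange 301 301 (fun u => chkXP tab xc xw u) = true := by decide +kernel

theorem xp_2 : allRange 602 301 (fun u => chkXP tab xc xw u) = true := by decide +kernel

theorem xp_3 : allRange 903 301 (fun u => chkXP tab xc xw u) = true := by decide +kernel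

theorem xp_4 : allRange 1204 301 (fun u => chkXP tab xc xw u) = true := by decide +kernel

theorem xp_5 : allRange 1505 301 (fun u => chkXP tab xc xw u) = true := by decide +kernel

theorem xp_6 : allRange 1806 301 (fun u => chkXP tab xc xw u) = true := by decide +kernel

theorem xp_7 : allRange 2107 301 (fun u => chkXP tab xc xw u) = true := by decide +kernel


end Cfsg.Agent.Helper9.TCData.X1690B
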