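import Cfsg.Agent.Lib.Helper9.TCData.X1690B.Main

set_option autoImplicit false
set_option maxRecDepth 1000000

namespace Cfsg.Agent.Helper9.TCData.X1690B
open Cfsg.Agent.Helper9.TC2 Cfsg.Agent.Helper9.TCData.X1690

theorem xp_8 : allRange 2408 301 (fun u => chkXP tab xc xw u) = true := by decide +kernel

theorem xp_9 : allRange 2709 301 (fun u => chkXP tab xc xw u) = true := by decide +kernel

theorem xp_10 : allRange 3010 301 (fun u => chkXP tab xc xw u) = true := by decide +kernel

theorem xp_11 : allRange 3311 301 (fun u => chkXP tab xc xw u) = true := by decide +kernel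

theorem xp_12 : allRange 3612 301 (fun u => chkXP tab xc xw u) = true := by decide +kernel

theorem xp_13 : allRange 3913 301 (fun u => chkXP tab xc xw u) = true := by decide +kernel

theorem xp_14 : allRange 4214 301 (fun u => chkXP tab xc xw u) = true := by decide +kernel

theorem xp_15 : allRange 4515 301 (fun u => chkXP tab xc xw u) = true := by decide +kernel


end Cfsg.Agent.Helper9.TCData.X1690B
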