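import Cfsg.Agent.Lib.Helper9.TCData.X1690B.Main

set_option autoImplicit false
set_option maxRecDepth 1000000

namespace Cfsg.Agent.Helper9.TCData.X1690B
open Cfsg.Agent.Helper9.TC2 Cfsg.Agent.Helper9.TCData.X1690

theorem xp_16 : allRange 4816 301 (fun u => chkXP tab xc xw u) = true := by decide +kernel

theorem xp_17 : allRange 5117 301 (fun u => chkXP tab xc xw u) = true := by decide +kernel

theorem xp_18 : allRange 5418 301 (fun u => chkXP tab xc xw u) = true := by decide +kernel

theorem xp_19 : allRange 5719 301 (fun u => chkXP tab xc xw u) = true := by decide +kernel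

theorem xp_20 : allRange 6020 301 (fun u => chkXP tab xc xw u) = true := by decide +kernel

theorem xp_21 : allRange 6321 301 (fun u => chkXP tab xc xw u) = true := by decide +kernel

theorem xp_22 : allRange 6622 301 (fun u => chkXP tab xc xw u) = true := by decide +kernel

theorem xp_23 : allRange 6923 301 (fun u => chkXP tab xc xw u) = true := by decide +kernel


end Cfsg.Agent.Helper9.TCData.X1690B
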