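import Cfsg.Agent.Lib.Helper9.TCData.X1690B.Main

set_option autoImplicit false
set_option maxRecDepth 1000000

namespace Cfsg.Agent.Helper9.TCData.X1690B
open Cfsg.Agent.Helper9.TC2 Cfsg.Agent.Helper9.TCData.X1690

theorem xp_24 : allRange 7224 301 (fun u => chkXP tab xc xw u) = true := by decide +kernel

theorem xp_25 : allRange 7525 301 (fun u => chkXP tab xc xw u) = true := by decide +kernel

theorem xp_26 : allRange 7826 301 (fun u => chkXP tab xc xw u) = true := by decide +kernel

theorem xp_27 : allRange 8127 301 (fun u => chkXP tab xc xw u) = true := by decide +kernel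

theorem xp_28 : allRange 8428 301 (fun u => chkXP tab xc xw u) = true := by decide +kernel

theorem xp_29 : allRange 8729 301 (fun u => chkXP tab xc xw u) = true := by decide +kernel

theorem xp_30 : allRange 9030 301 (fun u => chkXP tab xc xw u) = true := by decide +kernel

theorem xp_31 : allRange 9331 301 (fun u => chkXP tab xc xw u) = true := by decide +kernel


end Cfsg.Agent.Helper9.TCData.X1690B
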