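import Cfsg.Agent.Lib.Helper9.TCData.X1690B.Main

set_option autoImplicit false
set_option maxRecDepth 1000000

namespace Cfsg.Agent.Helper9.TCData.X1690B
open Cfsg.Agent.Helper9.TC2 Cfsg.Agent.Helper9.TCData.X1690

theorem xp_32 : allRange 9632 301 (fun u => chkXP tab xc xw u) = true := by decide +kernel

theorem xp_33 : allRange 9933 301 (fun u => chkXP tab xc xw u) = true := by decide +kernel

theorem xp_34 : allRange 10234 301 (fun u => chkXP tab xc xw u) = true := by decide +kernel

theorem xp_35 : allRange 10535 301 (fun u => chkXP tab xc xw u) = true := by decide +kernel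

theorem xp_36 : allRange 10836 301 (fun u => chkXP tab xc xw u) = true := by decide +kernel

theorem xp_37 : allRange 11137 301 (fun u => chkXP tab xc xw u) = true := by decide +kernel

theorem xp_38 : allRange 11438 301 (fun u => chkXP tab xc xw u) = true := by decide +kernel

theorem xp_39 : allRange 11739 301 (fun u => chkXP tab xc xw u) = true := by decide +kernel


end Cfsg.Agent.Helper9.TCData.X1690B
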