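import Cfsg.Agent.Lib.Helper9.TCData.X1690B.Main

set_option autoImplicit false
set_option maxRecDepth 1000000

namespace Cfsg.Agent.Helper9.TCData.X1690B
open Cfsg.Agent.Helper9.TC2 Cfsg.Agent.Helper9.TCData.X1690

theorem xp_40 : allRange 12040 301 (fun u => chkXP tab xc xw u) = true := by decide +kernel

theorem xp_41 : allRange 12341 301 (fun u => chkXP tab xc xw u) = true := by decide +kernel

theorem xp_42 : allRange 12642 301 (fun u => chkXP tab xc xw u) = true := by decide +kernel

theorem xp_43 : allRange 12943 301 (fun u => chkXP tab xc xw u) = true := by decide +kernel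

theorem xp_44 : allRange 13244 301 (fun u => chkXP tab xc xw u) = true := by decide +kernel

theorem xp_45 : allRange 13545 301 (fun u => chkXP tab xc xw u) = true := by decide +kernel

theorem xp_46 : allRange 13846 301 (fun u => chkXP tab xc xw u) = true := by decide +kernel

theorem xp_47 : allRange 14147 301 (fun u => chkXP tab xc xw u) = true := by decide +kernel


end Cfsg.Agent.Helper9.TCData.X1690B
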