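import Cfsg.Agent.Lib.Helper9.TCData.X1690B.Main

set_option autoImplicit false
set_option maxRecDepth 1000000

namespace Cfsg.Agent.Helper9.TCData.X1690B
open Cfsg.Agent.Helper9.TC2 Cfsg.Agent.Helper9.TCData.X1690

theorem xp_48 : allRange 14448 301 (fun u => chkXP tab xc xw u) = true := by decide +kernel

theorem xp_49 : allRange 14749 301 (fun u => chkXP tab xc xw u) = true := by decide +kernel

theorem xp_50 : allRange 15050 301 (fun u => chkXP tab xc xw u) = true := by decide +kernel

theorem xp_51 : allRange 15351 301 (fun u => chkXP tab xc xw u) = true := by decide +kernel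

theorem xp_52 : allRange 15652 301 (fun u => chkXP tab xc xw u) = true := by decide +kernel

theorem xp_53 : allRange 15953 301 (fun u => chkXP tab xc xw u) = true := by decide +kernel

theorem xp_54 : allRange 16254 301 (fun u => chkXP tab xc xw u) = true := by decide +kernel

theorem xp_55 : allRange 16555 301 (fun u => chkXP tab xc xw u) = true := by decide +kernel


end Cfsg.Agent.Helper9.TCData.X1690B
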