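import Cfsg.Agent.Lib.Helper9.TCData.X1690B.Main

set_option autoImplicit false
set_option maxRecDepth 1000000

namespace Cfsg.Agent.Helper9.TCData.X1690B
open Cfsg.Agent.Helper9.TC2 Cfsg.Agent.Helper9.TCData.X1690

theorem xp_56 : allRange 16856 301 (fun u => chkXP tab xc xw u) = true := by decide +kernel

theorem xp_57 : allRange 17157 301 (fun u => chkXP tab xc xw u) = true := by decide +kernel

theorem xp_58 : allRange 17458 301 (fun u => chkXP tab xc xw u) = true := by decide +kernel

theorem xp_59 : allRange 17759 301 (fun u => chkXP tab xc xw u) = true := by decide +kernel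

theorem xp_60 : allRange 18060 301 (fun u => chkXP tab xc xw u) = true := by decide +kernel

theorem xp_61 : allRange 18361 301 (fun u => chkXP tab xc xw u) = true := by decide +kernel

theorem xp_62 : allRange 18662 301 (fun u => chkXP tab xc xw u) = true := by decide +kernel

theorem xp_63 : allRange 18963 301 (fun u => chkXP tab xc xw u) = true := by decide +kernel


end Cfsg.Agent.Helper9.TCData.X1690B
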