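import Cfsg.Agent.Lib.Helper9.TCData.X1690B.Main

set_option autoImplicit false
set_option maxRecDepth 1000000

namespace Cfsg.Agent.Helper9.TCData.X1690B
open Cfsg.Agent.Helper9.TC2 Cfsg.Agent.Helper9.TCData.X1690

theorem xp_80 : allRange 24080 301 (fun u => chkXP tab xc xw u) = true := by decide +kernel

theorem xp_81 : allRange 24381 301 (fun u => chkXP tab xc xw u) = true := by decide +kernel

theorem xp_82 : allRange 24682 301 (fun u => chkXP tab xc xw u) = true := by decide +kernel

theorem xp_83 : allRange 24983 301 (fun u => chkXP tab xc xw u) = true := by decide +kernel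

theorem xp_84 : allRange 25284 301 (fun u => chkXP tab xc xw u) = true := by decide +kernel

theorem xp_85 : allRange 25585 301 (fun u => chkXP tab xc xw u) = true := by decide +kernel

theorem xp_86 : allRange 25886 301 (fun u => chkXP tab xc xw u) = true := by decide +kernel

theorem xp_87 : allRange 26187 301 (fun u => chkXP tab xc xw u) = true := by decide +kernel


end Cfsg.Agent.Helper9.TCData.X1690B
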