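import Cfsg.Agent.Lib.Helper9.TCData.X1690B.Main

set_option autoImplicit false
set_option maxRecDepth 1000000

namespace Cfsg.Agent.Helper9.TCData.X1690B
open Cfsg.Agent.Helper9.TC2 Cfsg.Agent.Helper9.TCData.X1690

theorem xp_96 : allRange 28896 301 (fun u => chkXP tab xc xw u) = true := by decide +kernel

theorem xp_97 : allRange 29197 301 (fun u => chkXP tab xc xw u) = true := by decide +kernel

theorem xp_98 : allRange 29498 301 (fun u => chkXP tab xc xw u) = true := by decide +kernel

theorem xp_99 : allRange 29799 301 (fun u => chkXP tab xc xw u) = true := by decide +kernel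

theorem xp_100 : allRange 30100 301 (fun u => chkXP tab xc xw u) = true := by decide +kernel

theorem xp_101 : allRange 30401 301 (fun u => chkXP tab xc xw u) = true := by decide +kernel

theorem xp_102 : allRange 30702 301 (fun u => chkXP tab xc xw u) = true := by decide +kernel

theorem xp_103 : allRange 31003 301 (fun u => chkXP tab xc xw u) = true := by decide +kernel


end Cfsg.Agent.Helper9.TCData.X1690B
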