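import Cfsg.Agent.Lib.Helper9.TCData.X1690B.Main

set_option autoImplicit false
set_option maxRecDepth 1000000

namespace Cfsg.Agent.Helper9.TCData.X1690B
open Cfsg.Agent.Helper9.TC2 Cfsg.Agent.Helper9.TCData.X1690

theorem xp_104 : allRange 31304 301 (fun u => chkXP tab xc xw u) = true := by decide +kernel

theorem xp_105 : allRange 31605 301 (fun u => chkXP tab xc xw u) = true := by decide +kernel

theorem xp_106 : allRange 31906 301 (fun u => chkXP tab xc xw u) = true := by decide +kernel

theorem xp_107 : allRange 32207 301 (fun u => chkXP tab xc xw u) = true := by decide +kernel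

theorem xp_108 : allRange 32508 301 (fun u => chkXP tab xc xw u) = true := by decide +kernel

theorem xp_109 : allRange 32809 301 (fun u => chkXP tab xc xw u) = true := by decide +kernel

theorem xp_110 : allRange 33110 301 (fun u => chkXP tab xc xw u) = true := by decide +kernel

theorem xp_111 : allRange 33411 301 (fun u => chkXP tab xc xw u) = true := by decide +kernel


end Cfsg.Agent.Helper9.TCData.X1690B
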