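import Cfsg.Agent.Lib.Helper9.TCData.X1690B.Main

set_option autoImplicit false
set_option maxRecDepth 1000000

namespace Cfsg.Agent.Helper9.TCData.X1690B
open Cfsg.Agent.Helper9.TC2 Cfsg.Agent.Helper9.TCData.X1690

theorem xp_112 : allRange 33712 301 (fun u => chkXP tab xc xw u) = true := by decide +kernel

theorem xp_113 : allRange 34013 301 (fun u => chkXP tab xc xw u) = true := by decide +kernel

theorem xp_114 : allRange 34314 301 (fun u => chkXP tab xc xw u) = true := by decide +kernel

theorem xp_115 : allRange 34615 301 (fun u => chkXP tab xc xw u) = true := by decide +kernel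

theorem xp_116 : allRange 34916 301 (fun u => chkXP tab xc xw u) = true := by decide +kernel

theorem xp_117 : allRange 35217 301 (fun u => chkXP tab xc xw u) = true := by decide +kernel

theorem xp_118 : allRange 35518 301 (fun u => chkXP tab xc xw u) = true := by decide +kernel

theorem xp_119 : allRange 35819 301 (fun u => chkXP tab xc xw u) = true := by decide +kernel


end Cfsg.Agent.Helper9.TCData.X1690B
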