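import Cfsg.Agent.Lib.Helper9.TCData.X1690B.Main

set_option autoImplicit false
set_option maxRecDepth 1000000

namespace Cfsg.Agent.Helper9.TCData.X1690B
open Cfsg.Agent.Helper9.TC2 Cfsg.Agent.Helper9.TCData.X1690

theorem xp_120 : allRange 36120 301 (fun u => chkXP tab xc xw u) = true := by decide +kernel

theorem xp_121 : allRange 36421 301 (fun u => chkXP tab xc xw u) = true := by decide +kernel

theorem xp_122 : allRange 36722 301 (fun u => chkXP tab xc xw u) = true := by decide +kernel

theorem xp_123 : allRange 37023 301 (fun u => chkXP tab xc xw u) = true := by decide +kernel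

theorem xp_124 : allRange 37324 301 (fun u => chkXP tab xc xw u) = true := by decide +kernel

theorem xp_125 : allRange 37625 301 (fun u => chkXP tab xc xw u) = true := by decide +kernel

theorem xp_126 : allRange 37926 301 (fun u => chkXP tab xc xw u) = true := by decide +kernel

theorem xp_127 : allRange 38227 301 (fun u => chkXP tab xc xw u) = true := by decide +kernel


end Cfsg.Agent.Helper9.TCData.X1690B
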