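import Cfsg.Agent.Lib.Helper9.TCData.X1690B.Main

set_option autoImplicit false
set_option maxRecDepth 1000000

namespace Cfsg.Agent.Helper9.TCData.X1690B
open Cfsg.Agent.Helper9.TC2 Cfsg.Agent.Helper9.TCData.X1690

theorem xp_128 : allRange 38528 301 (fun u => chkXP tab xc xw u) = true := by decide +kernel

theorem xp_129 : allRange 38829 301 (fun u => chkXP tab xc xw u) = true := by decide +kernel

theorem xp_130 : allRange 39130 301 (fun u => chkXP tab xc xw u) = true := by decide +kernel

theorem xp_131 : allRange 39431 301 (fun u => chkXP tab xc xw u) = true := by decide +kernel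

theorem xp_132 : allRange 39732 301 (fun u => chkXP tab xc xw u) = true := by decide +kernel

theorem xp_133 : allRange 40033 301 (fun u => chkXP tab xc xw u) = true := by decide +kernel

theorem xp_134 : allRange 40334 301 (fun u => chkXP tab xc xw u) = true := by decide +kernel

theorem xp_135 : allRange 40635 301 (fun u => chkXP tab xc xw u) = true := by decide +kernel


end Cfsg.Agent.Helper9.TCData.X1690B
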