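import Cfsg.Agent.Lib.Helper9.TCData.X1690B.Main

set_option autoImplicit false
set_option maxRecDepth 1000000

namespace Cfsg.Agent.Helper9.TCData.X1690B
open Cfsg.Agent.Helper9.TC2 Cfsg.Agent.Helper9.TCData.X1690

theorem xp_136 : allRange 40936 301 (fun u => chkXP tab xc xw u) = true := by decide +kernel

theorem xp_137 : allRange 41237 301 (fun u => chkXP tab xc xw u) = true := by decide +kernel

theorem xp_138 : allRange 41538 301 (fun u => chkXP tab xc xw u) = true := by decide +kernel

theorem xp_139 : allRange 41839 301 (fun u => chkXP tab xc xw u) = true := by decide +kernel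

theorem xp_140 : allRange 42140 301 (fun u => chkXP tab xc xw u) = true := by decide +kernel

theorem xp_141 : allRange 42441 301 (fun u => chkXP tab xc xw u) = true := by decide +kernel

theorem xp_142 : allRange 42742 301 (fun u => chkXP tab xc xw u) = true := by decide +kernel

theorem xp_143 : allRange 43043 301 (fun u => chkXP tab xc xw u) = true := by decide +kernel


end Cfsg.Agent.Helper9.TCData.X1690B
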