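import Cfsg.Agent.Lib.Helper9.TCData.X1690B.Main

set_option autoImplicit false
set_option maxRecDepth 1000000

namespace Cfsg.Agent.Helper9.TCData.X1690B
open Cfsg.Agent.Helper9.TC2 Cfsg.Agent.Helper9.TCData.X1690

theorem xp_144 : allRange 43344 301 (fun u => chkXP tab xc xw u) = true := by decide +kernel

theorem xp_145 : allRange 43645 301 (fun u => chkXP tab xc xw u) = true := by decide +kernel

theorem xp_146 : allRange 43946 301 (fun u => chkXP tab xc xw u) = true := by decide +kernel

theorem xp_147 : allRange 44247 301 (fun u => chkXP tab xc xw u) = true := by decide +kernel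

theorem xp_148 : allRange 44548 301 (fun u => chkXP tab xc xw u) = true := by decide +kernel

theorem xp_149 : allRange 44849 301 (fun u => chkXP tab xc xw u) = true := by decide +kernel

theorem xp_150 : allRange 45150 301 (fun u => chkXP tab xc xw u) = true := by decide +kernel

theorem xp_151 : allRange 45451 301 (fun u => chkXP tab xc xw u) = true := by decide +kernel


end Cfsg.Agent.Helper9.TCData.X1690B
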