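import Cfsg.Agent.Lib.Helper9.TCData.X1690B.Main

set_option autoImplicit false
set_option maxRecDepth 1000000

namespace Cfsg.Agent.Helper9.TCData.X1690B
open Cfsg.Agent.Helper9.TC2 Cfsg.Agent.Helper9.TCData.X1690

theorem xp_152 : allRange 45752 301 (fun u => chkXP tab xc xw u) = true := by decide +kernel

theorem xp_153 : allRange 46053 301 (fun u => chkXP tab xc xw u) = true := by decide +kernel

theorem xp_154 : allRange 46354 301 (fun u => chkXP tab xc xw u) = true := by decide +kernel

theorem xp_155 : allRange 46655 301 (fun u => chkXP tab xc xw u) = true := by decide +kernel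

theorem xp_156 : allRange 46956 301 (fun u => chkXP tab xc xw u) = true := by decide +kernel

theorem xp_157 : allRange 47257 301 (fun u => chkXP tab xc xw u) = true := by decide +kernel

theorem xp_158 : allRange 47558 301 (fun u => chkXP tab xc xw u) = true := by decide +kernel

theorem xp_159 : allRange 47859 301 (fun u => chkXP tab xc xw u) = true := by decide +kernel


end Cfsg.Agent.Helper9.TCData.X1690B
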