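import Cfsg.Agent.Lib.Helper9.TCData.X1690B.Main

set_option autoImplicit false
set_option maxRecDepth 1000000

namespace Cfsg.Agent.Helper9.TCData.X1690B
open Cfsg.Agent.Helper9.TC2 Cfsg.Agent.Helper9.TCData.X1690

theorem xp_168 : allRange 50568 301 (fun u => chkXP tab xc xw u) = true := by decide +kernel

theorem xp_169 : allRange 50869 301 (fun u => chkXP tab xc xw u) = true := by decide +kernel

theorem xp_170 : allRange 51170 301 (fun u => chkXP tab xc xw u) = true := by decide +kernel

theorem xp_171 : allRange 51471 301 (fun u => chkXP tab xc xw u) = true := by decide +kernel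

theorem xp_172 : allRange 51772 301 (fun u => chkXP tab xc xw u) = true := by decide +kernel

theorem xp_173 : allRange 52073 301 (fun u => chkXP tab xc xw u) = true := by decide +kernel

theorem xp_174 : allRange 52374 301 (fun u => chkXP tab xc xw u) = true := by decide +kernel

theorem xp_175 : allRange 52675 301 (fun u => chkXP tab xc xw u) = true := by decide +kernel


end Cfsg.Agent.Helper9.TCData.X1690B
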