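import Cfsg.Agent.Lib.Helper9.TCData.X1690B.Main

set_option autoImplicit false
set_option maxRecDepth 1000000

namespace Cfsg.Agent.Helper9.TCData.X1690B
open Cfsg.Agent.Helper9.TC2 Cfsg.Agent.Helper9.TCData.X1690

theorem xp_176 : allRange 52976 301 (fun u => chkXP tab xc xw u) = true := by decide +kernel

theorem xp_177 : allRange 53277 301 (fun u => chkXP tab xc xw u) = true := by decide +kernel

theorem xp_178 : allRange 53578 301 (fun u => chkXP tab xc xw u) = true := by decide +kernel

theorem xp_179 : allRange 53879 301 (fun u => chkXP tab xc xw u) = true := by decide +kernel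

theorem xp_180 : allRange 54180 301 (fun u => chkXP tab xc xw u) = true := by decide +kernel

theorem xp_181 : allRange 54481 301 (fun u => chkXP tab xc xw u) = true := by decide +kernel

theorem xp_182 : allRange 54782 301 (fun u => chkXP tab xc xw u) = true := by decide +kernel

theorem xp_183 : allRange 55083 301 (fun u => chkXP tab xc xw u) = true := by decide +kernel


end Cfsg.Agent.Helper9.TCData.X1690B
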