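import Cfsg.Agent.Lib.Helper9.TCData.X1690B.Main

set_option autoImplicit false
set_option maxRecDepth 1000000

namespace Cfsg.Agent.Helper9.TCData.X1690B
open Cfsg.Agent.Helper9.TC2 Cfsg.Agent.Helper9.TCData.X1690

theorem xp_184 : allRange 55384 301 (fun u => chkXP tab xc xw u) = true := by decide +kernel

theorem xp_185 : allRange 55685 301 (fun u => chkXP tab xc xw u) = true := by decide +kernel

theorem xp_186 : allRange 55986 301 (fun u => chkXP tab xc xw u) = true := by decide +kernel

theorem xp_187 : allRange 56287 301 (fun u => chkXP tab xc xw u) = true := by decide +kernel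

theorem xp_188 : allRange 56588 301 (fun u => chkXP tab xc xw u) = true := by decide +kernel

theorem xp_189 : allRange 56889 301 (fun u => chkXP tab xc xw u) = true := by decide +kernel

theorem xp_190 : allRange 57190 301 (fun u => chkXP tab xc xw u) = true := by decide +kernel

theorem xp_191 : allRange 57491 301 (fun u => chkXP tab xc xw u) = true := by decide +kernel


end Cfsg.Agent.Helper9.TCData.X1690B
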