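import Cfsg.Agent.Lib.Helper9.TCData.X1690B.Main

set_option autoImplicit false
set_option maxRecDepth 1000000

namespace Cfsg.Agent.Helper9.TCData.X1690B
open Cfsg.Agent.Helper9.TC2 Cfsg.Agent.Helper9.TCData.X1690

theorem xp_192 : allRange 57792 301 (fun u => chkXP tab xc xw u) = true := by decide +kernel

theorem xp_193 : allRange 58093 301 (fun u => chkXP tab xc xw u) = true := by decide +kernel

theorem xp_194 : allRange 58394 301 (fun u => chkXP tab xc xw u) = true := by decide +kernel

theorem xp_195 : allRange 58695 301 (fun u => chkXP tab xc xw u) = true := by decide +kernel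

theorem xp_196 : allRange 58996 301 (fun u => chkXP tab xc xw u) = true := by decide +kernel

theorem xp_197 : allRange 59297 301 (fun u => chkXP tab xc xw u) = true := by decide +kernel

theorem xp_198 : allRange 59598 301 (fun u => chkXP tab xc xw u) = true := by decide +kernel

theorem xp_199 : allRange 59899 301 (fun u => chkXP tab xc xw u) = true := by decide +kernel


end Cfsg.Agent.Helper9.TCData.X1690B
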