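import Cfsg.Agent.Lib.Helper9.TCData.X1690B.Main

set_option autoImplicit false
set_option maxRecDepth 1000000

namespace Cfsg.Agent.Helper9.TCData.X1690B
open Cfsg.Agent.Helper9.TC2 Cfsg.Agent.Helper9.TCData.X1690

theorem xp_200 : allRange 60200 301 (fun u => chkXP tab xc xw u) = true := by decide +kernel

theorem xp_201 : allRange 60501 301 (fun u => chkXP tab xc xw u) = true := by decide +kernel

theorem xp_202 : allRange 60802 301 (fun u => chkXP tab xc xw u) = true := by decide +kernel

theorem xp_203 : allRange 61103 301 (fun u => chkXP tab xc xw u) = true := by decide +kernel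

theorem xp_204 : allRange 61404 301 (fun u => chkXP tab xc xw u) = true := by decide +kernel

theorem xp_205 : allRange 61705 301 (fun u => chkXP tab xc xw u) = true := by decide +kernel

theorem xp_206 : allRange 62006 301 (fun u => chkXP tab xc xw u) = true := by decide +kernel

theorem xp_207 : allRange 62307 301 (fun u => chkXP tab xc xw u) = true := by decide +kernel


end Cfsg.Agent.Helper9.TCData.X1690B
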