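import Cfsg.Agent.Lib.Helper9.TCData.X1690B.Main

set_option autoImplicit false
set_option maxRecDepth 1000000

namespace Cfsg.Agent.Helper9.TCData.X1690B
open Cfsg.Agent.Helper9.TC2 Cfsg.Agent.Helper9.TCData.X1690

theorem xp_208 : allRange 62608 301 (fun u => chkXP tab xc xw u) = true := by decide +kernel

theorem xp_209 : allRange 62909 301 (fun u => chkXP tab xc xw u) = true := by decide +kernel

theorem xp_210 : allRange 63210 301 (fun u => chkXP tab xc xw u) = true := by decide +kernel

theorem xp_211 : allRange 63511 301 (fun u => chkXP tab xc xw u) = true := by decide +kernel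

theorem xp_212 : allRange 63812 301 (fun u => chkXP tab xc xw u) = true := by decide +kernel

theorem xp_213 : allRange 64113 301 (fun u => chkXP tab xc xw u) = true := by decide +kernel

theorem xp_214 : allRange 64414 301 (fun u => chkXP tab xc xw u) = true := by decide +kernel

theorem xp_215 : allRange 64715 301 (fun u => chkXP tab xc xw u) = true := by decide +kernel


end Cfsg.Agent.Helper9.TCData.X1690B
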