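import Cfsg.Agent.Lib.Helper9.TCData.X1690B.Main

set_option autoImplicit false
set_option maxRecDepth 1000000

namespace Cfsg.Agent.Helper9.TCData.X1690B
open Cfsg.Agent.Helper9.TC2 Cfsg.Agent.Helper9.TCData.X1690

theorem xp_216 : allRange 65016 301 (fun u => chkXP tab xc xw u) = true := by decide +kernel

theorem xp_217 : allRange 65317 301 (fun u => chkXP tab xc xw u) = true := by decide +kernel

theorem xp_218 : allRange 65618 301 (fun u => chkXP tab xc xw u) = true := by decide +kernel

theorem xp_219 : allRange 65919 301 (fun u => chkXP tab xc xw u) = true := by decide +kernel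

theorem xp_220 : allRange 66220 301 (fun u => chkXP tab xc xw u) = true := by decide +kernel

theorem xp_221 : allRange 66521 301 (fun u => chkXP tab xc xw u) = true := by decide +kernel

theorem xp_222 : allRange 66822 301 (fun u => chkXP tab xc xw u) = true := by decide +kernel

theorem xp_223 : allRange 67123 301 (fun u => chkXP tab xc xw u) = true := by decide +kernel


end Cfsg.Agent.Helper9.TCData.X1690B
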