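import Cfsg.Agent.Lib.Helper9.TCData.X1690B.Main

set_option autoImplicit false
set_option maxRecDepth 1000000

namespace Cfsg.Agent.Helper9.TCData.X1690B
open Cfsg.Agent.Helper9.TC2 Cfsg.Agent.Helper9.TCData.X1690

theorem xp_224 : allRange 67424 301 (fun u => chkXP tab xc xw u) = true := by decide +kernel

theorem xp_225 : allRange 67725 301 (fun u => chkXP tab xc xw u) = true := by decide +kernel

theorem xp_226 : allRange 68026 301 (fun u => chkXP tab xc xw u) = true := by decide +kernel

theorem xp_227 : allRange 68327 301 (fun u => chkXP tab xc xw u) = true := by decide +kernel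

theorem xp_228 : allRange 68628 301 (fun u => chkXP tab xc xw u) = true := by decide +kernel

theorem xp_229 : allRange 68929 301 (fun u => chkXP tab xc xw u) = true := by decide +kernel

theorem xp_230 : allRange 69230 301 (fun u => chkXP tab xc xw u) = true := by decide +kernel

theorem xp_231 : allRange 69531 301 (fun u => chkXP tab xc xw u) = true := by decide +kernel


end Cfsg.Agent.Helper9.TCData.X1690B
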