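import Cfsg.Agent.Lib.Helper9.TCData.X1690B.Main

set_option autoImplicit false
set_option maxRecDepth 1000000

namespace Cfsg.Agent.Helper9.TCData.X1690B
open Cfsg.Agent.Helper9.TC2 Cfsg.Agent.Helper9.TCData.X1690

theorem o1_160 : allRange 44800 280 (fun u => chkO1 tab orb u) = true := by decide +kernel

theorem o1_161 : allRange 45080 280 (fun u => chkO1 tab orb u) = true := by decide +kernel

theorem o1_162 : allRange 45360 280 (fun u => chkO1 tab orb u) = true := by decide +kernel

theorem o1_163 : allRange 45640 280 (fun u => chkO1 tab orb u) = true := by decide +kernel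

theorem o1_164 : allRange 45920 280 (fun u => chkO1 tab orb u) = true := by decide +kernel

theorem o1_165 : allRange 46200 280 (fun u => chkO1 tab orb u) = true := by decide +kernel

theorem o1_166 : allRange 46480 280 (fun u => chkO1 tab orb u) = true := by decide +kernel

theorem o1_167 : allRange 46760 280 (fun u => chkO1 tab orb u) = true := by decide +kernel


end Cfsg.Agent.Helper9.TCData.X1690B
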