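import Cfsg.Agent.Lib.Helper9.TCData.X1690B.Main

set_option autoImplicit false
set_option maxRecDepth 1000000

namespace Cfsg.Agent.Helper9.TCData.X1690B
open Cfsg.Agent.Helper9.TC2 Cfsg.Agent.Helper9.TCData.X1690

theorem xp_232 : allRange 69832 301 (fun u => chkXP tab xc xw u) = true := by decide +kernel

theorem xp_233 : allRange 70133 301 (fun u => chkXP tab xc xw u) = true := by decide +kernel

theorem xp_234 : allRange 70434 301 (fun u => chkXP tab xc xw u) = true := by decide +kernel

theorem xp_235 : allRange 70735 301 (fun u => chkXP tab xc xw u) = true := by decide +kernel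

theorem xp_236 : allRange 71036 301 (fun u => chkXP tab xc xw u) = true := by decide +kernel

theorem xp_237 : allRange 71337 301 (fun u => chkXP tab xc xw u) = true := by decide +kernel

theorem xp_238 : allRange 71638 301 (fun u => chkXP tab xc xw u) = true := by decide +kernel

theorem xp_239 : allRange 71939 301 (fun u => chkXP tab xc xw u) = true := by decide +kernel


end Cfsg.Agent.Helper9.TCData.X1690B
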