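import Cfsg.Agent.Lib.Helper9.TCData.X1690B.Main

set_option autoImplicit false
set_option maxRecDepth 1000000

namespace Cfsg.Agent.Helper9.TCData.X1690B
open Cfsg.Agent.Helper9.TC2 Cfsg.Agent.Helper9.TCData.X1690

theorem xp_240 : allRange 72240 301 (fun u => chkXP tab xc xw u) = true := by decide +kernel

theorem xp_241 : allRange 72541 301 (fun u => chkXP tab xc xw u) = true := by decide +kernel

theorem xp_242 : allRange 72842 301 (fun u => chkXP tab xc xw u) = true := by decide +kernel

theorem xp_243 : allRange 73143 301 (fun u => chkXP tab xc xw u) = true := by decide +kernel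

theorem xp_244 : allRange 73444 301 (fun u => chkXP tab xc xw u) = true := by decide +kernel

theorem xp_245 : allRange 73745 301 (fun u => chkXP tab xc xw u) = true := by decide +kernel

theorem xp_246 : allRange 74046 301 (fun u => chkXP tab xc xw u) = true := by decide +kernel

theorem xp_247 : allRange 74347 301 (fun u => chkXP tab xc xw u) = true := by decide +kernel


end Cfsg.Agent.Helper9.TCData.X1690B
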