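import Cfsg.Agent.Lib.Helper9.TCData.X1690B.Main

set_option autoImplicit false
set_option maxRecDepth 1000000

namespace Cfsg.Agent.Helper9.TCData.X1690B
open Cfsg.Agent.Helper9.TC2 Cfsg.Agent.Helper9.TCData.X1690

theorem xp_248 : allRange 74648 301 (fun u => chkXP tab xc xw u) = true := by decide +kernel

theorem xp_249 : allRange 74949 301 (fun u => chkXP tab xc xw u) = true := by decide +kernel

theorem xp_250 : allRange 75250 301 (fun u => chkXP tab xc xw u) = true := by decide +kernel

theorem xp_251 : allRange 75551 301 (fun u => chkXP tab xc xw u) = true := by decide +kernel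

theorem xp_252 : allRange 75852 301 (fun u => chkXP tab xc xw u) = true := by decide +kernel

theorem xp_253 : allRange 76153 301 (fun u => chkXP tab xc xw u) = true := by decide +kernel

theorem xp_254 : allRange 76454 301 (fun u => chkXP tab xc xw u) = true := by decide +kernel

theorem xp_255 : allRange 76755 301 (fun u => chkXP tab xc xw u) = true := by decide +kernel


end Cfsg.Agent.Helper9.TCData.X1690B
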