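import Cfsg.Agent.Lib.Helper9.TCData.X1690B.Main

set_option autoImplicit false
set_option maxRecDepth 1000000

namespace Cfsg.Agent.Helper9.TCData.X1690B
open Cfsg.Agent.Helper9.TC2 Cfsg.Agent.Helper9.TCData.X1690

theorem xp_264 : allRange 79464 301 (fun u => chkXP tab xc xw u) = true := by decide +kernel

theorem xp_265 : allRange 79765 301 (fun u => chkXP tab xc xw u) = true := by decide +kernel

theorem xp_266 : allRange 80066 301 (fun u => chkXP tab xc xw u) = true := by decide +kernel

theorem xp_267 : allRange 80367 301 (fun u => chkXP tab xc xw u) = true := by decide +kernel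

theorem xp_268 : allRange 80668 301 (fun u => chkXP tab xc xw u) = true := by decide +kernel

theorem xp_269 : allRange 80969 301 (fun u => chkXP tab xc xw u) = true := by decide +kernel

theorem xp_270 : allRange 81270 301 (fun u => chkXP tab xc xw u) = true := by decide +kernel

theorem xp_271 : allRange 81571 301 (fun u => chkXP tab xc xw u) = true := by decide +kernel


end Cfsg.Agent.Helper9.TCData.X1690B
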