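import Cfsg.Agent.Lib.Helper9.TCData.X1690B.Main

set_option autoImplicit false
set_option maxRecDepth 1000000

namespace Cfsg.Agent.Helper9.TCData.X1690B
open Cfsg.Agent.Helper9.TC2 Cfsg.Agent.Helper9.TCData.X1690

theorem xp_272 : allRange 81872 301 (fun u => chkXP tab xc xw u) = true := by decide +kernel

theorem xp_273 : allRange 82173 301 (fun u => chkXP tab xc xw u) = true := by decide +kernel

theorem xp_274 : allRange 82474 301 (fun u => chkXP tab xc xw u) = true := by decide +kernel

theorem xp_275 : allRange 82775 301 (fun u => chkXP tab xc xw u) = true := by decide +kernel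

theorem xp_276 : allRange 83076 301 (fun u => chkXP tab xc xw u) = true := by decide +kernel

theorem xp_277 : allRange 83377 301 (fun u => chkXP tab xc xw u) = true := by decide +kernel

theorem xp_278 : allRange 83678 301 (fun u => chkXP tab xc xw u) = true := by decide +kernel

theorem xp_279 : allRange 83979 301 (fun u => chkXP tab xc xw u) = true := by decide +kernel


end Cfsg.Agent.Helper9.TCData.X1690B
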