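import Cfsg.Agent.Lib.Helper9.TCData.X1690B.Main

set_option autoImplicit false
set_option maxRecDepth 1000000

namespace Cfsg.Agent.Helper9.TCData.X1690B
open Cfsg.Agent.Helper9.TC2 Cfsg.Agent.Helper9.TCData.X1690

theorem xp_280 : allRange 84280 301 (fun u => chkXP tab xc xw u) = true := by decide +kernel

theorem xp_281 : allRange 84581 301 (fun u => chkXP tab xc xw u) = true := by decide +kernel

theorem xp_282 : allRange 84882 301 (fun u => chkXP tab xc xw u) = true := by decide +kernel

theorem xp_283 : allRange 85183 301 (fun u => chkXP tab xc xw u) = true := by decide +kernel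

theorem xp_284 : allRange 85484 301 (fun u => chkXP tab xc xw u) = true := by decide +kernel

theorem xp_285 : allRange 85785 301 (fun u => chkXP tab xc xw u) = true := by decide +kernel

theorem xp_286 : allRange 86086 301 (fun u => chkXP tab xc xw u) = true := by decide +kernel

theorem xp_287 : allRange 86387 301 (fun u => chkXP tab xc xw u) = true := by decide +kernel


end Cfsg.Agent.Helper9.TCData.X1690B
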