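import Cfsg.Agent.Lib.Helper9.TCData.X1690B.Main

set_option autoImplicit false
set_option maxRecDepth 1000000

namespace Cfsg.Agent.Helper9.TCData.X1690B
open Cfsg.Agent.Helper9.TC2 Cfsg.Agent.Helper9.TCData.X1690

theorem xp_288 : allRange 86688 301 (fun u => chkXP tab xc xw u) = true := by decide +kernel

theorem xp_289 : allRange 86989 301 (fun u => chkXP tab xc xw u) = true := by decide +kernel

theorem xp_290 : allRange 87290 301 (fun u => chkXP tab xc xw u) = true := by decide +kernel

theorem xp_291 : allRange 87591 301 (fun u => chkXP tab xc xw u) = true := by decide +kernel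

theorem xp_292 : allRange 87892 301 (fun u => chkXP tab xc xw u) = true := by decide +kernel

theorem xp_293 : allRange 88193 301 (fun u => chkXP tab xc xw u) = true := by decide +kernel

theorem xp_294 : allRange 88494 301 (fun u => chkXP tab xc xw u) = true := by decide +kernel

theorem xp_295 : allRange 88795 301 (fun u => chkXP tab xc xw u) = true := by decide +kernel


end Cfsg.Agent.Helper9.TCData.X1690B
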