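import Cfsg.Agent.Lib.Helper9.TCData.X1690B.Main

set_option autoImplicit false
set_option maxRecDepth 1000000

namespace Cfsg.Agent.Helper9.TCData.X1690B
open Cfsg.Agent.Helper9.TC2 Cfsg.Agent.Helper9.TCData.X1690

theorem xp_296 : allRange 89096 301 (fun u => chkXP tab xc xw u) = true := by decide +kernel

theorem xp_297 : allRange 89397 301 (fun u => chkXP tab xc xw u) = true := by decide +kernel

theorem xp_298 : allRange 89698 301 (fun u => chkXP tab xc xw u) = true := by decide +kernel

theorem xp_299 : allRange 89999 301 (fun u => chkXP tab xc xw u) = true := by decide +kernel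

theorem xp_300 : allRange 90300 301 (fun u => chkXP tab xc xw u) = true := by decide +kernel

theorem xp_301 : allRange 90601 301 (fun u => chkXP tab xc xw u) = true := by decide +kernel

theorem xp_302 : allRange 90902 301 (fun u => chkXP tab xc xw u) = true := by decide +kernel

theorem xp_303 : allRange 91203 301 (fun u => chkXP tab xc xw u) = true := by decide +kernel


end Cfsg.Agent.Helper9.TCData.X1690B
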