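import Cfsg.Agent.Lib.Helper9.TCData.X1690B.Main

set_option autoImplicit false
set_option maxRecDepth 1000000

namespace Cfsg.Agent.Helper9.TCData.X1690B
open Cfsg.Agent.Helper9.TC2 Cfsg.Agent.Helper9.TCData.X1690

theorem xp_304 : allRange 91504 301 (fun u => chkXP tab xc xw u) = true := by decide +kernel

theorem xp_305 : allRange 91805 301 (fun u => chkXP tab xc xw u) = true := by decide +kernel

theorem xp_306 : allRange 92106 301 (fun u => chkXP tab xc xw u) = true := by decide +kernel

theorem xp_307 : allRange 92407 301 (fun u => chkXP tab xc xw u) = true := by decide +kernel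

theorem xp_308 : allRange 92708 301 (fun u => chkXP tab xc xw u) = true := by decide +kernel

theorem xp_309 : allRange 93009 301 (fun u => chkXP tab xc xw u) = true := by decide +kernel

theorem xp_310 : allRange 93310 301 (fun u => chkXP tab xc xw u) = true := by decide +kernel

theorem xp_311 : allRange 93611 301 (fun u => chkXP tab xc xw u) = true := by decide +kernel


end Cfsg.Agent.Helper9.TCData.X1690B
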