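import Cfsg.Agent.Lib.Helper9.TCData.X1690B.Main

set_option autoImplicit false
set_option maxRecDepth 1000000

namespace Cfsg.Agent.Helper9.TCData.X1690B
open Cfsg.Agent.Helper9.TC2 Cfsg.Agent.Helper9.TCData.X1690

theorem xp_312 : allRange 93912 301 (fun u => chkXP tab xc xw u) = true := by decide +kernel

theorem xp_313 : allRange 94213 301 (fun u => chkXP tab xc xw u) = true := by decide +kernel

theorem xp_314 : allRange 94514 301 (fun u => chkXP tab xc xw u) = true := by decide +kernel

theorem xp_315 : allRange 94815 301 (fun u => chkXP tab xc xw u) = true := by decide +kernel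

theorem xp_316 : allRange 95116 301 (fun u => chkXP tab xc xw u) = true := by decide +kernel

theorem xp_317 : allRange 95417 301 (fun u => chkXP tab xc xw u) = true := by decide +kernel

theorem xp_318 : allRange 95718 301 (fun u => chkXP tab xc xw u) = true := by decide +kernel

theorem xp_319 : allRange 96019 301 (fun u => chkXP tab xc xw u) = true := by decide +kernel


end Cfsg.Agent.Helper9.TCData.X1690B
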