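import Cfsg.Agent.Lib.Helper9.TCData.X1690B.Main

set_option autoImplicit false
set_option maxRecDepth 1000000

namespace Cfsg.Agent.Helper9.TCData.X1690B
open Cfsg.Agent.Helper9.TC2 Cfsg.Agent.Helper9.TCData.X1690

theorem xp_328 : allRange 98728 301 (fun u => chkXP tab xc xw u) = true := by decide +kernel

theorem xp_329 : allRange 99029 301 (fun u => chkXP tab xc xw u) = true := by decide +kernel

theorem xp_330 : allRange 99330 301 (fun u => chkXP tab xc xw u) = true := by decide +kernel

theorem xp_331 : allRange 99631 301 (fun u => chkXP tab xc xw u) = true := by decide +kernel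

theorem xp_332 : allRange 99932 301 (fun u => chkXP tab xc xw u) = true := by decide +kernel

theorem xp_333 : allRange 100233 301 (fun u => chkXP tab xc xw u) = true := by decide +kernel

theorem xp_334 : allRange 100534 301 (fun u => chkXP tab xc xw u) = true := by decide +kernel

theorem xp_335 : allRange 100835 301 (fun u => chkXP tab xc xw u) = true := by decide +kernel


end Cfsg.Agent.Helper9.TCData.X1690B
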