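import Cfsg.Agent.Lib.Helper9.TCData.X1690B.Main

set_option autoImplicit false
set_option maxRecDepth 1000000

namespace Cfsg.Agent.Helper9.TCData.X1690B
open Cfsg.Agent.Helper9.TC2 Cfsg.Agent.Helper9.TCData.X1690

theorem xp_336 : allRange 101136 301 (fun u => chkXP tab xc xw u) = true := by decide +kernel

theorem xp_337 : allRange 101437 301 (fun u => chkXP tab xc xw u) = true := by decide +kernel

theorem xp_338 : allRange 101738 301 (fun u => chkXP tab xc xw u) = true := by decide +kernel

theorem xp_339 : allRange 102039 301 (fun u => chkXP tab xc xw u) = true := by decide +kernel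

theorem xp_340 : allRange 102340 301 (fun u => chkXP tab xc xw u) = true := by decide +kernel

theorem xp_341 : allRange 102641 301 (fun u => chkXP tab xc xw u) = true := by decide +kernel

theorem xp_342 : allRange 102942 301 (fun u => chkXP tab xc xw u) = true := by decide +kernel

theorem xp_343 : allRange 103243 301 (fun u => chkXP tab xc xw u) = true := by decide +kernel


end Cfsg.Agent.Helper9.TCData.X1690B
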