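import Cfsg.Agent.Lib.Helper9.TCData.X1690B.Main

set_option autoImplicit false
set_option maxRecDepth 1000000

namespace Cfsg.Agent.Helper9.TCData.X1690B
open Cfsg.Agent.Helper9.TC2 Cfsg.Agent.Helper9.TCData.X1690

theorem xp_344 : allRange 103544 301 (fun u => chkXP tab xc xw u) = true := by decide +kernel

theorem xp_345 : allRange 103845 301 (fun u => chkXP tab xc xw u) = true := by decide +kernel

theorem xp_346 : allRange 104146 301 (fun u => chkXP tab xc xw u) = true := by decide +kernel

theorem xp_347 : allRange 104447 301 (fun u => chkXP tab xc xw u) = true := by decide +kernel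

theorem xp_348 : allRange 104748 301 (fun u => chkXP tab xc xw u) = true := by decide +kernel

theorem xp_349 : allRange 105049 301 (fun u => chkXP tab xc xw u) = true := by decide +kernel

theorem xp_350 : allRange 105350 301 (fun u => chkXP tab xc xw u) = true := by decide +kernel

theorem xp_351 : allRange 105651 301 (fun u => chkXP tab xc xw u) = true := by decide +kernel


end Cfsg.Agent.Helper9.TCData.X1690B
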