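import Cfsg.Agent.Lib.Helper9.TCData.X1690B.Main

set_option autoImplicit false
set_option maxRecDepth 1000000

namespace Cfsg.Agent.Helper9.TCData.X1690B
open Cfsg.Agent.Helper9.TC2 Cfsg.Agent.Helper9.TCData.X1690

theorem xp_360 : allRange 108360 301 (fun u => chkXP tab xc xw u) = true := by decide +kernel

theorem xp_361 : allRange 108661 301 (fun u => chkXP tab xc xw u) = true := by decide +kernel

theorem xp_362 : allRange 108962 301 (fun u => chkXP tab xc xw u) = true := by decide +kernel

theorem xp_363 : allRange 109263 301 (fun u => chkXP tab xc xw u) = true := by decide +kernel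

theorem xp_364 : allRange 109564 301 (fun u => chkXP tab xc xw u) = true := by decide +kernel

theorem xp_365 : allRange 109865 301 (fun u => chkXP tab xc xw u) = true := by decide +kernel

theorem xp_366 : allRange 110166 301 (fun u => chkXP tab xc xw u) = true := by decide +kernel

theorem xp_367 : allRange 110467 301 (fun u => chkXP tab xc xw u) = true := by decide +kernel


end Cfsg.Agent.Helper9.TCData.X1690B
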