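import Cfsg.Agent.Lib.Helper9.TCData.X1690B.Main

set_option autoImplicit false
set_option maxRecDepth 1000000

namespace Cfsg.Agent.Helper9.TCData.X1690B
open Cfsg.Agent.Helper9.TC2 Cfsg.Agent.Helper9.TCData.X1690

theorem xp_368 : allRange 110768 301 (fun u => chkXP tab xc xw u) = true := by decide +kernel

theorem xp_369 : allRange 111069 301 (fun u => chkXP tab xc xw u) = true := by decide +kernel

theorem xp_370 : allRange 111370 301 (fun u => chkXP tab xc xw u) = true := by decide +kernel

theorem xp_371 : allRange 111671 301 (fun u => chkXP tab xc xw u) = true := by decide +kernel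

theorem xp_372 : allRange 111972 301 (fun u => chkXP tab xc xw u) = true := by decide +kernel

theorem xp_373 : allRange 112273 301 (fun u => chkXP tab xc xw u) = true := by decide +kernel

theorem xp_374 : allRange 112574 301 (fun u => chkXP tab xc xw u) = true := by decide +kernel

theorem xp_375 : allRange 112875 301 (fun u => chkXP tab xc xw u) = true := by decide +kernel


end Cfsg.Agent.Helper9.TCData.X1690B
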