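import Cfsg.Agent.Lib.Helper9.TCData.X1690B.Main

set_option autoImplicit false
set_option maxRecDepth 1000000

namespace Cfsg.Agent.Helper9.TCData.X1690B
open Cfsg.Agent.Helper9.TC2 Cfsg.Agent.Helper9.TCData.X1690

theorem xp_384 : allRange 115584 301 (fun u => chkXP tab xc xw u) = true := by decide +kernel

theorem xp_385 : allRange 115885 301 (fun u => chkXP tab xc xw u) = true := by decide +kernel

theorem xp_386 : allRange 116186 301 (fun u => chkXP tab xc xw u) = true := by decide +kernel

theorem xp_387 : allRange 116487 301 (fun u => chkXP tab xc xw u) = true := by decide +kernel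

theorem xp_388 : allRange 116788 301 (fun u => chkXP tab xc xw u) = true := by decide +kernel

theorem xp_389 : allRange 117089 301 (fun u => chkXP tab xc xw u) = true := by decide +kernel

theorem xp_390 : allRange 117390 301 (fun u => chkXP tab xc xw u) = true := by decide +kernel

theorem xp_391 : allRange 117691 301 (fun u => chkXP tab xc xw u) = true := by decide +kernel


end Cfsg.Agent.Helper9.TCData.X1690B
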