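import Cfsg.Agent.Lib.Helper9.TCData.X1690B.Main

set_option autoImplicit false
set_option maxRecDepth 1000000

namespace Cfsg.Agent.Helper9.TCData.X1690B
open Cfsg.Agent.Helper9.TC2 Cfsg.Agent.Helper9.TCData.X1690

theorem xp_392 : allRange 117992 301 (fun u => chkXP tab xc xw u) = true := by decide +kernel

theorem xp_393 : allRange 118293 301 (fun u => chkXP tab xc xw u) = true := by decide +kernel

theorem xp_394 : allRange 118594 301 (fun u => chkXP tab xc xw u) = true := by decide +kernel

theorem xp_395 : allRange 118895 301 (fun u => chkXP tab xc xw u) = true := by decide +kernel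

theorem xp_396 : allRange 119196 301 (fun u => chkXP tab xc xw u) = true := by decide +kernel

theorem xp_397 : allRange 119497 301 (fun u => chkXP tab xc xw u) = true := by decide +kernel

theorem xp_398 : allRange 119798 301 (fun u => chkXP tab xc xw u) = true := by decide +kernel

theorem xp_399 : allRange 120099 301 (fun u => chkXP tab xc xw u) = true := by decide +kernel


end Cfsg.Agent.Helper9.TCData.X1690B
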