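import Cfsg.Agent.Lib.Helper9.TCData.X1690B.Main

set_option autoImplicit false
set_option maxRecDepth 1000000

namespace Cfsg.Agent.Helper9.TCData.X1690B
open Cfsg.Agent.Helper9.TC2 Cfsg.Agent.Helper9.TCData.X1690

theorem xp_400 : allRange 120400 301 (fun u => chkXP tab xc xw u) = true := by decide +kernel

theorem xp_401 : allRange 120701 301 (fun u => chkXP tab xc xw u) = true := by decide +kernel

theorem xp_402 : allRange 121002 301 (fun u => chkXP tab xc xw u) = true := by decide +kernel

theorem xp_403 : allRange 121303 301 (fun u => chkXP tab xc xw u) = true := by decide +kernel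

theorem xp_404 : allRange 121604 301 (fun u => chkXP tab xc xw u) = true := by decide +kernel

theorem xp_405 : allRange 121905 301 (fun u => chkXP tab xc xw u) = true := by decide +kernel

theorem xp_406 : allRange 122206 301 (fun u => chkXP tab xc xw u) = true := by decide +kernel

theorem xp_407 : allRange 122507 301 (fun u => chkXP tab xc xw u) = true := by decide +kernel


end Cfsg.Agent.Helper9.TCData.X1690B
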