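import Cfsg.Agent.Lib.Helper9.TCData.X1690B.Main

set_option autoImplicit false
set_option maxRecDepth 1000000

namespace Cfsg.Agent.Helper9.TCData.X1690B
open Cfsg.Agent.Helper9.TC2 Cfsg.Agent.Helper9.TCData.X1690

theorem xp_408 : allRange 122808 301 (fun u => chkXP tab xc xw u) = true := by decide +kernel

theorem xp_409 : allRange 123109 301 (fun u => chkXP tab xc xw u) = true := by decide +kernel

theorem xp_410 : allRange 123410 301 (fun u => chkXP tab xc xw u) = true := by decide +kernel

theorem xp_411 : allRange 123711 301 (fun u => chkXP tab xc xw u) = true := by decide +kernel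

theorem xp_412 : allRange 124012 301 (fun u => chkXP tab xc xw u) = true := by decide +kernel

theorem xp_413 : allRange 124313 301 (fun u => chkXP tab xc xw u) = true := by decide +kernel

theorem xp_414 : allRange 124614 301 (fun u => chkXP tab xc xw u) = true := by decide +kernel

theorem xp_415 : allRange 124915 301 (fun u => chkXP tab xc xw u) = true := by decide +kernel


end Cfsg.Agent.Helper9.TCData.X1690B
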