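import Cfsg.Agent.Lib.Helper9.TCData.X1690B.Main

set_option autoImplicit false
set_option maxRecDepth 1000000

namespace Cfsg.Agent.Helper9.TCData.X1690B
open Cfsg.Agent.Helper9.TC2 Cfsg.Agent.Helper9.TCData.X1690

theorem xp_416 : allRange 125216 301 (fun u => chkXP tab xc xw u) = true := by decide +kernel

theorem xp_417 : allRange 125517 301 (fun u => chkXP tab xc xw u) = true := by decide +kernel

theorem xp_418 : allRange 125818 301 (fun u => chkXP tab xc xw u) = true := by decide +kernel

theorem xp_419 : allRange 126119 301 (fun u => chkXP tab xc xw u) = true := by decide +kernel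

theorem xp_420 : allRange 126420 301 (fun u => chkXP tab xc xw u) = true := by decide +kernel

theorem xp_421 : allRange 126721 301 (fun u => chkXP tab xc xw u) = true := by decide +kernel

theorem xp_422 : allRange 127022 301 (fun u => chkXP tab xc xw u) = true := by decide +kernel

theorem xp_423 : allRange 127323 301 (fun u => chkXP tab xc xw u) = true := by decide +kernel


end Cfsg.Agent.Helper9.TCData.X1690B
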