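import Cfsg.Agent.Lib.Helper9.TCData.X1690B.Main

set_option autoImplicit false
set_option maxRecDepth 1000000

namespace Cfsg.Agent.Helper9.TCData.X1690B
open Cfsg.Agent.Helper9.TC2 Cfsg.Agent.Helper9.TCData.X1690

theorem xp_424 : allRange 127624 301 (fun u => chkXP tab xc xw u) = true := by decide +kernel

theorem xp_425 : allRange 127925 301 (fun u => chkXP tab xc xw u) = true := by decide +kernel

theorem xp_426 : allRange 128226 301 (fun u => chkXP tab xc xw u) = true := by decide +kernel

theorem xp_427 : allRange 128527 301 (fun u => chkXP tab xc xw u) = true := by decide +kernel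

theorem xp_428 : allRange 128828 301 (fun u => chkXP tab xc xw u) = true := by decide +kernel

theorem xp_429 : allRange 129129 301 (fun u => chkXP tab xc xw u) = true := by decide +kernel

theorem xp_430 : allRange 129430 301 (fun u => chkXP tab xc xw u) = true := by decide +kernel

theorem xp_431 : allRange 129731 301 (fun u => chkXP tab xc xw u) = true := by decide +kernel


end Cfsg.Agent.Helper9.TCData.X1690B
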