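import Cfsg.Agent.Lib.Helper9.TCData.X1690B.Main

set_option autoImplicit false
set_option maxRecDepth 1000000

namespace Cfsg.Agent.Helper9.TCData.X1690B
open Cfsg.Agent.Helper9.TC2 Cfsg.Agent.Helper9.TCData.X1690

theorem xp_432 : allRange 130032 301 (fun u => chkXP tab xc xw u) = true := by decide +kernel

theorem xp_433 : allRange 130333 301 (fun u => chkXP tab xc xw u) = true := by decide +kernel

theorem xp_434 : allRange 130634 301 (fun u => chkXP tab xc xw u) = true := by decide +kernel

theorem xp_435 : allRange 130935 301 (fun u => chkXP tab xc xw u) = true := by decide +kernel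

theorem xp_436 : allRange 131236 301 (fun u => chkXP tab xc xw u) = true := by decide +kernel

theorem xp_437 : allRange 131537 301 (fun u => chkXP tab xc xw u) = true := by decide +kernel

theorem xp_438 : allRange 131838 301 (fun u => chkXP tab xc xw u) = true := by decide +kernel

theorem xp_439 : allRange 132139 301 (fun u => chkXP tab xc xw u) = true := by decide +kernel


end Cfsg.Agent.Helper9.TCData.X1690B
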