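import Cfsg.Agent.Lib.Helper9.TCData.X1690B.Main

set_option autoImplicit false
set_option maxRecDepth 1000000

namespace Cfsg.Agent.Helper9.TCData.X1690B
open Cfsg.Agent.Helper9.TC2 Cfsg.Agent.Helper9.TCData.X1690

theorem xp_440 : allRange 132440 301 (fun u => chkXP tab xc xw u) = true := by decide +kernel

theorem xp_441 : allRange 132741 301 (fun u => chkXP tab xc xw u) = true := by decide +kernel

theorem xp_442 : allRange 133042 301 (fun u => chkXP tab xc xw u) = true := by decide +kernel

theorem xp_443 : allRange 133343 301 (fun u => chkXP tab xc xw u) = true := by decide +kernel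

theorem xp_444 : allRange 133644 301 (fun u => chkXP tab xc xw u) = true := by decide +kernel

theorem xp_445 : allRange 133945 301 (fun u => chkXP tab xc xw u) = true := by decide +kernel

theorem xp_446 : allRange 134246 301 (fun u => chkXP tab xc xw u) = true := by decide +kernel

theorem xp_447 : allRange 134547 301 (fun u => chkXP tab xc xw u) = true := by decide +kernel


end Cfsg.Agent.Helper9.TCData.X1690B
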