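import Cfsg.Agent.Lib.Helper9.TCData.X1690B.Main

set_option autoImplicit false
set_option maxRecDepth 1000000

namespace Cfsg.Agent.Helper9.TCData.X1690B
open Cfsg.Agent.Helper9.TC2 Cfsg.Agent.Helper9.TCData.X1690

theorem xp_456 : allRange 137256 301 (fun u => chkXP tab xc xw u) = true := by decide +kernel

theorem xp_457 : allRange 137557 301 (fun u => chkXP tab xc xw u) = true := by decide +kernel

theorem xp_458 : allRange 137858 301 (fun u => chkXP tab xc xw u) = true := by decide +kernel

theorem xp_459 : allRange 138159 301 (fun u => chkXP tab xc xw u) = true := by decide +kernel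

theorem xp_460 : allRange 138460 301 (fun u => chkXP tab xc xw u) = true := by decide +kernel

theorem xp_461 : allRange 138761 301 (fun u => chkXP tab xc xw u) = true := by decide +kernel

theorem xp_462 : allRange 139062 301 (fun u => chkXP tab xc xw u) = true := by decide +kernel

theorem xp_463 : allRange 139363 301 (fun u => chkXP tab xc xw u) = true := by decide +kernel


end Cfsg.Agent.Helper9.TCData.X1690B
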