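import Cfsg.Agent.Lib.Helper9.TCData.X1690B.Main

set_option autoImplicit false
set_option maxRecDepth 1000000

namespace Cfsg.Agent.Helper9.TCData.X1690B
open Cfsg.Agent.Helper9.TC2 Cfsg.Agent.Helper9.TCData.X1690

theorem xp_464 : allRange 139664 301 (fun u => chkXP tab xc xw u) = true := by decide +kernel

theorem xp_465 : allRange 139965 301 (fun u => chkXP tab xc xw u) = true := by decide +kernel

theorem xp_466 : allRange 140266 301 (fun u => chkXP tab xc xw u) = true := by decide +kernel

theorem xp_467 : allRange 140567 301 (fun u => chkXP tab xc xw u) = true := by decide +kernel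

theorem xp_468 : allRange 140868 301 (fun u => chkXP tab xc xw u) = true := by decide +kernel

theorem xp_469 : allRange 141169 301 (fun u => chkXP tab xc xw u) = true := by decide +kernel

theorem xp_470 : allRange 141470 301 (fun u => chkXP tab xc xw u) = true := by decide +kernel

theorem xp_471 : allRange 141771 301 (fun u => chkXP tab xc xw u) = true := by decide +kernel


end Cfsg.Agent.Helper9.TCData.X1690B
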