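import Cfsg.Agent.Lib.Helper9.TCData.X1690B.Main

set_option autoImplicit false
set_option maxRecDepth 1000000

namespace Cfsg.Agent.Helper9.TCData.X1690B
open Cfsg.Agent.Helper9.TC2 Cfsg.Agent.Helper9.TCData.X1690

theorem xp_472 : allRange 142072 301 (fun u => chkXP tab xc xw u) = true := by decide +kernel

theorem xp_473 : allRange 142373 301 (fun u => chkXP tab xc xw u) = true := by decide +kernel

theorem xp_474 : allRange 142674 301 (fun u => chkXP tab xc xw u) = true := by decide +kernel

theorem xp_475 : allRange 142975 301 (fun u => chkXP tab xc xw u) = true := by decide +kernel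

theorem xp_476 : allRange 143276 301 (fun u => chkXP tab xc xw u) = true := by decide +kernel

theorem xp_477 : allRange 143577 301 (fun u => chkXP tab xc xw u) = true := by decide +kernel

theorem xp_478 : allRange 143878 301 (fun u => chkXP tab xc xw u) = true := by decide +kernel

theorem xp_479 : allRange 144179 301 (fun u => chkXP tab xc xw u) = true := by decide +kernel


end Cfsg.Agent.Helper9.TCData.X1690B
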