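import Cfsg.Agent.Lib.Helper9.TCData.X1690B.Main

set_option autoImplicit false
set_option maxRecDepth 1000000

namespace Cfsg.Agent.Helper9.TCData.X1690B
open Cfsg.Agent.Helper9.TC2 Cfsg.Agent.Helper9.TCData.X1690

theorem xp_480 : allRange 144480 301 (fun u => chkXP tab xc xw u) = true := by decide +kernel

theorem xp_481 : allRange 144781 301 (fun u => chkXP tab xc xw u) = true := by decide +kernel

theorem xp_482 : allRange 145082 301 (fun u => chkXP tab xc xw u) = true := by decide +kernel

theorem xp_483 : allRange 145383 301 (fun u => chkXP tab xc xw u) = true := by decide +kernel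

theorem xp_484 : allRange 145684 301 (fun u => chkXP tab xc xw u) = true := by decide +kernel

theorem xp_485 : allRange 145985 301 (fun u => chkXP tab xc xw u) = true := by decide +kernel

theorem xp_486 : allRange 146286 301 (fun u => chkXP tab xc xw u) = true := by decide +kernel

theorem xp_487 : allRange 146587 301 (fun u => chkXP tab xc xw u) = true := by decide +kernel


end Cfsg.Agent.Helper9.TCData.X1690B
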