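import Cfsg.Agent.Lib.Helper9.TCData.X1690B.Main

set_option autoImplicit false
set_option maxRecDepth 1000000

namespace Cfsg.Agent.Helper9.TCData.X1690B
open Cfsg.Agent.Helper9.TC2 Cfsg.Agent.Helper9.TCData.X1690

theorem xp_488 : allRange 146888 301 (fun u => chkXP tab xc xw u) = true := by decide +kernel

theorem xp_489 : allRange 147189 301 (fun u => chkXP tab xc xw u) = true := by decide +kernel

theorem xp_490 : allRange 147490 301 (fun u => chkXP tab xc xw u) = true := by decide +kernel

theorem xp_491 : allRange 147791 301 (fun u => chkXP tab xc xw u) = true := by decide +kernel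

theorem xp_492 : allRange 148092 301 (fun u => chkXP tab xc xw u) = true := by decide +kernel

theorem xp_493 : allRange 148393 301 (fun u => chkXP tab xc xw u) = true := by decide +kernel

theorem xp_494 : allRange 148694 301 (fun u => chkXP tab xc xw u) = true := by decide +kernel

theorem xp_495 : allRange 148995 301 (fun u => chkXP tab xc xw u) = true := by decide +kernel


end Cfsg.Agent.Helper9.TCData.X1690B
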