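import Cfsg.Agent.Lib.Helper9.TCData.X1690B.Main

set_option autoImplicit false
set_option maxRecDepth 1000000

namespace Cfsg.Agent.Helper9.TCData.X1690B
open Cfsg.Agent.Helper9.TC2 Cfsg.Agent.Helper9.TCData.X1690

theorem xp_496 : allRange 149296 301 (fun u => chkXP tab xc xw u) = true := by decide +kernel

theorem xp_497 : allRange 149597 301 (fun u => chkXP tab xc xw u) = true := by decide +kernel

theorem xp_498 : allRange 149898 301 (fun u => chkXP tab xc xw u) = true := by decide +kernel

theorem xp_499 : allRange 150199 301 (fun u => chkXP tab xc xw u) = true := by decide +kernel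

theorem xp_500 : allRange 150500 301 (fun u => chkXP tab xc xw u) = true := by decide +kernel

theorem xp_501 : allRange 150801 301 (fun u => chkXP tab xc xw u) = true := by decide +kernel

theorem xp_502 : allRange 151102 301 (fun u => chkXP tab xc xw u) = true := by decide +kernel

theorem xp_503 : allRange 151403 301 (fun u => chkXP tab xc xw u) = true := by decide +kernel


end Cfsg.Agent.Helper9.TCData.X1690B
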