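import Cfsg.Agent.Lib.Helper9.TCData.X1690B.Main

set_option autoImplicit false
set_option maxRecDepth 1000000

namespace Cfsg.Agent.Helper9.TCData.X1690B
open Cfsg.Agent.Helper9.TC2 Cfsg.Agent.Helper9.TCData.X1690

theorem xp_504 : allRange 151704 301 (fun u => chkXP tab xc xw u) = true := by decide +kernel

theorem xp_505 : allRange 152005 301 (fun u => chkXP tab xc xw u) = true := by decide +kernel

theorem xp_506 : allRange 152306 301 (fun u => chkXP tab xc xw u) = true := by decide +kernel

theorem xp_507 : allRange 152607 301 (fun u => chkXP tab xc xw u) = true := by decide +kernel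

theorem xp_508 : allRange 152908 301 (fun u => chkXP tab xc xw u) = true := by decide +kernel

theorem xp_509 : allRange 153209 301 (fun u => chkXP tab xc xw u) = true := by decide +kernel

theorem xp_510 : allRange 153510 301 (fun u => chkXP tab xc xw u) = true := by decide +kernel

theorem xp_511 : allRange 153811 301 (fun u => chkXP tab xc xw u) = true := by decide +kernel


end Cfsg.Agent.Helper9.TCData.X1690B
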