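import Cfsg.Agent.Lib.Helper9.TCData.X1690B.Main

set_option autoImplicit false
set_option maxRecDepth 1000000

namespace Cfsg.Agent.Helper9.TCData.X1690B
open Cfsg.Agent.Helper9.TC2 Cfsg.Agent.Helper9.TCData.X1690

theorem xp_512 : allRange 154112 301 (fun u => chkXP tab xc xw u) = true := by decide +kernel

theorem xp_513 : allRange 154413 301 (fun u => chkXP tab xc xw u) = true := by decide +kernel

theorem xp_514 : allRange 154714 301 (fun u => chkXP tab xc xw u) = true := by decide +kernel

theorem xp_515 : allRange 155015 301 (fun u => chkXP tab xc xw u) = true := by decide +kernel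

theorem xp_516 : allRange 155316 301 (fun u => chkXP tab xc xw u) = true := by decide +kernel

theorem xp_517 : allRange 155617 301 (fun u => chkXP tab xc xw u) = true := by decide +kernel

theorem xp_518 : allRange 155918 301 (fun u => chkXP tab xc xw u) = true := by decide +kernel

theorem xp_519 : allRange 156219 301 (fun u => chkXP tab xc xw u) = true := by decide +kernel


end Cfsg.Agent.Helper9.TCData.X1690B
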