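import Cfsg.Agent.Lib.Helper9.TCData.X1690B.Main

set_option autoImplicit false
set_option maxRecDepth 1000000

namespace Cfsg.Agent.Helper9.TCData.X1690B
open Cfsg.Agent.Helper9.TC2 Cfsg.Agent.Helper9.TCData.X1690

theorem xp_520 : allRange 156520 301 (fun u => chkXP tab xc xw u) = true := by decide +kernel

theorem xp_521 : allRange 156821 301 (fun u => chkXP tab xc xw u) = true := by decide +kernel

theorem xp_522 : allRange 157122 301 (fun u => chkXP tab xc xw u) = true := by decide +kernel

theorem xp_523 : allRange 157423 301 (fun u => chkXP tab xc xw u) = true := by decide +kernel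

theorem xp_524 : allRange 157724 301 (fun u => chkXP tab xc xw u) = true := by decide +kernel

theorem xp_525 : allRange 158025 301 (fun u => chkXP tab xc xw u) = true := by decide +kernel

theorem xp_526 : allRange 158326 301 (fun u => chkXP tab xc xw u) = true := by decide +kernel

theorem xp_527 : allRange 158627 301 (fun u => chkXP tab xc xw u) = true := by decide +kernel


end Cfsg.Agent.Helper9.TCData.X1690B
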