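import Cfsg.Agent.Lib.Helper9.TCData.X1690B.Main

set_option autoImplicit false
set_option maxRecDepth 1000000

namespace Cfsg.Agent.Helper9.TCData.X1690B
open Cfsg.Agent.Helper9.TC2 Cfsg.Agent.Helper9.TCData.X1690

theorem xp_528 : allRange 158928 301 (fun u => chkXP tab xc xw u) = true := by decide +kernel

theorem xp_529 : allRange 159229 301 (fun u => chkXP tab xc xw u) = true := by decide +kernel

theorem xp_530 : allRange 159530 301 (fun u => chkXP tab xc xw u) = true := by decide +kernel

theorem xp_531 : allRange 159831 301 (fun u => chkXP tab xc xw u) = true := by decide +kernel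

theorem xp_532 : allRange 160132 301 (fun u => chkXP tab xc xw u) = true := by decide +kernel

theorem xp_533 : allRange 160433 301 (fun u => chkXP tab xc xw u) = true := by decide +kernel

theorem xp_534 : allRange 160734 301 (fun u => chkXP tab xc xw u) = true := by decide +kernel

theorem xp_535 : allRange 161035 301 (fun u => chkXP tab xc xw u) = true := by decide +kernel


end Cfsg.Agent.Helper9.TCData.X1690B
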