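import Cfsg.Agent.Lib.Helper9.TCData.X1690B.Main

set_option autoImplicit false
set_option maxRecDepth 1000000

namespace Cfsg.Agent.Helper9.TCData.X1690B
open Cfsg.Agent.Helper9.TC2 Cfsg.Agent.Helper9.TCData.X1690

theorem xp_536 : allRange 161336 301 (fun u => chkXP tab xc xw u) = true := by decide +kernel

theorem xp_537 : allRange 161637 301 (fun u => chkXP tab xc xw u) = true := by decide +kernel

theorem xp_538 : allRange 161938 301 (fun u => chkXP tab xc xw u) = true := by decide +kernel

theorem xp_539 : allRange 162239 301 (fun u => chkXP tab xc xw u) = true := by decide +kernel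

theorem xp_540 : allRange 162540 301 (fun u => chkXP tab xc xw u) = true := by decide +kernel

theorem xp_541 : allRange 162841 301 (fun u => chkXP tab xc xw u) = true := by decide +kernel

theorem xp_542 : allRange 163142 301 (fun u => chkXP tab xc xw u) = true := by decide +kernel

theorem xp_543 : allRange 163443 301 (fun u => chkXP tab xc xw u) = true := by decide +kernel


end Cfsg.Agent.Helper9.TCData.X1690B
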