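import Cfsg.Agent.Lib.Helper9.TCData.X1690B.Main

set_option autoImplicit false
set_option maxRecDepth 1000000

namespace Cfsg.Agent.Helper9.TCData.X1690B
open Cfsg.Agent.Helper9.TC2 Cfsg.Agent.Helper9.TCData.X1690

theorem xp_552 : allRange 166152 301 (fun u => chkXP tab xc xw u) = true := by decide +kernel

theorem xp_553 : allRange 166453 301 (fun u => chkXP tab xc xw u) = true := by decide +kernel

theorem xp_554 : allRange 166754 301 (fun u => chkXP tab xc xw u) = true := by decide +kernel

theorem xp_555 : allRange 167055 301 (fun u => chkXP tab xc xw u) = true := by decide +kernel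

theorem xp_556 : allRange 167356 301 (fun u => chkXP tab xc xw u) = true := by decide +kernel

theorem xp_557 : allRange 167657 301 (fun u => chkXP tab xc xw u) = true := by decide +kernel

theorem xp_558 : allRange 167958 301 (fun u => chkXP tab xc xw u) = true := by decide +kernel

theorem xp_559 : allRange 168259 301 (fun u => chkXP tab xc xw u) = true := by decide +kernel


end Cfsg.Agent.Helper9.TCData.X1690B
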