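import Cfsg.Agent.Lib.Helper9.TCData.X1690B.Main

set_option autoImplicit false
set_option maxRecDepth 1000000

namespace Cfsg.Agent.Helper9.TCData.X1690B
open Cfsg.Agent.Helper9.TC2 Cfsg.Agent.Helper9.TCData.X1690

theorem xp_560 : allRange 168560 301 (fun u => chkXP tab xc xw u) = true := by decide +kernel

theorem xp_561 : allRange 168861 301 (fun u => chkXP tab xc xw u) = true := by decide +kernel

theorem xp_562 : allRange 169162 301 (fun u => chkXP tab xc xw u) = true := by decide +kernel

theorem xp_563 : allRange 169463 301 (fun u => chkXP tab xc xw u) = true := by decide +kernel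

theorem xp_564 : allRange 169764 301 (fun u => chkXP tab xc xw u) = true := by decide +kernel

theorem xp_565 : allRange 170065 301 (fun u => chkXP tab xc xw u) = true := by decide +kernel

theorem xp_566 : allRange 170366 301 (fun u => chkXP tab xc xw u) = true := by decide +kernel

theorem xp_567 : allRange 170667 301 (fun u => chkXP tab xc xw u) = true := by decide +kernel


end Cfsg.Agent.Helper9.TCData.X1690B
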