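import Cfsg.Agent.Lib.Helper9.TCData.X1690B.Main

set_option autoImplicit false
set_option maxRecDepth 1000000

namespace Cfsg.Agent.Helper9.TCData.X1690B
open Cfsg.Agent.Helper9.TC2 Cfsg.Agent.Helper9.TCData.X1690

theorem xp_568 : allRange 170968 301 (fun u => chkXP tab xc xw u) = true := by decide +kernel

theorem xp_569 : allRange 171269 301 (fun u => chkXP tab xc xw u) = true := by decide +kernel

theorem xp_570 : allRange 171570 301 (fun u => chkXP tab xc xw u) = true := by decide +kernel

theorem xp_571 : allRange 171871 301 (fun u => chkXP tab xc xw u) = true := by decide +kernel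

theorem xp_572 : allRange 172172 301 (fun u => chkXP tab xc xw u) = true := by decide +kernel

theorem xp_573 : allRange 172473 301 (fun u => chkXP tab xc xw u) = true := by decide +kernel

theorem xp_574 : allRange 172774 301 (fun u => chkXP tab xc xw u) = true := by decide +kernel

theorem xp_575 : allRange 173075 301 (fun u => chkXP tab xc xw u) = true := by decide +kernel


end Cfsg.Agent.Helper9.TCData.X1690B
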