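import Cfsg.Agent.Lib.Helper9.TCData.X1690B.Main

set_option autoImplicit false
set_option maxRecDepth 1000000

namespace Cfsg.Agent.Helper9.TCData.X1690B
open Cfsg.Agent.Helper9.TC2 Cfsg.Agent.Helper9.TCData.X1690

theorem xp_576 : allRange 173376 301 (fun u => chkXP tab xc xw u) = true := by decide +kernel

theorem xp_577 : allRange 173677 301 (fun u => chkXP tab xc xw u) = true := by decide +kernel

theorem xp_578 : allRange 173978 301 (fun u => chkXP tab xc xw u) = true := by decide +kernel

theorem xp_579 : allRange 174279 301 (fun u => chkXP tab xc xw u) = true := by decide +kernel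

theorem xp_580 : allRange 174580 301 (fun u => chkXP tab xc xw u) = true := by decide +kernel

theorem xp_581 : allRange 174881 301 (fun u => chkXP tab xc xw u) = true := by decide +kernel

theorem xp_582 : allRange 175182 301 (fun u => chkXP tab xc xw u) = true := by decide +kernel

theorem xp_583 : allRange 175483 301 (fun u => chkXP tab xc xw u) = true := by decide +kernel


end Cfsg.Agent.Helper9.TCData.X1690B
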