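import Cfsg.Agent.Lib.Helper9.TCData.X1690B.Main

set_option autoImplicit false
set_option maxRecDepth 1000000

namespace Cfsg.Agent.Helper9.TCData.X1690B
open Cfsg.Agent.Helper9.TC2 Cfsg.Agent.Helper9.TCData.X1690

theorem xp_584 : allRange 175784 301 (fun u => chkXP tab xc xw u) = true := by decide +kernel

theorem xp_585 : allRange 176085 301 (fun u => chkXP tab xc xw u) = true := by decide +kernel

theorem xp_586 : allRange 176386 301 (fun u => chkXP tab xc xw u) = true := by decide +kernel

theorem xp_587 : allRange 176687 301 (fun u => chkXP tab xc xw u) = true := by decide +kernel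

theorem xp_588 : allRange 176988 301 (fun u => chkXP tab xc xw u) = true := by decide +kernel

theorem xp_589 : allRange 177289 301 (fun u => chkXP tab xc xw u) = true := by decide +kernel

theorem xp_590 : allRange 177590 301 (fun u => chkXP tab xc xw u) = true := by decide +kernel

theorem xp_591 : allRange 177891 301 (fun u => chkXP tab xc xw u) = true := by decide +kernel


end Cfsg.Agent.Helper9.TCData.X1690B
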