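import Cfsg.Agent.Lib.Helper9.TCData.X1690B.Main

set_option autoImplicit false
set_option maxRecDepth 1000000

namespace Cfsg.Agent.Helper9.TCData.X1690B
open Cfsg.Agent.Helper9.TC2 Cfsg.Agent.Helper9.TCData.X1690

theorem xp_592 : allRange 178192 301 (fun u => chkXP tab xc xw u) = true := by decide +kernel

theorem xp_593 : allRange 178493 301 (fun u => chkXP tab xc xw u) = true := by decide +kernel

theorem xp_594 : allRange 178794 301 (fun u => chkXP tab xc xw u) = true := by decide +kernel

theorem xp_595 : allRange 179095 301 (fun u => chkXP tab xc xw u) = true := by decide +kernel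

theorem xp_596 : allRange 179396 301 (fun u => chkXP tab xc xw u) = true := by decide +kernel

theorem xp_597 : allRange 179697 301 (fun u => chkXP tab xc xw u) = true := by decide +kernel

theorem xp_598 : allRange 179998 301 (fun u => chkXP tab xc xw u) = true := by decide +kernel

theorem xp_599 : allRange 180299 301 (fun u => chkXP tab xc xw u) = true := by decide +kernel


end Cfsg.Agent.Helper9.TCData.X1690B
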