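import Cfsg.Agent.Lib.Helper9.TCData.X1690B.Main

set_option autoImplicit false
set_option maxRecDepth 1000000

namespace Cfsg.Agent.Helper9.TCData.X1690B
open Cfsg.Agent.Helper9.TC2 Cfsg.Agent.Helper9.TCData.X1690

theorem xp_600 : allRange 180600 301 (fun u => chkXP tab xc xw u) = true := by decide +kernel

theorem xp_601 : allRange 180901 301 (fun u => chkXP tab xc xw u) = true := by decide +kernel

theorem xp_602 : allRange 181202 301 (fun u => chkXP tab xc xw u) = true := by decide +kernel

theorem xp_603 : allRange 181503 301 (fun u => chkXP tab xc xw u) = true := by decide +kernel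

theorem xp_604 : allRange 181804 301 (fun u => chkXP tab xc xw u) = true := by decide +kernel

theorem xp_605 : allRange 182105 301 (fun u => chkXP tab xc xw u) = true := by decide +kernel

theorem xp_606 : allRange 182406 301 (fun u => chkXP tab xc xw u) = true := by decide +kernel

theorem xp_607 : allRange 182707 301 (fun u => chkXP tab xc xw u) = true := by decide +kernel


end Cfsg.Agent.Helper9.TCData.X1690B
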