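import Cfsg.Agent.Lib.Helper9.TCData.X1690B.Main

set_option autoImplicit false
set_option maxRecDepth 1000000

namespace Cfsg.Agent.Helper9.TCData.X1690B
open Cfsg.Agent.Helper9.TC2 Cfsg.Agent.Helper9.TCData.X1690

theorem xp_608 : allRange 183008 301 (fun u => chkXP tab xc xw u) = true := by decide +kernel

theorem xp_609 : allRange 183309 301 (fun u => chkXP tab xc xw u) = true := by decide +kernel

theorem xp_610 : allRange 183610 301 (fun u => chkXP tab xc xw u) = true := by decide +kernel

theorem xp_611 : allRange 183911 301 (fun u => chkXP tab xc xw u) = true := by decide +kernel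

theorem xp_612 : allRange 184212 301 (fun u => chkXP tab xc xw u) = true := by decide +kernel

theorem xp_613 : allRange 184513 301 (fun u => chkXP tab xc xw u) = true := by decide +kernel

theorem xp_614 : allRange 184814 301 (fun u => chkXP tab xc xw u) = true := by decide +kernel

theorem xp_615 : allRange 185115 301 (fun u => chkXP tab xc xw u) = true := by decide +kernel


end Cfsg.Agent.Helper9.TCData.X1690B
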