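import Cfsg.Agent.Lib.Helper9.TCData.X1690B.Main

set_option autoImplicit false
set_option maxRecDepth 1000000

namespace Cfsg.Agent.Helper9.TCData.X1690B
open Cfsg.Agent.Helper9.TC2 Cfsg.Agent.Helper9.TCData.X1690

theorem xp_616 : allRange 185416 301 (fun u => chkXP tab xc xw u) = true := by decide +kernel

theorem xp_617 : allRange 185717 301 (fun u => chkXP tab xc xw u) = true := by decide +kernel

theorem xp_618 : allRange 186018 301 (fun u => chkXP tab xc xw u) = true := by decide +kernel

theorem xp_619 : allRange 186319 301 (fun u => chkXP tab xc xw u) = true := by decide +kernel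

theorem xp_620 : allRange 186620 301 (fun u => chkXP tab xc xw u) = true := by decide +kernel

theorem xp_621 : allRange 186921 301 (fun u => chkXP tab xc xw u) = true := by decide +kernel

theorem xp_622 : allRange 187222 301 (fun u => chkXP tab xc xw u) = true := by decide +kernel

theorem xp_623 : allRange 187523 301 (fun u => chkXP tab xc xw u) = true := by decide +kernel


end Cfsg.Agent.Helper9.TCData.X1690B
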