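import Cfsg.Agent.Lib.Helper9.TCData.X1690B.Main

set_option autoImplicit false
set_option maxRecDepth 1000000

namespace Cfsg.Agent.Helper9.TCData.X1690B
open Cfsg.Agent.Helper9.TC2 Cfsg.Agent.Helper9.TCData.X1690

theorem xp_624 : allRange 187824 301 (fun u => chkXP tab xc xw u) = true := by decide +kernel

theorem xp_625 : allRange 188125 301 (fun u => chkXP tab xc xw u) = true := by decide +kernel

theorem xp_626 : allRange 188426 301 (fun u => chkXP tab xc xw u) = true := by decide +kernel

theorem xp_627 : allRange 188727 301 (fun u => chkXP tab xc xw u) = true := by decide +kernel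

theorem xp_628 : allRange 189028 301 (fun u => chkXP tab xc xw u) = true := by decide +kernel

theorem xp_629 : allRange 189329 301 (fun u => chkXP tab xc xw u) = true := by decide +kernel

theorem xp_630 : allRange 189630 301 (fun u => chkXP tab xc xw u) = true := by decide +kernel

theorem xp_631 : allRange 189931 301 (fun u => chkXP tab xc xw u) = true := by decide +kernel


end Cfsg.Agent.Helper9.TCData.X1690B
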