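import Cfsg.Agent.Lib.Helper9.TCData.X1690B.Main

set_option autoImplicit false
set_option maxRecDepth 1000000

namespace Cfsg.Agent.Helper9.TCData.X1690B
open Cfsg.Agent.Helper9.TC2 Cfsg.Agent.Helper9.TCData.X1690

theorem o1_200 : allRange 56000 280 (fun u => chkO1 tab orb u) = true := by decide +kernel

theorem o1_201 : allRange 56280 280 (fun u => chkO1 tab orb u) = true := by decide +kernel

theorem o1_202 : allRange 56560 280 (fun u => chkO1 tab orb u) = true := by decide +kernel

theorem o1_203 : allRange 56840 280 (fun u => chkO1 tab orb u) = true := by decide +kernel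

theorem o1_204 : allRange 57120 280 (fun u => chkO1 tab orb u) = true := by decide +kernel

theorem o1_205 : allRange 57400 280 (fun u => chkO1 tab orb u) = true := by decide +kernel

theorem o1_206 : allRange 57680 280 (fun u => chkO1 tab orb u) = true := by decide +kernel

theorem o1_207 : allRange 57960 280 (fun u => chkO1 tab orb u) = true := by decide +kernel


end Cfsg.Agent.Helper9.TCData.X1690B
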