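import Cfsg.Agent.Lib.Helper9.TCData.X1690B.Main

set_option autoImplicit false
set_option maxRecDepth 1000000

namespace Cfsg.Agent.Helper9.TCData.X1690B
open Cfsg.Agent.Helper9.TC2 Cfsg.Agent.Helper9.TCData.X1690

theorem xp_632 : allRange 190232 301 (fun u => chkXP tab xc xw u) = true := by decide +kernel

theorem xp_633 : allRange 190533 301 (fun u => chkXP tab xc xw u) = true := by decide +kernel

theorem xp_634 : allRange 190834 301 (fun u => chkXP tab xc xw u) = true := by decide +kernel

theorem xp_635 : allRange 191135 301 (fun u => chkXP tab xc xw u) = true := by decide +kernel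

theorem xp_636 : allRange 191436 301 (fun u => chkXP tab xc xw u) = true := by decide +kernel

theorem xp_637 : allRange 191737 301 (fun u => chkXP tab xc xw u) = true := by decide +kernel

theorem xp_638 : allRange 192038 301 (fun u => chkXP tab xc xw u) = true := by decide +kernel

theorem xp_639 : allRange 192339 301 (fun u => chkXP tab xc xw u) = true := by decide +kernel


end Cfsg.Agent.Helper9.TCData.X1690B
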