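import Cfsg.Agent.Lib.Helper9.TCData.X1690B.Main

set_option autoImplicit false
set_option maxRecDepth 1000000

namespace Cfsg.Agent.Helper9.TCData.X1690B
open Cfsg.Agent.Helper9.TC2 Cfsg.Agent.Helper9.TCData.X1690

theorem xp_648 : allRange 195048 301 (fun u => chkXP tab xc xw u) = true := by decide +kernel

theorem xp_649 : allRange 195349 301 (fun u => chkXP tab xc xw u) = true := by decide +kernel

theorem xp_650 : allRange 195650 301 (fun u => chkXP tab xc xw u) = true := by decide +kernel

theorem xp_651 : allRange 195951 301 (fun u => chkXP tab xc xw u) = true := by decide +kernel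

theorem xp_652 : allRange 196252 301 (fun u => chkXP tab xc xw u) = true := by decide +kernel

theorem xp_653 : allRange 196553 301 (fun u => chkXP tab xc xw u) = true := by decide +kernel

theorem xp_654 : allRange 196854 301 (fun u => chkXP tab xc xw u) = true := by decide +kernel

theorem xp_655 : allRange 197155 301 (fun u => chkXP tab xc xw u) = true := by decide +kernel


end Cfsg.Agent.Helper9.TCData.X1690B
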