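import Cfsg.Agent.Lib.Helper9.TCData.X1690B.Main

set_option autoImplicit false
set_option maxRecDepth 1000000

namespace Cfsg.Agent.Helper9.TCData.X1690B
open Cfsg.Agent.Helper9.TC2 Cfsg.Agent.Helper9.TCData.X1690

theorem xp_656 : allRange 197456 301 (fun u => chkXP tab xc xw u) = true := by decide +kernel

theorem xp_657 : allRange 197757 301 (fun u => chkXP tab xc xw u) = true := by decide +kernel

theorem xp_658 : allRange 198058 301 (fun u => chkXP tab xc xw u) = true := by decide +kernel

theorem xp_659 : allRange 198359 301 (fun u => chkXP tab xc xw u) = true := by decide +kernel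

theorem xp_660 : allRange 198660 301 (fun u => chkXP tab xc xw u) = true := by decide +kernel

theorem xp_661 : allRange 198961 301 (fun u => chkXP tab xc xw u) = true := by decide +kernel

theorem xp_662 : allRange 199262 301 (fun u => chkXP tab xc xw u) = true := by decide +kernel

theorem xp_663 : allRange 199563 301 (fun u => chkXP tab xc xw u) = true := by decide +kernel


end Cfsg.Agent.Helper9.TCData.X1690B
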