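import Cfsg.Agent.Lib.Helper9.TCData.X1690B.Main

set_option autoImplicit false
set_option maxRecDepth 1000000

namespace Cfsg.Agent.Helper9.TCData.X1690B
open Cfsg.Agent.Helper9.TC2 Cfsg.Agent.Helper9.TCData.X1690

theorem xp_664 : allRange 199864 301 (fun u => chkXP tab xc xw u) = true := by decide +kernel

theorem xp_665 : allRange 200165 301 (fun u => chkXP tab xc xw u) = true := by decide +kernel

theorem xp_666 : allRange 200466 301 (fun u => chkXP tab xc xw u) = true := by decide +kernel

theorem xp_667 : allRange 200767 301 (fun u => chkXP tab xc xw u) = true := by decide +kernel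

theorem xp_668 : allRange 201068 301 (fun u => chkXP tab xc xw u) = true := by decide +kernel

theorem xp_669 : allRange 201369 301 (fun u => chkXP tab xc xw u) = true := by decide +kernel

theorem xp_670 : allRange 201670 301 (fun u => chkXP tab xc xw u) = true := by decide +kernel

theorem xp_671 : allRange 201971 301 (fun u => chkXP tab xc xw u) = true := by decide +kernel


end Cfsg.Agent.Helper9.TCData.X1690B
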