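import Cfsg.Agent.Lib.Helper9.TCData.X1690B.Main

set_option autoImplicit false
set_option maxRecDepth 1000000

namespace Cfsg.Agent.Helper9.TCData.X1690B
open Cfsg.Agent.Helper9.TC2 Cfsg.Agent.Helper9.TCData.X1690

theorem xp_672 : allRange 202272 301 (fun u => chkXP tab xc xw u) = true := by decide +kernel

theorem xp_673 : allRange 202573 301 (fun u => chkXP tab xc xw u) = true := by decide +kernel

theorem xp_674 : allRange 202874 301 (fun u => chkXP tab xc xw u) = true := by decide +kernel

theorem xp_675 : allRange 203175 301 (fun u => chkXP tab xc xw u) = true := by decide +kernel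

theorem xp_676 : allRange 203476 301 (fun u => chkXP tab xc xw u) = true := by decide +kernel

theorem xp_677 : allRange 203777 301 (fun u => chkXP tab xc xw u) = true := by decide +kernel

theorem xp_678 : allRange 204078 301 (fun u => chkXP tab xc xw u) = true := by decide +kernel

theorem xp_679 : allRange 204379 301 (fun u => chkXP tab xc xw u) = true := by decide +kernel


end Cfsg.Agent.Helper9.TCData.X1690B
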