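import Cfsg.Agent.Lib.Helper9.TCData.X1690B.Main

set_option autoImplicit false
set_option maxRecDepth 1000000

namespace Cfsg.Agent.Helper9.TCData.X1690B
open Cfsg.Agent.Helper9.TC2 Cfsg.Agent.Helper9.TCData.X1690

theorem xp_680 : allRange 204680 301 (fun u => chkXP tab xc xw u) = true := by decide +kernel

theorem xp_681 : allRange 204981 301 (fun u => chkXP tab xc xw u) = true := by decide +kernel

theorem xp_682 : allRange 205282 301 (fun u => chkXP tab xc xw u) = true := by decide +kernel

theorem xp_683 : allRange 205583 301 (fun u => chkXP tab xc xw u) = true := by decide +kernel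

theorem xp_684 : allRange 205884 301 (fun u => chkXP tab xc xw u) = true := by decide +kernel

theorem xp_685 : allRange 206185 301 (fun u => chkXP tab xc xw u) = true := by decide +kernel

theorem xp_686 : allRange 206486 301 (fun u => chkXP tab xc xw u) = true := by decide +kernel

theorem xp_687 : allRange 206787 301 (fun u => chkXP tab xc xw u) = true := by decide +kernel


end Cfsg.Agent.Helper9.TCData.X1690B
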