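import Cfsg.Agent.Lib.Helper9.TCData.X1690B.Main

set_option autoImplicit false
set_option maxRecDepth 1000000

namespace Cfsg.Agent.Helper9.TCData.X1690B
open Cfsg.Agent.Helper9.TC2 Cfsg.Agent.Helper9.TCData.X1690

theorem xp_688 : allRange 207088 301 (fun u => chkXP tab xc xw u) = true := by decide +kernel

theorem xp_689 : allRange 207389 301 (fun u => chkXP tab xc xw u) = true := by decide +kernel

theorem xp_690 : allRange 207690 301 (fun u => chkXP tab xc xw u) = true := by decide +kernel

theorem xp_691 : allRange 207991 301 (fun u => chkXP tab xc xw u) = true := by decide +kernel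

theorem xp_692 : allRange 208292 301 (fun u => chkXP tab xc xw u) = true := by decide +kernel

theorem xp_693 : allRange 208593 301 (fun u => chkXP tab xc xw u) = true := by decide +kernel

theorem xp_694 : allRange 208894 301 (fun u => chkXP tab xc xw u) = true := by decide +kernel

theorem xp_695 : allRange 209195 301 (fun u => chkXP tab xc xw u) = true := by decide +kernel


end Cfsg.Agent.Helper9.TCData.X1690B
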