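import Cfsg.Agent.Lib.Helper9.TCData.X1690B.Main

set_option autoImplicit false
set_option maxRecDepth 1000000

namespace Cfsg.Agent.Helper9.TCData.X1690B
open Cfsg.Agent.Helper9.TC2 Cfsg.Agent.Helper9.TCData.X1690

theorem xp_696 : allRange 209496 301 (fun u => chkXP tab xc xw u) = true := by decide +kernel

theorem xp_697 : allRange 209797 301 (fun u => chkXP tab xc xw u) = true := by decide +kernel

theorem xp_698 : allRange 210098 301 (fun u => chkXP tab xc xw u) = true := by decide +kernel

theorem xp_699 : allRange 210399 301 (fun u => chkXP tab xc xw u) = true := by decide +kernel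

theorem xp_700 : allRange 210700 301 (fun u => chkXP tab xc xw u) = true := by decide +kernel

theorem xp_701 : allRange 211001 301 (fun u => chkXP tab xc xw u) = true := by decide +kernel

theorem xp_702 : allRange 211302 301 (fun u => chkXP tab xc xw u) = true := by decide +kernel

theorem xp_703 : allRange 211603 301 (fun u => chkXP tab xc xw u) = true := by decide +kernel


end Cfsg.Agent.Helper9.TCData.X1690B
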