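import Cfsg.Agent.Lib.Helper9.TCData.X1690B.Main

set_option autoImplicit false
set_option maxRecDepth 1000000

namespace Cfsg.Agent.Helper9.TCData.X1690B
open Cfsg.Agent.Helper9.TC2 Cfsg.Agent.Helper9.TCData.X1690

theorem xp_704 : allRange 211904 301 (fun u => chkXP tab xc xw u) = true := by decide +kernel

theorem xp_705 : allRange 212205 301 (fun u => chkXP tab xc xw u) = true := by decide +kernel

theorem xp_706 : allRange 212506 301 (fun u => chkXP tab xc xw u) = true := by decide +kernel

theorem xp_707 : allRange 212807 301 (fun u => chkXP tab xc xw u) = true := by decide +kernel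

theorem xp_708 : allRange 213108 301 (fun u => chkXP tab xc xw u) = true := by decide +kernel

theorem xp_709 : allRange 213409 301 (fun u => chkXP tab xc xw u) = true := by decide +kernel

theorem xp_710 : allRange 213710 301 (fun u => chkXP tab xc xw u) = true := by decide +kernel

theorem xp_711 : allRange 214011 301 (fun u => chkXP tab xc xw u) = true := by decide +kernel


end Cfsg.Agent.Helper9.TCData.X1690B
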