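import Cfsg.Agent.Lib.Helper9.TCData.X1690B.Main

set_option autoImplicit false
set_option maxRecDepth 1000000

namespace Cfsg.Agent.Helper9.TCData.X1690B
open Cfsg.Agent.Helper9.TC2 Cfsg.Agent.Helper9.TCData.X1690

theorem xp_712 : allRange 214312 301 (fun u => chkXP tab xc xw u) = true := by decide +kernel

theorem xp_713 : allRange 214613 301 (fun u => chkXP tab xc xw u) = true := by decide +kernel

theorem xp_714 : allRange 214914 301 (fun u => chkXP tab xc xw u) = true := by decide +kernel

theorem xp_715 : allRange 215215 301 (fun u => chkXP tab xc xw u) = true := by decide +kernel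

theorem xp_716 : allRange 215516 301 (fun u => chkXP tab xc xw u) = true := by decide +kernel

theorem xp_717 : allRange 215817 301 (fun u => chkXP tab xc xw u) = true := by decide +kernel

theorem xp_718 : allRange 216118 301 (fun u => chkXP tab xc xw u) = true := by decide +kernel

theorem xp_719 : allRange 216419 301 (fun u => chkXP tab xc xw u) = true := by decide +kernel


end Cfsg.Agent.Helper9.TCData.X1690B
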