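import Cfsg.Agent.Lib.Helper9.TCData.X1690B.Main

set_option autoImplicit false
set_option maxRecDepth 1000000

namespace Cfsg.Agent.Helper9.TCData.X1690B
open Cfsg.Agent.Helper9.TC2 Cfsg.Agent.Helper9.TCData.X1690

theorem xp_720 : allRange 216720 301 (fun u => chkXP tab xc xw u) = true := by decide +kernel

theorem xp_721 : allRange 217021 301 (fun u => chkXP tab xc xw u) = true := by decide +kernel

theorem xp_722 : allRange 217322 301 (fun u => chkXP tab xc xw u) = true := by decide +kernel

theorem xp_723 : allRange 217623 301 (fun u => chkXP tab xc xw u) = true := by decide +kernel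

theorem xp_724 : allRange 217924 301 (fun u => chkXP tab xc xw u) = true := by decide +kernel

theorem xp_725 : allRange 218225 301 (fun u => chkXP tab xc xw u) = true := by decide +kernel

theorem xp_726 : allRange 218526 301 (fun u => chkXP tab xc xw u) = true := by decide +kernel

theorem xp_727 : allRange 218827 301 (fun u => chkXP tab xc xw u) = true := by decide +kernel


end Cfsg.Agent.Helper9.TCData.X1690B
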