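import Cfsg.Agent.Lib.Helper9.TCData.X1690B.Main

set_option autoImplicit false
set_option maxRecDepth 1000000

namespace Cfsg.Agent.Helper9.TCData.X1690B
open Cfsg.Agent.Helper9.TC2 Cfsg.Agent.Helper9.TCData.X1690

theorem xp_728 : allRange 219128 301 (fun u => chkXP tab xc xw u) = true := by decide +kernel

theorem xp_729 : allRange 219429 301 (fun u => chkXP tab xc xw u) = true := by decide +kernel

theorem xp_730 : allRange 219730 301 (fun u => chkXP tab xc xw u) = true := by decide +kernel

theorem xp_731 : allRange 220031 301 (fun u => chkXP tab xc xw u) = true := by decide +kernel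

theorem xp_732 : allRange 220332 301 (fun u => chkXP tab xc xw u) = true := by decide +kernel

theorem xp_733 : allRange 220633 301 (fun u => chkXP tab xc xw u) = true := by decide +kernel

theorem xp_734 : allRange 220934 301 (fun u => chkXP tab xc xw u) = true := by decide +kernel

theorem xp_735 : allRange 221235 301 (fun u => chkXP tab xc xw u) = true := by decide +kernel


end Cfsg.Agent.Helper9.TCData.X1690B
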