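import Cfsg.Agent.Lib.Helper9.TCData.X1690B.Main

set_option autoImplicit false
set_option maxRecDepth 1000000

namespace Cfsg.Agent.Helper9.TCData.X1690B
open Cfsg.Agent.Helper9.TC2 Cfsg.Agent.Helper9.TCData.X1690

theorem xp_744 : allRange 223944 301 (fun u => chkXP tab xc xw u) = true := by decide +kernel

theorem xp_745 : allRange 224245 301 (fun u => chkXP tab xc xw u) = true := by decide +kernel

theorem xp_746 : allRange 224546 301 (fun u => chkXP tab xc xw u) = true := by decide +kernel

theorem xp_747 : allRange 224847 301 (fun u => chkXP tab xc xw u) = true := by decide +kernel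

theorem xp_748 : allRange 225148 301 (fun u => chkXP tab xc xw u) = true := by decide +kernel

theorem xp_749 : allRange 225449 301 (fun u => chkXP tab xc xw u) = true := by decide +kernel

theorem xp_750 : allRange 225750 301 (fun u => chkXP tab xc xw u) = true := by decide +kernel

theorem xp_751 : allRange 226051 301 (fun u => chkXP tab xc xw u) = true := by decide +kernel


end Cfsg.Agent.Helper9.TCData.X1690B
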