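import Cfsg.Agent.Lib.Helper9.TCData.X1690B.Main

set_option autoImplicit false
set_option maxRecDepth 1000000

namespace Cfsg.Agent.Helper9.TCData.X1690B
open Cfsg.Agent.Helper9.TC2 Cfsg.Agent.Helper9.TCData.X1690

theorem xp_752 : allRange 226352 301 (fun u => chkXP tab xc xw u) = true := by decide +kernel

theorem xp_753 : allRange 226653 301 (fun u => chkXP tab xc xw u) = true := by decide +kernel

theorem xp_754 : allRange 226954 301 (fun u => chkXP tab xc xw u) = true := by decide +kernel

theorem xp_755 : allRange 227255 301 (fun u => chkXP tab xc xw u) = true := by decide +kernel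

theorem xp_756 : allRange 227556 301 (fun u => chkXP tab xc xw u) = true := by decide +kernel

theorem xp_757 : allRange 227857 301 (fun u => chkXP tab xc xw u) = true := by decide +kernel

theorem xp_758 : allRange 228158 301 (fun u => chkXP tab xc xw u) = true := by decide +kernel

theorem xp_759 : allRange 228459 301 (fun u => chkXP tab xc xw u) = true := by decide +kernel


end Cfsg.Agent.Helper9.TCData.X1690B
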