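import Cfsg.Agent.Lib.Helper9.TCData.X1690B.Main

set_option autoImplicit false
set_option maxRecDepth 1000000

namespace Cfsg.Agent.Helper9.TCData.X1690B
open Cfsg.Agent.Helper9.TC2 Cfsg.Agent.Helper9.TCData.X1690

theorem xp_760 : allRange 228760 301 (fun u => chkXP tab xc xw u) = true := by decide +kernel

theorem xp_761 : allRange 229061 301 (fun u => chkXP tab xc xw u) = true := by decide +kernel

theorem xp_762 : allRange 229362 301 (fun u => chkXP tab xc xw u) = true := by decide +kernel

theorem xp_763 : allRange 229663 301 (fun u => chkXP tab xc xw u) = true := by decide +kernel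

theorem xp_764 : allRange 229964 301 (fun u => chkXP tab xc xw u) = true := by decide +kernel

theorem xp_765 : allRange 230265 301 (fun u => chkXP tab xc xw u) = true := by decide +kernel

theorem xp_766 : allRange 230566 301 (fun u => chkXP tab xc xw u) = true := by decide +kernel

theorem xp_767 : allRange 230867 301 (fun u => chkXP tab xc xw u) = true := by decide +kernel


end Cfsg.Agent.Helper9.TCData.X1690B
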