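import Cfsg.Agent.Lib.Helper9.TCData.X1690B.Main

set_option autoImplicit false
set_option maxRecDepth 1000000

namespace Cfsg.Agent.Helper9.TCData.X1690B
open Cfsg.Agent.Helper9.TC2 Cfsg.Agent.Helper9.TCData.X1690

theorem xp_768 : allRange 231168 301 (fun u => chkXP tab xc xw u) = true := by decide +kernel

theorem xp_769 : allRange 231469 301 (fun u => chkXP tab xc xw u) = true := by decide +kernel

theorem xp_770 : allRange 231770 301 (fun u => chkXP tab xc xw u) = true := by decide +kernel

theorem xp_771 : allRange 232071 301 (fun u => chkXP tab xc xw u) = true := by decide +kernel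

theorem xp_772 : allRange 232372 301 (fun u => chkXP tab xc xw u) = true := by decide +kernel

theorem xp_773 : allRange 232673 301 (fun u => chkXP tab xc xw u) = true := by decide +kernel

theorem xp_774 : allRange 232974 301 (fun u => chkXP tab xc xw u) = true := by decide +kernel

theorem xp_775 : allRange 233275 301 (fun u => chkXP tab xc xw u) = true := by decide +kernel


end Cfsg.Agent.Helper9.TCData.X1690B
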