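import Cfsg.Agent.Lib.Helper9.TCData.X1690B.Main

set_option autoImplicit false
set_option maxRecDepth 1000000

namespace Cfsg.Agent.Helper9.TCData.X1690B
open Cfsg.Agent.Helper9.TC2 Cfsg.Agent.Helper9.TCData.X1690

theorem xp_776 : allRange 233576 301 (fun u => chkXP tab xc xw u) = true := by decide +kernel

theorem xp_777 : allRange 233877 301 (fun u => chkXP tab xc xw u) = true := by decide +kernel

theorem xp_778 : allRange 234178 301 (fun u => chkXP tab xc xw u) = true := by decide +kernel

theorem xp_779 : allRange 234479 301 (fun u => chkXP tab xc xw u) = true := by decide +kernel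

theorem xp_780 : allRange 234780 301 (fun u => chkXP tab xc xw u) = true := by decide +kernel

theorem xp_781 : allRange 235081 301 (fun u => chkXP tab xc xw u) = true := by decide +kernel

theorem xp_782 : allRange 235382 301 (fun u => chkXP tab xc xw u) = true := by decide +kernel

theorem xp_783 : allRange 235683 301 (fun u => chkXP tab xc xw u) = true := by decide +kernel


end Cfsg.Agent.Helper9.TCData.X1690B
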