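import Cfsg.Agent.Lib.Helper9.TCData.X1690B.Main

set_option autoImplicit false
set_option maxRecDepth 1000000

namespace Cfsg.Agent.Helper9.TCData.X1690B
open Cfsg.Agent.Helper9.TC2 Cfsg.Agent.Helper9.TCData.X1690

theorem xp_784 : allRange 235984 301 (fun u => chkXP tab xc xw u) = true := by decide +kernel

theorem xp_785 : allRange 236285 301 (fun u => chkXP tab xc xw u) = true := by decide +kernel

theorem xp_786 : allRange 236586 301 (fun u => chkXP tab xc xw u) = true := by decide +kernel

theorem xp_787 : allRange 236887 301 (fun u => chkXP tab xc xw u) = true := by decide +kernel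

theorem xp_788 : allRange 237188 301 (fun u => chkXP tab xc xw u) = true := by decide +kernel

theorem xp_789 : allRange 237489 301 (fun u => chkXP tab xc xw u) = true := by decide +kernel

theorem xp_790 : allRange 237790 301 (fun u => chkXP tab xc xw u) = true := by decide +kernel

theorem xp_791 : allRange 238091 301 (fun u => chkXP tab xc xw u) = true := by decide +kernel


end Cfsg.Agent.Helper9.TCData.X1690B
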