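import Cfsg.Agent.Lib.Helper9.TCData.X1690B.Main

set_option autoImplicit false
set_option maxRecDepth 1000000

namespace Cfsg.Agent.Helper9.TCData.X1690B
open Cfsg.Agent.Helper9.TC2 Cfsg.Agent.Helper9.TCData.X1690

theorem xp_792 : allRange 238392 301 (fun u => chkXP tab xc xw u) = true := by decide +kernel

theorem xp_793 : allRange 238693 301 (fun u => chkXP tab xc xw u) = true := by decide +kernel

theorem xp_794 : allRange 238994 301 (fun u => chkXP tab xc xw u) = true := by decide +kernel

theorem xp_795 : allRange 239295 301 (fun u => chkXP tab xc xw u) = true := by decide +kernel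

theorem xp_796 : allRange 239596 301 (fun u => chkXP tab xc xw u) = true := by decide +kernel

theorem xp_797 : allRange 239897 301 (fun u => chkXP tab xc xw u) = true := by decide +kernel

theorem xp_798 : allRange 240198 301 (fun u => chkXP tab xc xw u) = true := by decide +kernel

theorem xp_799 : allRange 240499 301 (fun u => chkXP tab xc xw u) = true := by decide +kernel


end Cfsg.Agent.Helper9.TCData.X1690B
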