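import Cfsg.Agent.Lib.Helper9.TCData.X1690B.Main

set_option autoImplicit false
set_option maxRecDepth 1000000

namespace Cfsg.Agent.Helper9.TCData.X1690B
open Cfsg.Agent.Helper9.TC2 Cfsg.Agent.Helper9.TCData.X1690

theorem xp_800 : allRange 240800 301 (fun u => chkXP tab xc xw u) = true := by decide +kernel

theorem xp_801 : allRange 241101 301 (fun u => chkXP tab xc xw u) = true := by decide +kernel

theorem xp_802 : allRange 241402 301 (fun u => chkXP tab xc xw u) = true := by decide +kernel

theorem xp_803 : allRange 241703 301 (fun u => chkXP tab xc xw u) = true := by decide +kernel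

theorem xp_804 : allRange 242004 301 (fun u => chkXP tab xc xw u) = true := by decide +kernel

theorem xp_805 : allRange 242305 301 (fun u => chkXP tab xc xw u) = true := by decide +kernel

theorem xp_806 : allRange 242606 301 (fun u => chkXP tab xc xw u) = true := by decide +kernel

theorem xp_807 : allRange 242907 301 (fun u => chkXP tab xc xw u) = true := by decide +kernel


end Cfsg.Agent.Helper9.TCData.X1690B
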