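import Cfsg.Agent.Lib.Helper9.TCData.X1690B.Main

set_option autoImplicit false
set_option maxRecDepth 1000000

namespace Cfsg.Agent.Helper9.TCData.X1690B
open Cfsg.Agent.Helper9.TC2 Cfsg.Agent.Helper9.TCData.X1690

theorem xp_808 : allRange 243208 301 (fun u => chkXP tab xc xw u) = true := by decide +kernel

theorem xp_809 : allRange 243509 301 (fun u => chkXP tab xc xw u) = true := by decide +kernel

theorem xp_810 : allRange 243810 301 (fun u => chkXP tab xc xw u) = true := by decide +kernel

theorem xp_811 : allRange 244111 301 (fun u => chkXP tab xc xw u) = true := by decide +kernel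

theorem xp_812 : allRange 244412 301 (fun u => chkXP tab xc xw u) = true := by decide +kernel

theorem xp_813 : allRange 244713 301 (fun u => chkXP tab xc xw u) = true := by decide +kernel

theorem xp_814 : allRange 245014 301 (fun u => chkXP tab xc xw u) = true := by decide +kernel

theorem xp_815 : allRange 245315 301 (fun u => chkXP tab xc xw u) = true := by decide +kernel


end Cfsg.Agent.Helper9.TCData.X1690B
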