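import Cfsg.Agent.Lib.Helper9.TCData.X1690B.Main

set_option autoImplicit false
set_option maxRecDepth 1000000

namespace Cfsg.Agent.Helper9.TCData.X1690B
open Cfsg.Agent.Helper9.TC2 Cfsg.Agent.Helper9.TCData.X1690

theorem xp_816 : allRange 245616 301 (fun u => chkXP tab xc xw u) = true := by decide +kernel

theorem xp_817 : allRange 245917 301 (fun u => chkXP tab xc xw u) = true := by decide +kernel

theorem xp_818 : allRange 246218 301 (fun u => chkXP tab xc xw u) = true := by decide +kernel

theorem xp_819 : allRange 246519 301 (fun u => chkXP tab xc xw u) = true := by decide +kernel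

theorem xp_820 : allRange 246820 301 (fun u => chkXP tab xc xw u) = true := by decide +kernel

theorem xp_821 : allRange 247121 301 (fun u => chkXP tab xc xw u) = true := by decide +kernel

theorem xp_822 : allRange 247422 301 (fun u => chkXP tab xc xw u) = true := by decide +kernel

theorem xp_823 : allRange 247723 301 (fun u => chkXP tab xc xw u) = true := by decide +kernel


end Cfsg.Agent.Helper9.TCData.X1690B
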