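import Cfsg.Agent.Lib.Helper9.TCData.X1690B.Main

set_option autoImplicit false
set_option maxRecDepth 1000000

namespace Cfsg.Agent.Helper9.TCData.X1690B
open Cfsg.Agent.Helper9.TC2 Cfsg.Agent.Helper9.TCData.X1690

theorem xp_824 : allRange 248024 301 (fun u => chkXP tab xc xw u) = true := by decide +kernel

theorem xp_825 : allRange 248325 301 (fun u => chkXP tab xc xw u) = true := by decide +kernel

theorem xp_826 : allRange 248626 301 (fun u => chkXP tab xc xw u) = true := by decide +kernel

theorem xp_827 : allRange 248927 301 (fun u => chkXP tab xc xw u) = true := by decide +kernel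

theorem xp_828 : allRange 249228 301 (fun u => chkXP tab xc xw u) = true := by decide +kernel

theorem xp_829 : allRange 249529 301 (fun u => chkXP tab xc xw u) = true := by decide +kernel

theorem xp_830 : allRange 249830 301 (fun u => chkXP tab xc xw u) = true := by decide +kernel

theorem xp_831 : allRange 250131 301 (fun u => chkXP tab xc xw u) = true := by decide +kernel


end Cfsg.Agent.Helper9.TCData.X1690B
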