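import Cfsg.Agent.Lib.Helper9.TCData.X1690B.Main

set_option autoImplicit false
set_option maxRecDepth 1000000

namespace Cfsg.Agent.Helper9.TCData.X1690B
open Cfsg.Agent.Helper9.TC2 Cfsg.Agent.Helper9.TCData.X1690

theorem xp_840 : allRange 252840 301 (fun u => chkXP tab xc xw u) = true := by decide +kernel

theorem xp_841 : allRange 253141 301 (fun u => chkXP tab xc xw u) = true := by decide +kernel

theorem xp_842 : allRange 253442 301 (fun u => chkXP tab xc xw u) = true := by decide +kernel

theorem xp_843 : allRange 253743 301 (fun u => chkXP tab xc xw u) = true := by decide +kernel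

theorem xp_844 : allRange 254044 301 (fun u => chkXP tab xc xw u) = true := by decide +kernel

theorem xp_845 : allRange 254345 301 (fun u => chkXP tab xc xw u) = true := by decide +kernel

theorem xp_846 : allRange 254646 301 (fun u => chkXP tab xc xw u) = true := by decide +kernel

theorem xp_847 : allRange 254947 301 (fun u => chkXP tab xc xw u) = true := by decide +kernel


end Cfsg.Agent.Helper9.TCData.X1690B
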