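import Cfsg.Agent.Lib.Helper9.TCData.X1690B.Main

set_option autoImplicit false
set_option maxRecDepth 1000000

namespace Cfsg.Agent.Helper9.TCData.X1690B
open Cfsg.Agent.Helper9.TC2 Cfsg.Agent.Helper9.TCData.X1690

theorem xp_848 : allRange 255248 301 (fun u => chkXP tab xc xw u) = true := by decide +kernel

theorem xp_849 : allRange 255549 301 (fun u => chkXP tab xc xw u) = true := by decide +kernel

theorem xp_850 : allRange 255850 301 (fun u => chkXP tab xc xw u) = true := by decide +kernel

theorem xp_851 : allRange 256151 301 (fun u => chkXP tab xc xw u) = true := by decide +kernel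

theorem xp_852 : allRange 256452 301 (fun u => chkXP tab xc xw u) = true := by decide +kernel

theorem xp_853 : allRange 256753 301 (fun u => chkXP tab xc xw u) = true := by decide +kernel

theorem xp_854 : allRange 257054 301 (fun u => chkXP tab xc xw u) = true := by decide +kernel

theorem xp_855 : allRange 257355 301 (fun u => chkXP tab xc xw u) = true := by decide +kernel


end Cfsg.Agent.Helper9.TCData.X1690B
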