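import Cfsg.Agent.Lib.Helper9.TCData.X1690B.Main

set_option autoImplicit false
set_option maxRecDepth 1000000

namespace Cfsg.Agent.Helper9.TCData.X1690B
open Cfsg.Agent.Helper9.TC2 Cfsg.Agent.Helper9.TCData.X1690

theorem xp_856 : allRange 257656 301 (fun u => chkXP tab xc xw u) = true := by decide +kernel

theorem xp_857 : allRange 257957 301 (fun u => chkXP tab xc xw u) = true := by decide +kernel

theorem xp_858 : allRange 258258 301 (fun u => chkXP tab xc xw u) = true := by decide +kernel

theorem xp_859 : allRange 258559 301 (fun u => chkXP tab xc xw u) = true := by decide +kernel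

theorem xp_860 : allRange 258860 301 (fun u => chkXP tab xc xw u) = true := by decide +kernel

theorem xp_861 : allRange 259161 301 (fun u => chkXP tab xc xw u) = true := by decide +kernel

theorem xp_862 : allRange 259462 301 (fun u => chkXP tab xc xw u) = true := by decide +kernel

theorem xp_863 : allRange 259763 301 (fun u => chkXP tab xc xw u) = true := by decide +kernel


end Cfsg.Agent.Helper9.TCData.X1690B
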