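import Cfsg.Agent.Lib.Helper9.TCData.X1690B.Main

set_option autoImplicit false
set_option maxRecDepth 1000000

namespace Cfsg.Agent.Helper9.TCData.X1690B
open Cfsg.Agent.Helper9.TC2 Cfsg.Agent.Helper9.TCData.X1690

theorem xp_864 : allRange 260064 301 (fun u => chkXP tab xc xw u) = true := by decide +kernel

theorem xp_865 : allRange 260365 301 (fun u => chkXP tab xc xw u) = true := by decide +kernel

theorem xp_866 : allRange 260666 301 (fun u => chkXP tab xc xw u) = true := by decide +kernel

theorem xp_867 : allRange 260967 301 (fun u => chkXP tab xc xw u) = true := by decide +kernel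

theorem xp_868 : allRange 261268 301 (fun u => chkXP tab xc xw u) = true := by decide +kernel

theorem xp_869 : allRange 261569 301 (fun u => chkXP tab xc xw u) = true := by decide +kernel

theorem xp_870 : allRange 261870 301 (fun u => chkXP tab xc xw u) = true := by decide +kernel

theorem xp_871 : allRange 262171 301 (fun u => chkXP tab xc xw u) = true := by decide +kernel


end Cfsg.Agent.Helper9.TCData.X1690B
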