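import Cfsg.Agent.Lib.Helper9.TCData.X1690B.Main

set_option autoImplicit false
set_option maxRecDepth 1000000

namespace Cfsg.Agent.Helper9.TCData.X1690B
open Cfsg.Agent.Helper9.TC2 Cfsg.Agent.Helper9.TCData.X1690

theorem xp_872 : allRange 262472 301 (fun u => chkXP tab xc xw u) = true := by decide +kernel

theorem xp_873 : allRange 262773 301 (fun u => chkXP tab xc xw u) = true := by decide +kernel

theorem xp_874 : allRange 263074 301 (fun u => chkXP tab xc xw u) = true := by decide +kernel

theorem xp_875 : allRange 263375 301 (fun u => chkXP tab xc xw u) = true := by decide +kernel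

theorem xp_876 : allRange 263676 301 (fun u => chkXP tab xc xw u) = true := by decide +kernel

theorem xp_877 : allRange 263977 301 (fun u => chkXP tab xc xw u) = true := by decide +kernel

theorem xp_878 : allRange 264278 301 (fun u => chkXP tab xc xw u) = true := by decide +kernel

theorem xp_879 : allRange 264579 301 (fun u => chkXP tab xc xw u) = true := by decide +kernel


end Cfsg.Agent.Helper9.TCData.X1690B
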