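import Cfsg.Agent.Lib.Helper9.TCData.X1690B.Main

set_option autoImplicit false
set_option maxRecDepth 1000000

namespace Cfsg.Agent.Helper9.TCData.X1690B
open Cfsg.Agent.Helper9.TC2 Cfsg.Agent.Helper9.TCData.X1690

theorem xp_880 : allRange 264880 301 (fun u => chkXP tab xc xw u) = true := by decide +kernel

theorem xp_881 : allRange 265181 301 (fun u => chkXP tab xc xw u) = true := by decide +kernel

theorem xp_882 : allRange 265482 301 (fun u => chkXP tab xc xw u) = true := by decide +kernel

theorem xp_883 : allRange 265783 301 (fun u => chkXP tab xc xw u) = true := by decide +kernel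

theorem xp_884 : allRange 266084 301 (fun u => chkXP tab xc xw u) = true := by decide +kernel

theorem xp_885 : allRange 266385 301 (fun u => chkXP tab xc xw u) = true := by decide +kernel

theorem xp_886 : allRange 266686 301 (fun u => chkXP tab xc xw u) = true := by decide +kernel

theorem xp_887 : allRange 266987 301 (fun u => chkXP tab xc xw u) = true := by decide +kernel


end Cfsg.Agent.Helper9.TCData.X1690B
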