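import Cfsg.Agent.Lib.Helper9.TCData.X1690B.Main

set_option autoImplicit false
set_option maxRecDepth 1000000

namespace Cfsg.Agent.Helper9.TCData.X1690B
open Cfsg.Agent.Helper9.TC2 Cfsg.Agent.Helper9.TCData.X1690

theorem xp_888 : allRange 267288 301 (fun u => chkXP tab xc xw u) = true := by decide +kernel

theorem xp_889 : allRange 267589 301 (fun u => chkXP tab xc xw u) = true := by decide +kernel

theorem xp_890 : allRange 267890 301 (fun u => chkXP tab xc xw u) = true := by decide +kernel

theorem xp_891 : allRange 268191 301 (fun u => chkXP tab xc xw u) = true := by decide +kernel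

theorem xp_892 : allRange 268492 301 (fun u => chkXP tab xc xw u) = true := by decide +kernel

theorem xp_893 : allRange 268793 301 (fun u => chkXP tab xc xw u) = true := by decide +kernel

theorem xp_894 : allRange 269094 301 (fun u => chkXP tab xc xw u) = true := by decide +kernel

theorem xp_895 : allRange 269395 301 (fun u => chkXP tab xc xw u) = true := by decide +kernel


end Cfsg.Agent.Helper9.TCData.X1690B
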