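import Cfsg.Agent.Lib.Helper9.TCData.X1690B.Main

set_option autoImplicit false
set_option maxRecDepth 1000000

namespace Cfsg.Agent.Helper9.TCData.X1690B
open Cfsg.Agent.Helper9.TC2 Cfsg.Agent.Helper9.TCData.X1690

theorem xp_896 : allRange 269696 301 (fun u => chkXP tab xc xw u) = true := by decide +kernel

theorem xp_897 : allRange 269997 301 (fun u => chkXP tab xc xw u) = true := by decide +kernel

theorem xp_898 : allRange 270298 301 (fun u => chkXP tab xc xw u) = true := by decide +kernel

theorem xp_899 : allRange 270599 301 (fun u => chkXP tab xc xw u) = true := by decide +kernel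

theorem xp_900 : allRange 270900 301 (fun u => chkXP tab xc xw u) = true := by decide +kernel

theorem xp_901 : allRange 271201 301 (fun u => chkXP tab xc xw u) = true := by decide +kernel

theorem xp_902 : allRange 271502 301 (fun u => chkXP tab xc xw u) = true := by decide +kernel

theorem xp_903 : allRange 271803 301 (fun u => chkXP tab xc xw u) = true := by decide +kernel


end Cfsg.Agent.Helper9.TCData.X1690B
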