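import Cfsg.Agent.Lib.Helper9.TCData.X1690B.Main

set_option autoImplicit false
set_option maxRecDepth 1000000

namespace Cfsg.Agent.Helper9.TCData.X1690B
open Cfsg.Agent.Helper9.TC2 Cfsg.Agent.Helper9.TCData.X1690

theorem xp_904 : allRange 272104 301 (fun u => chkXP tab xc xw u) = true := by decide +kernel

theorem xp_905 : allRange 272405 301 (fun u => chkXP tab xc xw u) = true := by decide +kernel

theorem xp_906 : allRange 272706 301 (fun u => chkXP tab xc xw u) = true := by decide +kernel

theorem xp_907 : allRange 273007 301 (fun u => chkXP tab xc xw u) = true := by decide +kernel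

theorem xp_908 : allRange 273308 301 (fun u => chkXP tab xc xw u) = true := by decide +kernel

theorem xp_909 : allRange 273609 301 (fun u => chkXP tab xc xw u) = true := by decide +kernel

theorem xp_910 : allRange 273910 301 (fun u => chkXP tab xc xw u) = true := by decide +kernel

theorem xp_911 : allRange 274211 301 (fun u => chkXP tab xc xw u) = true := by decide +kernel


end Cfsg.Agent.Helper9.TCData.X1690B
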