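import Cfsg.Agent.Lib.Helper9.TCData.X1690B.Main

set_option autoImplicit false
set_option maxRecDepth 1000000

namespace Cfsg.Agent.Helper9.TCData.X1690B
open Cfsg.Agent.Helper9.TC2 Cfsg.Agent.Helper9.TCData.X1690

theorem xp_912 : allRange 274512 301 (fun u => chkXP tab xc xw u) = true := by decide +kernel

theorem xp_913 : allRange 274813 301 (fun u => chkXP tab xc xw u) = true := by decide +kernel

theorem xp_914 : allRange 275114 301 (fun u => chkXP tab xc xw u) = true := by decide +kernel

theorem xp_915 : allRange 275415 301 (fun u => chkXP tab xc xw u) = true := by decide +kernel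

theorem xp_916 : allRange 275716 301 (fun u => chkXP tab xc xw u) = true := by decide +kernel

theorem xp_917 : allRange 276017 301 (fun u => chkXP tab xc xw u) = true := by decide +kernel

theorem xp_918 : allRange 276318 301 (fun u => chkXP tab xc xw u) = true := by decide +kernel

theorem xp_919 : allRange 276619 301 (fun u => chkXP tab xc xw u) = true := by decide +kernel


end Cfsg.Agent.Helper9.TCData.X1690B
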