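import Cfsg.Agent.Lib.Helper9.TCData.X1690B.Main

set_option autoImplicit false
set_option maxRecDepth 1000000

namespace Cfsg.Agent.Helper9.TCData.X1690B
open Cfsg.Agent.Helper9.TC2 Cfsg.Agent.Helper9.TCData.X1690

theorem xp_920 : allRange 276920 301 (fun u => chkXP tab xc xw u) = true := by decide +kernel

theorem xp_921 : allRange 277221 301 (fun u => chkXP tab xc xw u) = true := by decide +kernel

theorem xp_922 : allRange 277522 301 (fun u => chkXP tab xc xw u) = true := by decide +kernel

theorem xp_923 : allRange 277823 301 (fun u => chkXP tab xc xw u) = true := by decide +kernel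

theorem xp_924 : allRange 278124 301 (fun u => chkXP tab xc xw u) = true := by decide +kernel

theorem xp_925 : allRange 278425 301 (fun u => chkXP tab xc xw u) = true := by decide +kernel

theorem xp_926 : allRange 278726 301 (fun u => chkXP tab xc xw u) = true := by decide +kernel

theorem xp_927 : allRange 279027 301 (fun u => chkXP tab xc xw u) = true := by decide +kernel


end Cfsg.Agent.Helper9.TCData.X1690B
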