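import Cfsg.Agent.Lib.Helper9.TCData.X1690B.Main

set_option autoImplicit false
set_option maxRecDepth 1000000

namespace Cfsg.Agent.Helper9.TCData.X1690B
open Cfsg.Agent.Helper9.TC2 Cfsg.Agent.Helper9.TCData.X1690

theorem xp_936 : allRange 281736 301 (fun u => chkXP tab xc xw u) = true := by decide +kernel

theorem xp_937 : allRange 282037 301 (fun u => chkXP tab xc xw u) = true := by decide +kernel

theorem xp_938 : allRange 282338 301 (fun u => chkXP tab xc xw u) = true := by decide +kernel

theorem xp_939 : allRange 282639 301 (fun u => chkXP tab xc xw u) = true := by decide +kernel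

theorem xp_940 : allRange 282940 301 (fun u => chkXP tab xc xw u) = true := by decide +kernel

theorem xp_941 : allRange 283241 301 (fun u => chkXP tab xc xw u) = true := by decide +kernel

theorem xp_942 : allRange 283542 301 (fun u => chkXP tab xc xw u) = true := by decide +kernel

theorem xp_943 : allRange 283843 301 (fun u => chkXP tab xc xw u) = true := by decide +kernel


end Cfsg.Agent.Helper9.TCData.X1690B
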