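import Cfsg.Agent.Lib.Helper9.TCData.X1690B.Main

set_option autoImplicit false
set_option maxRecDepth 1000000

namespace Cfsg.Agent.Helper9.TCData.X1690B
open Cfsg.Agent.Helper9.TC2 Cfsg.Agent.Helper9.TCData.X1690

theorem xp_944 : allRange 284144 301 (fun u => chkXP tab xc xw u) = true := by decide +kernel

theorem xp_945 : allRange 284445 301 (fun u => chkXP tab xc xw u) = true := by decide +kernel

theorem xp_946 : allRange 284746 301 (fun u => chkXP tab xc xw u) = true := by decide +kernel

theorem xp_947 : allRange 285047 301 (fun u => chkXP tab xc xw u) = true := by decide +kernel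

theorem xp_948 : allRange 285348 301 (fun u => chkXP tab xc xw u) = true := by decide +kernel

theorem xp_949 : allRange 285649 301 (fun u => chkXP tab xc xw u) = true := by decide +kernel

theorem xp_950 : allRange 285950 301 (fun u => chkXP tab xc xw u) = true := by decide +kernel

theorem xp_951 : allRange 286251 301 (fun u => chkXP tab xc xw u) = true := by decide +kernel


end Cfsg.Agent.Helper9.TCData.X1690B
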