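import Cfsg.Agent.Lib.Helper9.TCData.X1690B.Main

set_option autoImplicit false
set_option maxRecDepth 1000000

namespace Cfsg.Agent.Helper9.TCData.X1690B
open Cfsg.Agent.Helper9.TC2 Cfsg.Agent.Helper9.TCData.X1690

theorem xp_952 : allRange 286552 301 (fun u => chkXP tab xc xw u) = true := by decide +kernel

theorem xp_953 : allRange 286853 301 (fun u => chkXP tab xc xw u) = true := by decide +kernel

theorem xp_954 : allRange 287154 301 (fun u => chkXP tab xc xw u) = true := by decide +kernel

theorem xp_955 : allRange 287455 301 (fun u => chkXP tab xc xw u) = true := by decide +kernel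

theorem xp_956 : allRange 287756 301 (fun u => chkXP tab xc xw u) = true := by decide +kernel

theorem xp_957 : allRange 288057 301 (fun u => chkXP tab xc xw u) = true := by decide +kernel

theorem xp_958 : allRange 288358 301 (fun u => chkXP tab xc xw u) = true := by decide +kernel

theorem xp_959 : allRange 288659 301 (fun u => chkXP tab xc xw u) = true := by decide +kernel


end Cfsg.Agent.Helper9.TCData.X1690B
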