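import Cfsg.Agent.Lib.Helper9.TCData.X1690B.Main

set_option autoImplicit false
set_option maxRecDepth 1000000

namespace Cfsg.Agent.Helper9.TCData.X1690B
open Cfsg.Agent.Helper9.TC2 Cfsg.Agent.Helper9.TCData.X1690

theorem xp_960 : allRange 288960 301 (fun u => chkXP tab xc xw u) = true := by decide +kernel

theorem xp_961 : allRange 289261 301 (fun u => chkXP tab xc xw u) = true := by decide +kernel

theorem xp_962 : allRange 289562 301 (fun u => chkXP tab xc xw u) = true := by decide +kernel

theorem xp_963 : allRange 289863 301 (fun u => chkXP tab xc xw u) = true := by decide +kernel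

theorem xp_964 : allRange 290164 301 (fun u => chkXP tab xc xw u) = true := by decide +kernel

theorem xp_965 : allRange 290465 301 (fun u => chkXP tab xc xw u) = true := by decide +kernel

theorem xp_966 : allRange 290766 301 (fun u => chkXP tab xc xw u) = true := by decide +kernel

theorem xp_967 : allRange 291067 301 (fun u => chkXP tab xc xw u) = true := by decide +kernel


end Cfsg.Agent.Helper9.TCData.X1690B
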