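import Cfsg.Agent.Lib.Helper9.TCData.X1690B.Main

set_option autoImplicit false
set_option maxRecDepth 1000000

namespace Cfsg.Agent.Helper9.TCData.X1690B
open Cfsg.Agent.Helper9.TC2 Cfsg.Agent.Helper9.TCData.X1690

theorem xp_968 : allRange 291368 301 (fun u => chkXP tab xc xw u) = true := by decide +kernel

theorem xp_969 : allRange 291669 301 (fun u => chkXP tab xc xw u) = true := by decide +kernel

theorem xp_970 : allRange 291970 301 (fun u => chkXP tab xc xw u) = true := by decide +kernel

theorem xp_971 : allRange 292271 301 (fun u => chkXP tab xc xw u) = true := by decide +kernel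

theorem xp_972 : allRange 292572 301 (fun u => chkXP tab xc xw u) = true := by decide +kernel

theorem xp_973 : allRange 292873 301 (fun u => chkXP tab xc xw u) = true := by decide +kernel

theorem xp_974 : allRange 293174 301 (fun u => chkXP tab xc xw u) = true := by decide +kernel

theorem xp_975 : allRange 293475 301 (fun u => chkXP tab xc xw u) = true := by decide +kernel


end Cfsg.Agent.Helper9.TCData.X1690B
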