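import Cfsg.Agent.Lib.Helper9.TCData.X1690B.Main

set_option autoImplicit false
set_option maxRecDepth 1000000

namespace Cfsg.Agent.Helper9.TCData.X1690B
open Cfsg.Agent.Helper9.TC2 Cfsg.Agent.Helper9.TCData.X1690

theorem xp_976 : allRange 293776 301 (fun u => chkXP tab xc xw u) = true := by decide +kernel

theorem xp_977 : allRange 294077 301 (fun u => chkXP tab xc xw u) = true := by decide +kernel

theorem xp_978 : allRange 294378 301 (fun u => chkXP tab xc xw u) = true := by decide +kernel

theorem xp_979 : allRange 294679 301 (fun u => chkXP tab xc xw u) = true := by decide +kernel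

theorem xp_980 : allRange 294980 301 (fun u => chkXP tab xc xw u) = true := by decide +kernel

theorem xp_981 : allRange 295281 301 (fun u => chkXP tab xc xw u) = true := by decide +kernel

theorem xp_982 : allRange 295582 301 (fun u => chkXP tab xc xw u) = true := by decide +kernel

theorem xp_983 : allRange 295883 301 (fun u => chkXP tab xc xw u) = true := by decide +kernel


end Cfsg.Agent.Helper9.TCData.X1690B
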