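import Cfsg.Agent.Lib.Helper9.TCData.X1690B.Main

set_option autoImplicit false
set_option maxRecDepth 1000000

namespace Cfsg.Agent.Helper9.TCData.X1690B
open Cfsg.Agent.Helper9.TC2 Cfsg.Agent.Helper9.TCData.X1690

theorem xp_984 : allRange 296184 301 (fun u => chkXP tab xc xw u) = true := by decide +kernel

theorem xp_985 : allRange 296485 301 (fun u => chkXP tab xc xw u) = true := by decide +kernel

theorem xp_986 : allRange 296786 301 (fun u => chkXP tab xc xw u) = true := by decide +kernel

theorem xp_987 : allRange 297087 301 (fun u => chkXP tab xc xw u) = true := by decide +kernel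

theorem xp_988 : allRange 297388 301 (fun u => chkXP tab xc xw u) = true := by decide +kernel

theorem xp_989 : allRange 297689 301 (fun u => chkXP tab xc xw u) = true := by decide +kernel

theorem xp_990 : allRange 297990 301 (fun u => chkXP tab xc xw u) = true := by decide +kernel

theorem xp_991 : allRange 298291 301 (fun u => chkXP tab xc xw u) = true := by decide +kernel


end Cfsg.Agent.Helper9.TCData.X1690B
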