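import Cfsg.Agent.Lib.Helper9.TCData.X1690B.Main

set_option autoImplicit false
set_option maxRecDepth 1000000

namespace Cfsg.Agent.Helper9.TCData.X1690B
open Cfsg.Agent.Helper9.TC2 Cfsg.Agent.Helper9.TCData.X1690

theorem xp_992 : allRange 298592 301 (fun u => chkXP tab xc xw u) = true := by decide +kernel

theorem xp_993 : allRange 298893 301 (fun u => chkXP tab xc xw u) = true := by decide +kernel

theorem xp_994 : allRange 299194 301 (fun u => chkXP tab xc xw u) = true := by decide +kernel

theorem xp_995 : allRange 299495 301 (fun u => chkXP tab xc xw u) = true := by decide +kernel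

theorem xp_996 : allRange 299796 301 (fun u => chkXP tab xc xw u) = true := by decide +kernel

theorem xp_997 : allRange 300097 301 (fun u => chkXP tab xc xw u) = true := by decide +kernel

theorem xp_998 : allRange 300398 301 (fun u => chkXP tab xc xw u) = true := by decide +kernel

theorem xp_999 : allRange 300699 301 (fun u => chkXP tab xc xw u) = true := by decide +kernel


end Cfsg.Agent.Helper9.TCData.X1690B
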