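import Cfsg.Agent.Lib.Helper9.TCData.X1690B.Main

set_option autoImplicit false
set_option maxRecDepth 1000000

namespace Cfsg.Agent.Helper9.TCData.X1690B
open Cfsg.Agent.Helper9.TC2 Cfsg.Agent.Helper9.TCData.X1690

theorem xp_1000 : allRange 301000 301 (fun u => chkXP tab xc xw u) = true := by decide +kernel

theorem xp_1001 : allRange 301301 301 (fun u => chkXP tab xc xw u) = true := by decide +kernel

theorem xp_1002 : allRange 301602 301 (fun u => chkXP tab xc xw u) = true := by decide +kernel

theorem xp_1003 : allRange 301903 301 (fun u => chkXP tab xc xw u) = true := by decide +kernel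

theorem xp_1004 : allRange 302204 301 (fun u => chkXP tab xc xw u) = true := by decide +kernel

theorem xp_1005 : allRange 302505 301 (fun u => chkXP tab xc xw u) = true := by decide +kernel

theorem xp_1006 : allRange 302806 301 (fun u => chkXP tab xc xw u) = true := by decide +kernel

theorem xp_1007 : allRange 303107 301 (fun u => chkXP tab xc xw u) = true := by decide +kernel


end Cfsg.Agent.Helper9.TCData.X1690B
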