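import Cfsg.Agent.Lib.Helper9.TCData.X1690B.Main

set_option autoImplicit false
set_option maxRecDepth 1000000

namespace Cfsg.Agent.Helper9.TCData.X1690B
open Cfsg.Agent.Helper9.TC2 Cfsg.Agent.Helper9.TCData.X1690

theorem xp_1008 : allRange 303408 301 (fun u => chkXP tab xc xw u) = true := by decide +kernel

theorem xp_1009 : allRange 303709 301 (fun u => chkXP tab xc xw u) = true := by decide +kernel

theorem xp_1010 : allRange 304010 301 (fun u => chkXP tab xc xw u) = true := by decide +kernel

theorem xp_1011 : allRange 304311 301 (fun u => chkXP tab xc xw u) = true := by decide +kernel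

theorem xp_1012 : allRange 304612 301 (fun u => chkXP tab xc xw u) = true := by decide +kernel

theorem xp_1013 : allRange 304913 301 (fun u => chkXP tab xc xw u) = true := by decide +kernel

theorem xp_1014 : allRange 305214 301 (fun u => chkXP tab xc xw u) = true := by decide +kernel

theorem xp_1015 : allRange 305515 301 (fun u => chkXP tab xc xw u) = true := by decide +kernel


end Cfsg.Agent.Helper9.TCData.X1690B
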