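import Cfsg.Agent.Lib.Helper9.TCData.X1690B.Main

set_option autoImplicit false
set_option maxRecDepth 1000000

namespace Cfsg.Agent.Helper9.TCData.X1690B
open Cfsg.Agent.Helper9.TC2 Cfsg.Agent.Helper9.TCData.X1690

theorem o1_240 : allRange 67200 280 (fun u => chkO1 tab orb u) = true := by decide +kernel

theorem o1_241 : allRange 67480 280 (fun u => chkO1 tab orb u) = true := by decide +kernel

theorem o1_242 : allRange 67760 280 (fun u => chkO1 tab orb u) = true := by decide +kernel

theorem o1_243 : allRange 68040 280 (fun u => chkO1 tab orb u) = true := by decide +kernel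

theorem o1_244 : allRange 68320 280 (fun u => chkO1 tab orb u) = true := by decide +kernel

theorem o1_245 : allRange 68600 280 (fun u => chkO1 tab orb u) = true := by decide +kernel

theorem o1_246 : allRange 68880 280 (fun u => chkO1 tab orb u) = true := by decide +kernel

theorem o1_247 : allRange 69160 280 (fun u => chkO1 tab orb u) = true := by decide +kernel


end Cfsg.Agent.Helper9.TCData.X1690B
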