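import Cfsg.Agent.Lib.Helper9.TCData.X1690B.Main

set_option autoImplicit false
set_option maxRecDepth 1000000

namespace Cfsg.Agent.Helper9.TCData.X1690B
open Cfsg.Agent.Helper9.TC2 Cfsg.Agent.Helper9.TCData.X1690

theorem o1_248 : allRange 69440 280 (fun u => chkO1 tab orb u) = true := by decide +kernel

theorem o1_249 : allRange 69720 280 (fun u => chkO1 tab orb u) = true := by decide +kernel

theorem o1_250 : allRange 70000 280 (fun u => chkO1 tab orb u) = true := by decide +kernel

theorem o1_251 : allRange 70280 280 (fun u => chkO1 tab orb u) = true := by decide +kernel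

theorem o1_252 : allRange 70560 280 (fun u => chkO1 tab orb u) = true := by decide +kernel

theorem o1_253 : allRange 70840 280 (fun u => chkO1 tab orb u) = true := by decide +kernel

theorem o1_254 : allRange 71120 280 (fun u => chkO1 tab orb u) = true := by decide +kernel

theorem o1_255 : allRange 71400 280 (fun u => chkO1 tab orb u) = true := by decide +kernel


end Cfsg.Agent.Helper9.TCData.X1690B
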