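import Cfsg.Agent.Lib.Helper9.TCData.X1690B.Main

set_option autoImplicit false
set_option maxRecDepth 1000000

namespace Cfsg.Agent.Helper9.TCData.X1690B
open Cfsg.Agent.Helper9.TC2 Cfsg.Agent.Helper9.TCData.X1690

theorem o1_264 : allRange 73920 280 (fun u => chkO1 tab orb u) = true := by decide +kernel

theorem o1_265 : allRange 74200 280 (fun u => chkO1 tab orb u) = true := by decide +kernel

theorem o1_266 : allRange 74480 280 (fun u => chkO1 tab orb u) = true := by decide +kernel

theorem o1_267 : allRange 74760 280 (fun u => chkO1 tab orb u) = true := by decide +kernel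

theorem o1_268 : allRange 75040 280 (fun u => chkO1 tab orb u) = true := by decide +kernel

theorem o1_269 : allRange 75320 280 (fun u => chkO1 tab orb u) = true := by decide +kernel

theorem o1_270 : allRange 75600 280 (fun u => chkO1 tab orb u) = true := by decide +kernel

theorem o1_271 : allRange 75880 280 (fun u => chkO1 tab orb u) = true := by decide +kernel


end Cfsg.Agent.Helper9.TCData.X1690B
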