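import Cfsg.Agent.Lib.Helper9.TCData.X1690B.Main

set_option autoImplicit false
set_option maxRecDepth 1000000

namespace Cfsg.Agent.Helper9.TCData.X1690B
open Cfsg.Agent.Helper9.TC2 Cfsg.Agent.Helper9.TCData.X1690

theorem o1_272 : allRange 76160 280 (fun u => chkO1 tab orb u) = true := by decide +kernel

theorem o1_273 : allRange 76440 280 (fun u => chkO1 tab orb u) = true := by decide +kernel

theorem o1_274 : allRange 76720 280 (fun u => chkO1 tab orb u) = true := by decide +kernel

theorem o1_275 : allRange 77000 280 (fun u => chkO1 tab orb u) = true := by decide +kernel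

theorem o1_276 : allRange 77280 280 (fun u => chkO1 tab orb u) = true := by decide +kernel

theorem o1_277 : allRange 77560 280 (fun u => chkO1 tab orb u) = true := by decide +kernel

theorem o1_278 : allRange 77840 280 (fun u => chkO1 tab orb u) = true := by decide +kernel

theorem o1_279 : allRange 78120 280 (fun u => chkO1 tab orb u) = true := by decide +kernel


end Cfsg.Agent.Helper9.TCData.X1690B
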