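import Cfsg.Agent.Lib.Helper9.TCData.X1690B.Main

set_option autoImplicit false
set_option maxRecDepth 1000000

namespace Cfsg.Agent.Helper9.TCData.X1690B
open Cfsg.Agent.Helper9.TC2 Cfsg.Agent.Helper9.TCData.X1690

theorem o1_288 : allRange 80640 280 (fun u => chkO1 tab orb u) = true := by decide +kernel

theorem o1_289 : allRange 80920 280 (fun u => chkO1 tab orb u) = true := by decide +kernel

theorem o1_290 : allRange 81200 280 (fun u => chkO1 tab orb u) = true := by decide +kernel

theorem o1_291 : allRange 81480 280 (fun u => chkO1 tab orb u) = true := by decide +kernel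

theorem o1_292 : allRange 81760 280 (fun u => chkO1 tab orb u) = true := by decide +kernel

theorem o1_293 : allRange 82040 280 (fun u => chkO1 tab orb u) = true := by decide +kernel

theorem o1_294 : allRange 82320 280 (fun u => chkO1 tab orb u) = true := by decide +kernel

theorem o1_295 : allRange 82600 280 (fun u => chkO1 tab orb u) = true := by decide +kernel


end Cfsg.Agent.Helper9.TCData.X1690B
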