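import Cfsg.Agent.Lib.Helper9.TCData.X1690B.Main

set_option autoImplicit false
set_option maxRecDepth 1000000

namespace Cfsg.Agent.Helper9.TCData.X1690B
open Cfsg.Agent.Helper9.TC2 Cfsg.Agent.Helper9.TCData.X1690

theorem o1_336 : allRange 94080 280 (fun u => chkO1 tab orb u) = true := by decide +kernel

theorem o1_337 : allRange 94360 280 (fun u => chkO1 tab orb u) = true := by decide +kernel

theorem o1_338 : allRange 94640 280 (fun u => chkO1 tab orb u) = true := by decide +kernel

theorem o1_339 : allRange 94920 280 (fun u => chkO1 tab orb u) = true := by decide +kernel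

theorem o1_340 : allRange 95200 280 (fun u => chkO1 tab orb u) = true := by decide +kernel

theorem o1_341 : allRange 95480 280 (fun u => chkO1 tab orb u) = true := by decide +kernel

theorem o1_342 : allRange 95760 280 (fun u => chkO1 tab orb u) = true := by decide +kernel

theorem o1_343 : allRange 96040 280 (fun u => chkO1 tab orb u) = true := by decide +kernel


end Cfsg.Agent.Helper9.TCData.X1690B
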