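import Cfsg.Agent.Lib.Helper9.TCData.X1690B.Main

set_option autoImplicit false
set_option maxRecDepth 1000000

namespace Cfsg.Agent.Helper9.TCData.X1690B
open Cfsg.Agent.Helper9.TC2 Cfsg.Agent.Helper9.TCData.X1690

theorem o1_344 : allRange 96320 280 (fun u => chkO1 tab orb u) = true := by decide +kernel

theorem o1_345 : allRange 96600 280 (fun u => chkO1 tab orb u) = true := by decide +kernel

theorem o1_346 : allRange 96880 280 (fun u => chkO1 tab orb u) = true := by decide +kernel

theorem o1_347 : allRange 97160 280 (fun u => chkO1 tab orb u) = true := by decide +kernel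

theorem o1_348 : allRange 97440 280 (fun u => chkO1 tab orb u) = true := by decide +kernel

theorem o1_349 : allRange 97720 280 (fun u => chkO1 tab orb u) = true := by decide +kernel

theorem o1_350 : allRange 98000 280 (fun u => chkO1 tab orb u) = true := by decide +kernel

theorem o1_351 : allRange 98280 280 (fun u => chkO1 tab orb u) = true := by decide +kernel


end Cfsg.Agent.Helper9.TCData.X1690B
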