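import Cfsg.Agent.Lib.Helper9.TCData.X1690B.Main

set_option autoImplicit false
set_option maxRecDepth 1000000

namespace Cfsg.Agent.Helper9.TCData.X1690B
open Cfsg.Agent.Helper9.TC2 Cfsg.Agent.Helper9.TCData.X1690

theorem o1_352 : allRange 98560 280 (fun u => chkO1 tab orb u) = true := by decide +kernel

theorem o1_353 : allRange 98840 280 (fun u => chkO1 tab orb u) = true := by decide +kernel

theorem o1_354 : allRange 99120 280 (fun u => chkO1 tab orb u) = true := by decide +kernel

theorem o1_355 : allRange 99400 280 (fun u => chkO1 tab orb u) = true := by decide +kernel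

theorem o1_356 : allRange 99680 280 (fun u => chkO1 tab orb u) = true := by decide +kernel

theorem o1_357 : allRange 99960 280 (fun u => chkO1 tab orb u) = true := by decide +kernel

theorem o1_358 : allRange 100240 280 (fun u => chkO1 tab orb u) = true := by decide +kernel

theorem o1_359 : allRange 100520 280 (fun u => chkO1 tab orb u) = true := by decide +kernel


end Cfsg.Agent.Helper9.TCData.X1690B
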