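import Cfsg.Agent.Lib.Helper9.TCData.X1690B.Main

set_option autoImplicit false
set_option maxRecDepth 1000000

namespace Cfsg.Agent.Helper9.TCData.X1690B
open Cfsg.Agent.Helper9.TC2 Cfsg.Agent.Helper9.TCData.X1690

theorem o1_360 : allRange 100800 280 (fun u => chkO1 tab orb u) = true := by decide +kernel

theorem o1_361 : allRange 101080 280 (fun u => chkO1 tab orb u) = true := by decide +kernel

theorem o1_362 : allRange 101360 280 (fun u => chkO1 tab orb u) = true := by decide +kernel

theorem o1_363 : allRange 101640 280 (fun u => chkO1 tab orb u) = true := by decide +kernel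

theorem o1_364 : allRange 101920 280 (fun u => chkO1 tab orb u) = true := by decide +kernel

theorem o1_365 : allRange 102200 280 (fun u => chkO1 tab orb u) = true := by decide +kernel

theorem o1_366 : allRange 102480 280 (fun u => chkO1 tab orb u) = true := by decide +kernel

theorem o1_367 : allRange 102760 280 (fun u => chkO1 tab orb u) = true := by decide +kernel


end Cfsg.Agent.Helper9.TCData.X1690B
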