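import Cfsg.Agent.Lib.Helper9.TCData.X1690B.Main

set_option autoImplicit false
set_option maxRecDepth 1000000

namespace Cfsg.Agent.Helper9.TCData.X1690B
open Cfsg.Agent.Helper9.TC2 Cfsg.Agent.Helper9.TCData.X1690

theorem o1_368 : allRange 103040 280 (fun u => chkO1 tab orb u) = true := by decide +kernel

theorem o1_369 : allRange 103320 280 (fun u => chkO1 tab orb u) = true := by decide +kernel

theorem o1_370 : allRange 103600 280 (fun u => chkO1 tab orb u) = true := by decide +kernel

theorem o1_371 : allRange 103880 280 (fun u => chkO1 tab orb u) = true := by decide +kernel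

theorem o1_372 : allRange 104160 280 (fun u => chkO1 tab orb u) = true := by decide +kernel

theorem o1_373 : allRange 104440 280 (fun u => chkO1 tab orb u) = true := by decide +kernel

theorem o1_374 : allRange 104720 280 (fun u => chkO1 tab orb u) = true := by decide +kernel

theorem o1_375 : allRange 105000 280 (fun u => chkO1 tab orb u) = true := by decide +kernel


end Cfsg.Agent.Helper9.TCData.X1690B
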