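import Cfsg.Agent.Lib.Helper9.TCData.X1690B.Main

set_option autoImplicit false
set_option maxRecDepth 1000000

namespace Cfsg.Agent.Helper9.TCData.X1690B
open Cfsg.Agent.Helper9.TC2 Cfsg.Agent.Helper9.TCData.X1690

theorem o1_416 : allRange 116480 280 (fun u => chkO1 tab orb u) = true := by decide +kernel

theorem o1_417 : allRange 116760 280 (fun u => chkO1 tab orb u) = true := by decide +kernel

theorem o1_418 : allRange 117040 280 (fun u => chkO1 tab orb u) = true := by decide +kernel

theorem o1_419 : allRange 117320 280 (fun u => chkO1 tab orb u) = true := by decide +kernel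

theorem o1_420 : allRange 117600 280 (fun u => chkO1 tab orb u) = true := by decide +kernel

theorem o1_421 : allRange 117880 280 (fun u => chkO1 tab orb u) = true := by decide +kernel

theorem o1_422 : allRange 118160 280 (fun u => chkO1 tab orb u) = true := by decide +kernel

theorem o1_423 : allRange 118440 280 (fun u => chkO1 tab orb u) = true := by decide +kernel


end Cfsg.Agent.Helper9.TCData.X1690B
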