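import Cfsg.Agent.Lib.Helper9.TCData.X1690B.Main

set_option autoImplicit false
set_option maxRecDepth 1000000

namespace Cfsg.Agent.Helper9.TCData.X1690B
open Cfsg.Agent.Helper9.TC2 Cfsg.Agent.Helper9.TCData.X1690

theorem o1_424 : allRange 118720 280 (fun u => chkO1 tab orb u) = true := by decide +kernel

theorem o1_425 : allRange 119000 280 (fun u => chkO1 tab orb u) = true := by decide +kernel

theorem o1_426 : allRange 119280 280 (fun u => chkO1 tab orb u) = true := by decide +kernel

theorem o1_427 : allRange 119560 280 (fun u => chkO1 tab orb u) = true := by decide +kernel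

theorem o1_428 : allRange 119840 280 (fun u => chkO1 tab orb u) = true := by decide +kernel

theorem o1_429 : allRange 120120 280 (fun u => chkO1 tab orb u) = true := by decide +kernel

theorem o1_430 : allRange 120400 280 (fun u => chkO1 tab orb u) = true := by decide +kernel

theorem o1_431 : allRange 120680 280 (fun u => chkO1 tab orb u) = true := by decide +kernel


end Cfsg.Agent.Helper9.TCData.X1690B
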