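import Cfsg.Agent.Lib.Helper9.TCData.X1690B.Main

set_option autoImplicit false
set_option maxRecDepth 1000000

namespace Cfsg.Agent.Helper9.TCData.X1690B
open Cfsg.Agent.Helper9.TC2 Cfsg.Agent.Helper9.TCData.X1690

theorem o1_440 : allRange 123200 280 (fun u => chkO1 tab orb u) = true := by decide +kernel

theorem o1_441 : allRange 123480 280 (fun u => chkO1 tab orb u) = true := by decide +kernel

theorem o1_442 : allRange 123760 280 (fun u => chkO1 tab orb u) = true := by decide +kernel

theorem o1_443 : allRange 124040 280 (fun u => chkO1 tab orb u) = true := by decide +kernel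

theorem o1_444 : allRange 124320 280 (fun u => chkO1 tab orb u) = true := by decide +kernel

theorem o1_445 : allRange 124600 280 (fun u => chkO1 tab orb u) = true := by decide +kernel

theorem o1_446 : allRange 124880 280 (fun u => chkO1 tab orb u) = true := by decide +kernel

theorem o1_447 : allRange 125160 280 (fun u => chkO1 tab orb u) = true := by decide +kernel


end Cfsg.Agent.Helper9.TCData.X1690B
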