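import Cfsg.Agent.Lib.Helper9.TCData.X1690B.Main

set_option autoImplicit false
set_option maxRecDepth 1000000

namespace Cfsg.Agent.Helper9.TCData.X1690B
open Cfsg.Agent.Helper9.TC2 Cfsg.Agent.Helper9.TCData.X1690

theorem o1_480 : allRange 134400 280 (fun u => chkO1 tab orb u) = true := by decide +kernel

theorem o1_481 : allRange 134680 280 (fun u => chkO1 tab orb u) = true := by decide +kernel

theorem o1_482 : allRange 134960 280 (fun u => chkO1 tab orb u) = true := by decide +kernel

theorem o1_483 : allRange 135240 280 (fun u => chkO1 tab orb u) = true := by decide +kernel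

theorem o1_484 : allRange 135520 280 (fun u => chkO1 tab orb u) = true := by decide +kernel

theorem o1_485 : allRange 135800 280 (fun u => chkO1 tab orb u) = true := by decide +kernel

theorem o1_486 : allRange 136080 280 (fun u => chkO1 tab orb u) = true := by decide +kernel

theorem o1_487 : allRange 136360 280 (fun u => chkO1 tab orb u) = true := by decide +kernel


end Cfsg.Agent.Helper9.TCData.X1690B
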