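import Cfsg.Agent.Lib.Helper9.TCData.X1690B.Main

set_option autoImplicit false
set_option maxRecDepth 1000000

namespace Cfsg.Agent.Helper9.TCData.X1690B
open Cfsg.Agent.Helper9.TC2 Cfsg.Agent.Helper9.TCData.X1690

theorem o1_552 : allRange 154560 280 (fun u => chkO1 tab orb u) = true := by decide +kernel

theorem o1_553 : allRange 154840 280 (fun u => chkO1 tab orb u) = true := by decide +kernel

theorem o1_554 : allRange 155120 280 (fun u => chkO1 tab orb u) = true := by decide +kernel

theorem o1_555 : allRange 155400 280 (fun u => chkO1 tab orb u) = true := by decide +kernel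

theorem o1_556 : allRange 155680 280 (fun u => chkO1 tab orb u) = true := by decide +kernel

theorem o1_557 : allRange 155960 280 (fun u => chkO1 tab orb u) = true := by decide +kernel

theorem o1_558 : allRange 156240 280 (fun u => chkO1 tab orb u) = true := by decide +kernel

theorem o1_559 : allRange 156520 280 (fun u => chkO1 tab orb u) = true := by decide +kernel


end Cfsg.Agent.Helper9.TCData.X1690B
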