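import Cfsg.Agent.Lib.Helper9.TCData.X1690B.Main

set_option autoImplicit false
set_option maxRecDepth 1000000

namespace Cfsg.Agent.Helper9.TCData.X1690B
open Cfsg.Agent.Helper9.TC2 Cfsg.Agent.Helper9.TCData.X1690

theorem o1_592 : allRange 165760 280 (fun u => chkO1 tab orb u) = true := by decide +kernel

theorem o1_593 : allRange 166040 280 (fun u => chkO1 tab orb u) = true := by decide +kernel

theorem o1_594 : allRange 166320 280 (fun u => chkO1 tab orb u) = true := by decide +kernel

theorem o1_595 : allRange 166600 280 (fun u => chkO1 tab orb u) = true := by decide +kernel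

theorem o1_596 : allRange 166880 280 (fun u => chkO1 tab orb u) = true := by decide +kernel

theorem o1_597 : allRange 167160 280 (fun u => chkO1 tab orb u) = true := by decide +kernel

theorem o1_598 : allRange 167440 280 (fun u => chkO1 tab orb u) = true := by decide +kernel

theorem o1_599 : allRange 167720 280 (fun u => chkO1 tab orb u) = true := by decide +kernel


end Cfsg.Agent.Helper9.TCData.X1690B
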