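import Cfsg.Agent.Lib.Helper9.TCData.X1690B.Main

set_option autoImplicit false
set_option maxRecDepth 1000000

namespace Cfsg.Agent.Helper9.TCData.X1690B
open Cfsg.Agent.Helper9.TC2 Cfsg.Agent.Helper9.TCData.X1690

theorem o1_600 : allRange 168000 280 (fun u => chkO1 tab orb u) = true := by decide +kernel

theorem o1_601 : allRange 168280 280 (fun u => chkO1 tab orb u) = true := by decide +kernel

theorem o1_602 : allRange 168560 280 (fun u => chkO1 tab orb u) = true := by decide +kernel

theorem o1_603 : allRange 168840 280 (fun u => chkO1 tab orb u) = true := by decide +kernel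

theorem o1_604 : allRange 169120 280 (fun u => chkO1 tab orb u) = true := by decide +kernel

theorem o1_605 : allRange 169400 280 (fun u => chkO1 tab orb u) = true := by decide +kernel

theorem o1_606 : allRange 169680 280 (fun u => chkO1 tab orb u) = true := by decide +kernel

theorem o1_607 : allRange 169960 280 (fun u => chkO1 tab orb u) = true := by decide +kernel


end Cfsg.Agent.Helper9.TCData.X1690B
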