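import Cfsg.Agent.Lib.Helper9.TCData.X1690B.Main

set_option autoImplicit false
set_option maxRecDepth 1000000

namespace Cfsg.Agent.Helper9.TCData.X1690B
open Cfsg.Agent.Helper9.TC2 Cfsg.Agent.Helper9.TCData.X1690

theorem o1_608 : allRange 170240 280 (fun u => chkO1 tab orb u) = true := by decide +kernel

theorem o1_609 : allRange 170520 280 (fun u => chkO1 tab orb u) = true := by decide +kernel

theorem o1_610 : allRange 170800 280 (fun u => chkO1 tab orb u) = true := by decide +kernel

theorem o1_611 : allRange 171080 280 (fun u => chkO1 tab orb u) = true := by decide +kernel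

theorem o1_612 : allRange 171360 280 (fun u => chkO1 tab orb u) = true := by decide +kernel

theorem o1_613 : allRange 171640 280 (fun u => chkO1 tab orb u) = true := by decide +kernel

theorem o1_614 : allRange 171920 280 (fun u => chkO1 tab orb u) = true := by decide +kernel

theorem o1_615 : allRange 172200 280 (fun u => chkO1 tab orb u) = true := by decide +kernel


end Cfsg.Agent.Helper9.TCData.X1690B
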