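import Cfsg.Agent.Lib.Helper9.TCData.X1690B.Main

set_option autoImplicit false
set_option maxRecDepth 1000000

namespace Cfsg.Agent.Helper9.TCData.X1690B
open Cfsg.Agent.Helper9.TC2 Cfsg.Agent.Helper9.TCData.X1690

theorem o1_616 : allRange 172480 280 (fun u => chkO1 tab orb u) = true := by decide +kernel

theorem o1_617 : allRange 172760 280 (fun u => chkO1 tab orb u) = true := by decide +kernel

theorem o1_618 : allRange 173040 280 (fun u => chkO1 tab orb u) = true := by decide +kernel

theorem o1_619 : allRange 173320 280 (fun u => chkO1 tab orb u) = true := by decide +kernel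

theorem o1_620 : allRange 173600 280 (fun u => chkO1 tab orb u) = true := by decide +kernel

theorem o1_621 : allRange 173880 280 (fun u => chkO1 tab orb u) = true := by decide +kernel

theorem o1_622 : allRange 174160 280 (fun u => chkO1 tab orb u) = true := by decide +kernel

theorem o1_623 : allRange 174440 280 (fun u => chkO1 tab orb u) = true := by decide +kernel


end Cfsg.Agent.Helper9.TCData.X1690B
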