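import Cfsg.Agent.Lib.Helper9.TCData.X1690B.Main

set_option autoImplicit false
set_option maxRecDepth 1000000

namespace Cfsg.Agent.Helper9.TCData.X1690B
open Cfsg.Agent.Helper9.TC2 Cfsg.Agent.Helper9.TCData.X1690

theorem o1_640 : allRange 179200 280 (fun u => chkO1 tab orb u) = true := by decide +kernel

theorem o1_641 : allRange 179480 280 (fun u => chkO1 tab orb u) = true := by decide +kernel

theorem o1_642 : allRange 179760 280 (fun u => chkO1 tab orb u) = true := by decide +kernel

theorem o1_643 : allRange 180040 280 (fun u => chkO1 tab orb u) = true := by decide +kernel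

theorem o1_644 : allRange 180320 280 (fun u => chkO1 tab orb u) = true := by decide +kernel

theorem o1_645 : allRange 180600 280 (fun u => chkO1 tab orb u) = true := by decide +kernel

theorem o1_646 : allRange 180880 280 (fun u => chkO1 tab orb u) = true := by decide +kernel

theorem o1_647 : allRange 181160 280 (fun u => chkO1 tab orb u) = true := by decide +kernel


end Cfsg.Agent.Helper9.TCData.X1690B
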