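import Cfsg.Agent.Lib.Helper9.TCData.X1690B.Main

set_option autoImplicit false
set_option maxRecDepth 1000000

namespace Cfsg.Agent.Helper9.TCData.X1690B
open Cfsg.Agent.Helper9.TC2 Cfsg.Agent.Helper9.TCData.X1690

theorem o1_648 : allRange 181440 280 (fun u => chkO1 tab orb u) = true := by decide +kernel

theorem o1_649 : allRange 181720 280 (fun u => chkO1 tab orb u) = true := by decide +kernel

theorem o1_650 : allRange 182000 280 (fun u => chkO1 tab orb u) = true := by decide +kernel

theorem o1_651 : allRange 182280 280 (fun u => chkO1 tab orb u) = true := by decide +kernel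

theorem o1_652 : allRange 182560 280 (fun u => chkO1 tab orb u) = true := by decide +kernel

theorem o1_653 : allRange 182840 280 (fun u => chkO1 tab orb u) = true := by decide +kernel

theorem o1_654 : allRange 183120 280 (fun u => chkO1 tab orb u) = true := by decide +kernel

theorem o1_655 : allRange 183400 280 (fun u => chkO1 tab orb u) = true := by decide +kernel


end Cfsg.Agent.Helper9.TCData.X1690B
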