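import Cfsg.Agent.Lib.Helper9.TCData.X1690B.Main

set_option autoImplicit false
set_option maxRecDepth 1000000

namespace Cfsg.Agent.Helper9.TCData.X1690B
open Cfsg.Agent.Helper9.TC2 Cfsg.Agent.Helper9.TCData.X1690

theorem o1_680 : allRange 190400 280 (fun u => chkO1 tab orb u) = true := by decide +kernel

theorem o1_681 : allRange 190680 280 (fun u => chkO1 tab orb u) = true := by decide +kernel

theorem o1_682 : allRange 190960 280 (fun u => chkO1 tab orb u) = true := by decide +kernel

theorem o1_683 : allRange 191240 280 (fun u => chkO1 tab orb u) = true := by decide +kernel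

theorem o1_684 : allRange 191520 280 (fun u => chkO1 tab orb u) = true := by decide +kernel

theorem o1_685 : allRange 191800 280 (fun u => chkO1 tab orb u) = true := by decide +kernel

theorem o1_686 : allRange 192080 280 (fun u => chkO1 tab orb u) = true := by decide +kernel

theorem o1_687 : allRange 192360 280 (fun u => chkO1 tab orb u) = true := by decide +kernel


end Cfsg.Agent.Helper9.TCData.X1690B
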