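import Cfsg.Agent.Lib.Helper9.TCData.X1690B.Main

set_option autoImplicit false
set_option maxRecDepth 1000000

namespace Cfsg.Agent.Helper9.TCData.X1690B
open Cfsg.Agent.Helper9.TC2 Cfsg.Agent.Helper9.TCData.X1690

theorem o1_696 : allRange 194880 280 (fun u => chkO1 tab orb u) = true := by decide +kernel

theorem o1_697 : allRange 195160 280 (fun u => chkO1 tab orb u) = true := by decide +kernel

theorem o1_698 : allRange 195440 280 (fun u => chkO1 tab orb u) = true := by decide +kernel

theorem o1_699 : allRange 195720 280 (fun u => chkO1 tab orb u) = true := by decide +kernel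

theorem o1_700 : allRange 196000 280 (fun u => chkO1 tab orb u) = true := by decide +kernel

theorem o1_701 : allRange 196280 280 (fun u => chkO1 tab orb u) = true := by decide +kernel

theorem o1_702 : allRange 196560 280 (fun u => chkO1 tab orb u) = true := by decide +kernel

theorem o1_703 : allRange 196840 280 (fun u => chkO1 tab orb u) = true := by decide +kernel


end Cfsg.Agent.Helper9.TCData.X1690B
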