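import Cfsg.Agent.Lib.Helper9.TCData.X1690B.Main

set_option autoImplicit false
set_option maxRecDepth 1000000

namespace Cfsg.Agent.Helper9.TCData.X1690B
open Cfsg.Agent.Helper9.TC2 Cfsg.Agent.Helper9.TCData.X1690

theorem o1_712 : allRange 199360 280 (fun u => chkO1 tab orb u) = true := by decide +kernel

theorem o1_713 : allRange 199640 280 (fun u => chkO1 tab orb u) = true := by decide +kernel

theorem o1_714 : allRange 199920 280 (fun u => chkO1 tab orb u) = true := by decide +kernel

theorem o1_715 : allRange 200200 280 (fun u => chkO1 tab orb u) = true := by decide +kernel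

theorem o1_716 : allRange 200480 280 (fun u => chkO1 tab orb u) = true := by decide +kernel

theorem o1_717 : allRange 200760 280 (fun u => chkO1 tab orb u) = true := by decide +kernel

theorem o1_718 : allRange 201040 280 (fun u => chkO1 tab orb u) = true := by decide +kernel

theorem o1_719 : allRange 201320 280 (fun u => chkO1 tab orb u) = true := by decide +kernel


end Cfsg.Agent.Helper9.TCData.X1690B
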