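import Cfsg.Agent.Lib.Helper9.TCData.X1690B.Main

set_option autoImplicit false
set_option maxRecDepth 1000000

namespace Cfsg.Agent.Helper9.TCData.X1690B
open Cfsg.Agent.Helper9.TC2 Cfsg.Agent.Helper9.TCData.X1690

theorem o1_736 : allRange 206080 280 (fun u => chkO1 tab orb u) = true := by decide +kernel

theorem o1_737 : allRange 206360 280 (fun u => chkO1 tab orb u) = true := by decide +kernel

theorem o1_738 : allRange 206640 280 (fun u => chkO1 tab orb u) = true := by decide +kernel

theorem o1_739 : allRange 206920 280 (fun u => chkO1 tab orb u) = true := by decide +kernel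

theorem o1_740 : allRange 207200 280 (fun u => chkO1 tab orb u) = true := by decide +kernel

theorem o1_741 : allRange 207480 280 (fun u => chkO1 tab orb u) = true := by decide +kernel

theorem o1_742 : allRange 207760 280 (fun u => chkO1 tab orb u) = true := by decide +kernel

theorem o1_743 : allRange 208040 280 (fun u => chkO1 tab orb u) = true := by decide +kernel


end Cfsg.Agent.Helper9.TCData.X1690B
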