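import Cfsg.Agent.Lib.Helper9.TCData.X1690B.Main

set_option autoImplicit false
set_option maxRecDepth 1000000

namespace Cfsg.Agent.Helper9.TCData.X1690B
open Cfsg.Agent.Helper9.TC2 Cfsg.Agent.Helper9.TCData.X1690

theorem o1_752 : allRange 210560 280 (fun u => chkO1 tab orb u) = true := by decide +kernel

theorem o1_753 : allRange 210840 280 (fun u => chkO1 tab orb u) = true := by decide +kernel

theorem o1_754 : allRange 211120 280 (fun u => chkO1 tab orb u) = true := by decide +kernel

theorem o1_755 : allRange 211400 280 (fun u => chkO1 tab orb u) = true := by decide +kernel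

theorem o1_756 : allRange 211680 280 (fun u => chkO1 tab orb u) = true := by decide +kernel

theorem o1_757 : allRange 211960 280 (fun u => chkO1 tab orb u) = true := by decide +kernel

theorem o1_758 : allRange 212240 280 (fun u => chkO1 tab orb u) = true := by decide +kernel

theorem o1_759 : allRange 212520 280 (fun u => chkO1 tab orb u) = true := by decide +kernel


end Cfsg.Agent.Helper9.TCData.X1690B
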