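import Cfsg.Agent.Lib.Helper9.TCData.X1690B.Main

set_option autoImplicit false
set_option maxRecDepth 1000000

namespace Cfsg.Agent.Helper9.TCData.X1690B
open Cfsg.Agent.Helper9.TC2 Cfsg.Agent.Helper9.TCData.X1690

theorem o1_768 : allRange 215040 280 (fun u => chkO1 tab orb u) = true := by decide +kernel

theorem o1_769 : allRange 215320 280 (fun u => chkO1 tab orb u) = true := by decide +kernel

theorem o1_770 : allRange 215600 280 (fun u => chkO1 tab orb u) = true := by decide +kernel

theorem o1_771 : allRange 215880 280 (fun u => chkO1 tab orb u) = true := by decide +kernel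

theorem o1_772 : allRange 216160 280 (fun u => chkO1 tab orb u) = true := by decide +kernel

theorem o1_773 : allRange 216440 280 (fun u => chkO1 tab orb u) = true := by decide +kernel

theorem o1_774 : allRange 216720 280 (fun u => chkO1 tab orb u) = true := by decide +kernel

theorem o1_775 : allRange 217000 280 (fun u => chkO1 tab orb u) = true := by decide +kernel


end Cfsg.Agent.Helper9.TCData.X1690B
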