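import Cfsg.Agent.Lib.Helper9.TCData.X1690B.Main

set_option autoImplicit false
set_option maxRecDepth 1000000

namespace Cfsg.Agent.Helper9.TCData.X1690B
open Cfsg.Agent.Helper9.TC2 Cfsg.Agent.Helper9.TCData.X1690

theorem o1_776 : allRange 217280 280 (fun u => chkO1 tab orb u) = true := by decide +kernel

theorem o1_777 : allRange 217560 280 (fun u => chkO1 tab orb u) = true := by decide +kernel

theorem o1_778 : allRange 217840 280 (fun u => chkO1 tab orb u) = true := by decide +kernel

theorem o1_779 : allRange 218120 280 (fun u => chkO1 tab orb u) = true := by decide +kernel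

theorem o1_780 : allRange 218400 280 (fun u => chkO1 tab orb u) = true := by decide +kernel

theorem o1_781 : allRange 218680 280 (fun u => chkO1 tab orb u) = true := by decide +kernel

theorem o1_782 : allRange 218960 280 (fun u => chkO1 tab orb u) = true := by decide +kernel

theorem o1_783 : allRange 219240 280 (fun u => chkO1 tab orb u) = true := by decide +kernel


end Cfsg.Agent.Helper9.TCData.X1690B
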