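import Cfsg.Agent.Lib.Helper9.TCData.X1690B.S0
import Cfsg.Agent.Lib.Helper9.TCData.X1690B.S1
import Cfsg.Agent.Lib.Helper9.TCData.X1690B.S2
import Cfsg.Agent.Lib.Helper9.TCData.X1690B.S3
import Cfsg.Agent.Lib.Helper9.TCData.X1690B.S4
import Cfsg.Agent.Lib.Helper9.TCData.X1690B.S5
import Cfsg.Agent.Lib.Helper9.TCData.X1690B.S6
import Cfsg.Agent.Lib.Helper9.TCData.X1690B.S7
import Cfsg.Agent.Lib.Helper9.TCData.X1690B.S8
import Cfsg.Agent.Lib.Helper9.TCData.X1690B.S9
import Cfsg.Agent.Lib.Helper9.TCData.X1690B.S10
import Cfsg.Agent.Lib.Helper9.TCData.X1690B.S11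
import Cfsg.Agent.Lib.Helper9.TCData.X1690B.S12
import Cfsg.Agent.Lib.Helper9.TCData.X1690B.S13
import Cfsg.Agent.Lib.Helper9.TCData.X1690B.S14
import Cfsg.Agent.Lib.Helper9.TCData.X1690B.S15
import Cfsg.Agent.Lib.Helper9.TCData.X1690B.S16
import Cfsg.Agent.Lib.Helper9.TCData.X1690B.S17
import Cfsg.Agent.Lib.Helper9.TCData.X1690B.S18
import Cfsg.Agent.Lib.Helper9.TCData.X1690B.S19
import Cfsg.Agent.Lib.Helper9.TCData.X1690B.S20
import Cfsg.Agent.Lib.Helper9.TCData.X1690B.S21
import Cfsg.Agent.Lib.Helper9.TCData.X1690B.S22
import Cfsg.Agent.Lib.Helper9.TCData.X1690B.S23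
import Cfsg.Agent.Lib.Helper9.TCData.X1690B.S24
import Cfsg.Agent.Lib.Helper9.TCData.X1690B.S25
import Cfsg.Agent.Lib.Helper9.TCData.X1690B.S26
import Cfsg.Agent.Lib.Helper9.TCData.X1690B.S27
import Cfsg.Agent.Lib.Helper9.TCData.X1690B.S28
import Cfsg.Agent.Lib.Helper9.TCData.X1690B.S29
import Cfsg.Agent.Lib.Helper9.TCData.X1690B.S30
import Cfsg.Agent.Lib.Helper9.TCData.X1690B.S31
import Cfsg.Agent.Lib.Helper9.TCData.X1690B.S32
import Cfsg.Agent.Lib.Helper9.TCData.X1690B.S33
import Cfsg.Agent.Lib.Helper9.TCData.X1690B.S34
import Cfsg.Agent.Lib.Helper9.TCData.X1690B.S35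
import Cfsg.Agent.Lib.Helper9.TCData.X1690B.S36
import Cfsg.Agent.Lib.Helper9.TCData.X1690B.S37
import Cfsg.Agent.Lib.Helper9.TCData.X1690B.S38
import Cfsg.Agent.Lib.Helper9.TCData.X1690B.S39
import Cfsg.Agent.Lib.Helper9.TCData.X1690B.S40
import Cfsg.Agent.Lib.Helper9.TCData.X1690B.S41
import Cfsg.Agent.Lib.Helper9.TCData.X1690B.S42
import Cfsg.Agent.Lib.Helper9.TCData.X1690B.S43
import Cfsg.Agent.Lib.Helper9.TCData.X1690B.S44
import Cfsg.Agent.Lib.Helper9.TCData.X1690B.S45
import Cfsg.Agent.Lib.Helper9.TCData.X1690B.S46
import Cfsg.Agent.Lib.Helper9.TCData.X1690B.S47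
import Cfsg.Agent.Lib.Helper9.TCData.X1690B.S48
import Cfsg.Agent.Lib.Helper9.TCData.X1690B.S49
import Cfsg.Agent.Lib.Helper9.TCData.X1690B.S50
import Cfsg.Agent.Lib.Helper9.TCData.X1690B.S51
import Cfsg.Agent.Lib.Helper9.TCData.X1690B.S52
import Cfsg.Agent.Lib.Helper9.TCData.X1690B.S53
import Cfsg.Agent.Lib.Helper9.TCData.X1690B.S54
import Cfsg.Agent.Lib.Helper9.TCData.X1690B.S55
import Cfsg.Agent.Lib.Helper9.TCData.X1690B.S56
import Cfsg.Agent.Lib.Helper9.TCData.X1690B.S57
import Cfsg.Agent.Lib.Helper9.TCData.X1690B.S58
import Cfsg.Agent.Lib.Helper9.TCData.X1690B.S59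
import Cfsg.Agent.Lib.Helper9.TCData.X1690B.S60
import Cfsg.Agent.Lib.Helper9.TCData.X1690B.S61
import Cfsg.Agent.Lib.Helper9.TCData.X1690B.S62
import Cfsg.Agent.Lib.Helper9.TCData.X1690B.S63
import Cfsg.Agent.Lib.Helper9.TCData.X1690B.S64
import Cfsg.Agent.Lib.Helper9.TCData.X1690B.S65
import Cfsg.Agent.Lib.Helper9.TCData.X1690B.S66
import Cfsg.Agent.Lib.Helper9.TCData.X1690B.S67
import Cfsg.Agent.Lib.Helper9.TCData.X1690B.S68
import Cfsg.Agent.Lib.Helper9.TCData.X1690B.S69
import Cfsg.Agent.Lib.Helper9.TCData.X1690B.S70
import Cfsg.Agent.Lib.Helper9.TCData.X1690B.S71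
import Cfsg.Agent.Lib.Helper9.TCData.X1690B.S72
import Cfsg.Agent.Lib.Helper9.TCData.X1690B.S73
import Cfsg.Agent.Lib.Helper9.TCData.X1690B.S74
import Cfsg.Agent.Lib.Helper9.TCData.X1690B.S75
import Cfsg.Agent.Lib.Helper9.TCData.X1690B.S76
import Cfsg.Agent.Lib.Helper9.TCData.X1690B.S77
import Cfsg.Agent.Lib.Helper9.TCData.X1690B.S78
import Cfsg.Agent.Lib.Helper9.TCData.X1690B.S79
import Cfsg.Agent.Lib.Helper9.TCData.X1690B.S80
import Cfsg.Agent.Lib.Helper9.TCData.X1690B.S81
import Cfsg.Agent.Lib.Helper9.TCData.X1690B.S82
import Cfsg.Agent.Lib.Helper9.TCData.X1690B.S83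
import Cfsg.Agent.Lib.Helper9.TCData.X1690B.S84
import Cfsg.Agent.Lib.Helper9.TCData.X1690B.S85
import Cfsg.Agent.Lib.Helper9.TCData.X1690B.S86
import Cfsg.Agent.Lib.Helper9.TCData.X1690B.S87
import Cfsg.Agent.Lib.Helper9.TCData.X1690B.S88
import Cfsg.Agent.Lib.Helper9.TCData.X1690B.S89
import Cfsg.Agent.Lib.Helper9.TCData.X1690B.S90
import Cfsg.Agent.Lib.Helper9.TCData.X1690B.S91
import Cfsg.Agent.Lib.Helper9.TCData.X1690B.S92
import Cfsg.Agent.Lib.Helper9.TCData.X1690B.S93
import Cfsg.Agent.Lib.Helper9.TCData.X1690B.S94
import Cfsg.Agent.Lib.Helper9.TCData.X1690B.S95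
import Cfsg.Agent.Lib.Helper9.TCData.X1690B.S96
import Cfsg.Agent.Lib.Helper9.TCData.X1690B.S97
import Cfsg.Agent.Lib.Helper9.TCData.X1690B.S98
import Cfsg.Agent.Lib.Helper9.TCData.X1690B.S99
import Cfsg.Agent.Lib.Helper9.TCData.X1690B.S100
import Cfsg.Agent.Lib.Helper9.TCData.X1690B.S101
import Cfsg.Agent.Lib.Helper9.TCData.X1690B.S102
import Cfsg.Agent.Lib.Helper9.TCData.X1690B.S103
import Cfsg.Agent.Lib.Helper9.TCData.X1690B.S104
import Cfsg.Agent.Lib.Helper9.TCData.X1690B.S105
import Cfsg.Agent.Lib.Helper9.TCData.X1690B.S106
import Cfsg.Agent.Lib.Helper9.TCData.X1690B.S107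
import Cfsg.Agent.Lib.Helper9.TCData.X1690B.S108
import Cfsg.Agent.Lib.Helper9.TCData.X1690B.S109
import Cfsg.Agent.Lib.Helper9.TCData.X1690B.S110
import Cfsg.Agent.Lib.Helper9.TCData.X1690B.S111
import Cfsg.Agent.Lib.Helper9.TCData.X1690B.S112
import Cfsg.Agent.Lib.Helper9.TCData.X1690B.S113
import Cfsg.Agent.Lib.Helper9.TCData.X1690B.S114
import Cfsg.Agent.Lib.Helper9.TCData.X1690B.S115
import Cfsg.Agent.Lib.Helper9.TCData.X1690B.S116
import Cfsg.Agent.Lib.Helper9.TCData.X1690B.S117
import Cfsg.Agent.Lib.Helper9.TCData.X1690B.S118
import Cfsg.Agent.Lib.Helper9.TCData.X1690B.S119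
import Cfsg.Agent.Lib.Helper9.TCData.X1690B.S120
import Cfsg.Agent.Lib.Helper9.TCData.X1690B.S121
import Cfsg.Agent.Lib.Helper9.TCData.X1690B.S122
import Cfsg.Agent.Lib.Helper9.TCData.X1690B.S123
import Cfsg.Agent.Lib.Helper9.TCData.X1690B.S124
import Cfsg.Agent.Lib.Helper9.TCData.X1690B.S125
import Cfsg.Agent.Lib.Helper9.TCData.X1690B.S126
import Cfsg.Agent.Lib.Helper9.TCData.X1690B.S127
import Cfsg.Agent.Lib.Helper9.TCData.X1690B.S128
import Cfsg.Agent.Lib.Helper9.TCData.X1690B.S129
import Cfsg.Agent.Lib.Helper9.TCData.X1690B.S130
import Cfsg.Agent.Lib.Helper9.TCData.X1690B.S131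
import Cfsg.Agent.Lib.Helper9.TCData.X1690B.S132
import Cfsg.Agent.Lib.Helper9.TCData.X1690B.S133
import Cfsg.Agent.Lib.Helper9.TCData.X1690B.S134
import Cfsg.Agent.Lib.Helper9.TCData.X1690B.S135
import Cfsg.Agent.Lib.Helper9.TCData.X1690B.S136
import Cfsg.Agent.Lib.Helper9.TCData.X1690B.S137
import Cfsg.Agent.Lib.Helper9.TCData.X1690B.S138
import Cfsg.Agent.Lib.Helper9.TCData.X1690B.S139
import Cfsg.Agent.Lib.Helper9.TCData.X1690B.S140
import Cfsg.Agent.Lib.Helper9.TCData.X1690B.S141
import Cfsg.Agent.Lib.Helper9.TCData.X1690B.S142
import Cfsg.Agent.Lib.Helper9.TCData.X1690B.S143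
import Cfsg.Agent.Lib.Helper9.TCData.X1690B.S144
import Cfsg.Agent.Lib.Helper9.TCData.X1690B.S145
import Cfsg.Agent.Lib.Helper9.TCData.X1690B.S146
import Cfsg.Agent.Lib.Helper9.TCData.X1690B.S147
import Cfsg.Agent.Lib.Helper9.TCData.X1690B.S148
import Cfsg.Agent.Lib.Helper9.TCData.X1690B.S149
import Cfsg.Agent.Lib.Helper9.TCData.X1690B.S150
import Cfsg.Agent.Lib.Helper9.TCData.X1690B.S151
import Cfsg.Agent.Lib.Helper9.TCData.X1690B.S152
import Cfsg.Agent.Lib.Helper9.TCData.X1690B.S153
import Cfsg.Agent.Lib.Helper9.TCData.X1690B.S154
import Cfsg.Agent.Lib.Helper9.TCData.X1690B.S155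
import Cfsg.Agent.Lib.Helper9.TCData.X1690B.S156
import Cfsg.Agent.Lib.Helper9.TCData.X1690B.S157
import Cfsg.Agent.Lib.Helper9.TCData.X1690B.S158
import Cfsg.Agent.Lib.Helper9.TCData.X1690B.S159
import Cfsg.Agent.Lib.Helper9.TCData.X1690B.S160
import Cfsg.Agent.Lib.Helper9.TCData.X1690B.S161
import Cfsg.Agent.Lib.Helper9.TCData.X1690B.S162
import Cfsg.Agent.Lib.Helper9.TCData.X1690B.S163
import Cfsg.Agent.Lib.Helper9.TCData.X1690B.S164
import Cfsg.Agent.Lib.Helper9.TCData.X1690B.S165
import Cfsg.Agent.Lib.Helper9.TCData.X1690B.S166
import Cfsg.Agent.Lib.Helper9.TCData.X1690B.S167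
import Cfsg.Agent.Lib.Helper9.TCData.X1690B.S168
import Cfsg.Agent.Lib.Helper9.TCData.X1690B.S169
import Cfsg.Agent.Lib.Helper9.TCData.X1690B.S170
import Cfsg.Agent.Lib.Helper9.TCData.X1690B.S171
import Cfsg.Agent.Lib.Helper9.TCData.X1690B.S172
import Cfsg.Agent.Lib.Helper9.TCData.X1690B.S173
import Cfsg.Agent.Lib.Helper9.TCData.X1690B.S174
import Cfsg.Agent.Lib.Helper9.TCData.X1690B.S175
import Cfsg.Agent.Lib.Helper9.TCData.X1690B.S176
import Cfsg.Agent.Lib.Helper9.TCData.X1690B.S177
import Cfsg.Agent.Lib.Helper9.TCData.X1690B.S178
import Cfsg.Agent.Lib.Helper9.TCData.X1690B.S179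
import Cfsg.Agent.Lib.Helper9.TCData.X1690B.S180
import Cfsg.Agent.Lib.Helper9.TCData.X1690B.S181
import Cfsg.Agent.Lib.Helper9.TCData.X1690B.S182
import Cfsg.Agent.Lib.Helper9.TCData.X1690B.S183
import Cfsg.Agent.Lib.Helper9.TCData.X1690B.S184
import Cfsg.Agent.Lib.Helper9.TCData.X1690B.S185
import Cfsg.Agent.Lib.Helper9.TCData.X1690B.S186
import Cfsg.Agent.Lib.Helper9.TCData.X1690B.S187
import Cfsg.Agent.Lib.Helper9.TCData.X1690B.S188
import Cfsg.Agent.Lib.Helper9.TCData.X1690B.S189
import Cfsg.Agent.Lib.Helper9.TCData.X1690B.S190
import Cfsg.Agent.Lib.Helper9.TCData.X1690B.S191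
import Cfsg.Agent.Lib.Helper9.TCData.X1690B.S192
import Cfsg.Agent.Lib.Helper9.TCData.X1690B.S193
import Cfsg.Agent.Lib.Helper9.TCData.X1690B.S194
import Cfsg.Agent.Lib.Helper9.TCData.X1690B.S195
import Cfsg.Agent.Lib.Helper9.TCData.X1690B.S196
import Cfsg.Agent.Lib.Helper9.TCData.X1690B.S197
import Cfsg.Agent.Lib.Helper9.TCData.X1690B.S198
import Cfsg.Agent.Lib.Helper9.TCData.X1690B.S199
import Cfsg.Agent.Lib.Helper9.TCData.X1690B.S200
import Cfsg.Agent.Lib.Helper9.TCData.X1690B.S201
import Cfsg.Agent.Lib.Helper9.TCData.X1690B.S202
import Cfsg.Agent.Lib.Helper9.TCData.X1690B.S203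
import Cfsg.Agent.Lib.Helper9.TCData.X1690B.S204
import Cfsg.Agent.Lib.Helper9.TCData.X1690B.S205
import Cfsg.Agent.Lib.Helper9.TCData.X1690B.S206
import Cfsg.Agent.Lib.Helper9.TCData.X1690B.S207
import Cfsg.Agent.Lib.Helper9.TCData.X1690B.S208
import Cfsg.Agent.Lib.Helper9.TCData.X1690B.S209
import Cfsg.Agent.Lib.Helper9.TCData.X1690B.S210
import Cfsg.Agent.Lib.Helper9.TCData.X1690B.S211
import Cfsg.Agent.Lib.Helper9.TCData.X1690B.S212
import Cfsg.Agent.Lib.Helper9.TCData.X1690B.S213
import Cfsg.Agent.Lib.Helper9.TCData.X1690B.S214
import Cfsg.Agent.Lib.Helper9.TCData.X1690B.S215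
import Cfsg.Agent.Lib.Helper9.TCData.X1690B.S216
import Cfsg.Agent.Lib.Helper9.TCData.X1690B.S217
import Cfsg.Agent.Lib.Helper9.TCData.X1690B.S218
import Cfsg.Agent.Lib.Helper9.TCData.X1690B.S219
import Cfsg.Agent.Lib.Helper9.TCData.X1690B.S220
import Cfsg.Agent.Lib.Helper9.TCData.X1690B.S221
import Cfsg.Agent.Lib.Helper9.TCData.X1690B.S222
import Cfsg.Agent.Lib.Helper9.TCData.X1690B.S223
import Cfsg.Agent.Lib.Helper9.TCData.X1690B.S224
import Cfsg.Agent.Lib.Helper9.TCData.X1690B.S225
import Cfsg.Agent.Lib.Helper9.TCData.X1690B.S226
import Cfsg.Agent.Lib.Helper9.TCData.X1690B.S227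
import Cfsg.Agent.Lib.Helper9.TCData.X1690B.S228
import Cfsg.Agent.Lib.Helper9.TCData.X1690B.S229
import Cfsg.Agent.Lib.Helper9.TCData.X1690B.S230
import Cfsg.Agent.Lib.Helper9.TCData.X1690B.S231
import Cfsg.Agent.Lib.Helper9.TCData.X1690B.S232
import Cfsg.Agent.Lib.Helper9.TCData.X1690B.S233
import Cfsg.Agent.Lib.Helper9.TCData.X1690B.S234
import Cfsg.Agent.Lib.Helper9.TCData.X1690B.S235
import Cfsg.Agent.Lib.Helper9.TCData.X1690B.S236
import Cfsg.Agent.Lib.Helper9.TCData.X1690B.S237
import Cfsg.Agent.Lib.Helper9.TCData.X1690B.S238
import Cfsg.Agent.Lib.Helper9.TCData.X1690B.S239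
import Cfsg.Agent.Lib.Helper9.TCData.X1690B.S240
import Cfsg.Agent.Lib.Helper9.TCData.X1690B.S241
import Cfsg.Agent.Lib.Helper9.TCData.X1690B.S242
import Cfsg.Agent.Lib.Helper9.TCData.X1690B.S243
import Cfsg.Agent.Lib.Helper9.TCData.X1690B.S244
import Cfsg.Agent.Lib.Helper9.TCData.X1690B.S245
import Cfsg.Agent.Lib.Helper9.TCData.X1690B.S246
import Cfsg.Agent.Lib.Helper9.TCData.X1690B.S247
import Cfsg.Agent.Lib.Helper9.TCData.X1690B.S248
import Cfsg.Agent.Lib.Helper9.TCData.X1690B.S249
import Cfsg.Agent.Lib.Helper9.TCData.X1690B.S250
import Cfsg.Agent.Lib.Helper9.TCData.X1690B.S251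
import Cfsg.Agent.Lib.Helper9.TCData.X1690B.S252
import Cfsg.Agent.Lib.Helper9.TCData.X1690B.S253
import Cfsg.Agent.Lib.Helper9.TCData.X1690B.S254
import Cfsg.Agent.Lib.Helper9.TCData.X1690B.S255
import Cfsg.Agent.Lib.Helper9.TCData.X1690B.S256
import Cfsg.Agent.Lib.Helper9.TCData.X1690B.S257
import Cfsg.Agent.Lib.Helper9.TCData.X1690B.S258
import Cfsg.Agent.Lib.Helper9.TCData.X1690B.S259
import Cfsg.Agent.Lib.Helper9.TCData.X1690B.S260
import Cfsg.Agent.Lib.Helper9.TCData.X1690B.S261
import Cfsg.Agent.Lib.Helper9.TCData.X1690B.S262
import Cfsg.Agent.Lib.Helper9.TCData.X1690B.S263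
import Cfsg.Agent.Lib.Helper9.TCData.X1690B.S264
import Cfsg.Agent.Lib.Helper9.TCData.X1690B.S265
import Cfsg.Agent.Lib.Helper9.TCData.X1690B.S266
import Cfsg.Agent.Lib.Helper9.TCData.X1690B.S267
import Cfsg.Agent.Lib.Helper9.TCData.X1690B.S268
import Cfsg.Agent.Lib.Helper9.TCData.X1690B.S269
import Cfsg.Agent.Lib.Helper9.TCData.X1690B.S270
import Cfsg.Agent.Lib.Helper9.TCData.X1690B.S271
import Cfsg.Agent.Lib.Helper9.TCData.X1690B.S272
import Cfsg.Agent.Lib.Helper9.TCData.X1690B.S273
import Cfsg.Agent.Lib.Helper9.TCData.X1690B.S274
import Cfsg.Agent.Lib.Helper9.TCData.X1690B.S275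
import Cfsg.Agent.Lib.Helper9.TCData.X1690B.S276
import Cfsg.Agent.Lib.Helper9.TCData.X1690B.S277
import Cfsg.Agent.Lib.Helper9.TCData.X1690B.S278
import Cfsg.Agent.Lib.Helper9.TCData.X1690B.S279
import Cfsg.Agent.Lib.Helper9.TCData.X1690B.S280
import Cfsg.Agent.Lib.Helper9.TCData.X1690B.S281
import Cfsg.Agent.Lib.Helper9.TCData.X1690B.S282
import Cfsg.Agent.Lib.Helper9.TCData.X1690B.S283
import Cfsg.Agent.Lib.Helper9.TCData.X1690B.S284
import Cfsg.Agent.Lib.Helper9.TCData.X1690B.S285
import Cfsg.Agent.Lib.Helper9.TCData.X1690B.S286
import Cfsg.Agent.Lib.Helper9.TCData.X1690B.S287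
import Cfsg.Agent.Lib.Helper9.TCData.X1690B.S288
import Cfsg.Agent.Lib.Helper9.TCData.X1690B.S289
import Cfsg.Agent.Lib.Helper9.TCData.X1690B.S290
import Cfsg.Agent.Lib.Helper9.TCData.X1690B.S291
import Cfsg.Agent.Lib.Helper9.TCData.X1690B.S292
import Cfsg.Agent.Lib.Helper9.TCData.X1690B.S293
import Cfsg.Agent.Lib.Helper9.TCData.X1690B.S294
import Cfsg.Agent.Lib.Helper9.TCData.X1690B.S295
import Cfsg.Agent.Lib.Helper9.TCData.X1690B.S296
import Cfsg.Agent.Lib.Helper9.TCData.X1690B.S297
import Cfsg.Agent.Lib.Helper9.TCData.X1690B.S298

set_option autoImplicit false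
set_option maxRecDepth 1000000

namespace Cfsg.Agent.Helper9.TCData.X1690B
open Cfsg.Agent.Helper9.TC2 Cfsg.Agent.Helper9.TCData.X1690


theorem hO1 : ∀ u < 306936, chkO1 tab orb u = true := by
  have h0 : ∀ u < 0, (fun u => chkO1 tab orb u) u = true := range_zero
  have h1 : ∀ u < 280, (fun u => chkO1 tab orb u) u = true := ext_range (a := 0) (len := 280) h0 o1_0
  have h2 : ∀ u < 560, (fun u => chkO1 tab orb u) u = true := ext_range (a := 280) (len := 280) h1 o1_1
  have h3 : ∀ u < 840, (fun u => chkO1 tab orb u) u = true := ext_range (a := 560) (len := 280) h2 o1_2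
  have h4 : ∀ u < 1120, (fun u => chkO1 tab orb u) u = true := ext_range (a := 840) (len := 280) h3 o1_3
  have h5 : ∀ u < 1400, (fun u => chkO1 tab orb u) u = true := ext_range (a := 1120) (len := 280) h4 o1_4
  have h6 : ∀ u < 1680, (fun u => chkO1 tab orb u) u = true := ext_range (a := 1400) (len := 280) h5 o1_5
  have h7 : ∀ u < 1960, (fun u => chkO1 tab orb u) u = true := ext_range (a := 1680) (len := 280) h6 o1_6
  have h8 : ∀ u < 2240, (fun u => chkO1 tab orb u) u = true := ext_range (a := 1960) (len := 280) h7 o1_7
  have h9 : ∀ u < 2520, (fun u => chkO1 tab orb u) u = true := ext_range (a := 2240) (len := 280) h8 o1_8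
  have h10 : ∀ u < 2800, (fun u => chkO1 tab orb u) u = true := ext_range (a := 2520) (len := 280) h9 o1_9
  have h11 : ∀ u < 3080, (fun u => chkO1 tab orb u) u = true := ext_range (a := 2800) (len := 280) h10 o1_10
  have h12 : ∀ u < 3360, (fun u => chkO1 tab orb u) u = true := ext_range (a := 3080) (len := 280) h11 o1_11
  have h13 : ∀ u < 3640, (fun u => chkO1 tab orb u) u = true := ext_range (a := 3360) (len := 280) h12 o1_12
  have h14 : ∀ u < 3920, (fun u => chkO1 tab orb u) u = true := ext_range (a := 3640) (len := 280) h13 o1_13
  have h15 : ∀ u < 4200, (fun u => chkO1 tab orb u) u = true := ext_range (a := 3920) (len := 280) h14 o1_14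
  have h16 : ∀ u < 4480, (fun u => chkO1 tab orb u) u = true := ext_range (a := 4200) (len := 280) h15 o1_15
  have h17 : ∀ u < 4760, (fun u => chkO1 tab orb u) u = true := ext_range (a := 4480) (len := 280) h16 o1_16
  have h18 : ∀ u < 5040, (fun u => chkO1 tab orb u) u = true := ext_range (a := 4760) (len := 280) h17 o1_17
  have h19 : ∀ u < 5320, (fun u => chkO1 tab orb u) u = true := ext_range (a := 5040) (len := 280) h18 o1_18
  have h20 : ∀ u < 5600, (fun u => chkO1 tab orb u) u = true := ext_range (a := 5320) (len := 280) h19 o1_19
  have h21 : ∀ u < 5880, (fun u => chkO1 tab orb u) u = true := ext_range (a := 5600) (len := 280) h20 o1_20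
  have h22 : ∀ u < 6160, (fun u => chkO1 tab orb u) u = true := ext_range (a := 5880) (len := 280) h21 o1_21
  have h23 : ∀ u < 6440, (fun u => chkO1 tab orb u) u = true := ext_range (a := 6160) (len := 280) h22 o1_22
  have h24 : ∀ u < 6720, (fun u => chkO1 tab orb u) u = true := ext_range (a := 6440) (len := 280) h23 o1_23
  have h25 : ∀ u < 7000, (fun u => chkO1 tab orb u) u = true := ext_range (a := 6720) (len := 280) h24 o1_24
  have h26 : ∀ u < 7280, (fun u => chkO1 tab orb u) u = true := ext_range (a := 7000) (len := 280) h25 o1_25
  have h27 : ∀ u < 7560, (fun u => chkO1 tab orb u) u = true := ext_range (a := 7280) (len := 280) h26 o1_26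
  have h28 : ∀ u < 7840, (fun u => chkO1 tab orb u) u = true := ext_range (a := 7560) (len := 280) h27 o1_27
  have h29 : ∀ u < 8120, (fun u => chkO1 tab orb u) u = true := ext_range (a := 7840) (len := 280) h28 o1_28
  have h30 : ∀ u < 8400, (fun u => chkO1 tab orb u) u = true := ext_range (a := 8120) (len := 280) h29 o1_29
  have h31 : ∀ u < 8680, (fun u => chkO1 tab orb u) u = true := ext_range (a := 8400) (len := 280) h30 o1_30
  have h32 : ∀ u < 8960, (fun u => chkO1 tab orb u) u = true := ext_range (a := 8680) (len := 280) h31 o1_31
  have h33 : ∀ u < 9240, (fun u => chkO1 tab orb u) u = true := ext_range (a := 8960) (len := 280) h32 o1_32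
  have h34 : ∀ u < 9520, (fun u => chkO1 tab orb u) u = true := ext_range (a := 9240) (len := 280) h33 o1_33
  have h35 : ∀ u < 9800, (fun u => chkO1 tab orb u) u = true := ext_range (a := 9520) (len := 280) h34 o1_34
  have h36 : ∀ u < 10080, (fun u => chkO1 tab orb u) u = true := ext_range (a := 9800) (len := 280) h35 o1_35
  have h37 : ∀ u < 10360, (fun u => chkO1 tab orb u) u = true := ext_range (a := 10080) (len := 280) h36 o1_36
  have h38 : ∀ u < 10640, (fun u => chkO1 tab orb u) u = true := ext_range (a := 10360) (len := 280) h37 o1_37
  have h39 : ∀ u < 10920, (fun u => chkO1 tab orb u) u = true := ext_range (a := 10640) (len := 280) h38 o1_38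
  have h40 : ∀ u < 11200, (fun u => chkO1 tab orb u) u = true := ext_range (a := 10920) (len := 280) h39 o1_39
  have h41 : ∀ u < 11480, (fun u => chkO1 tab orb u) u = true := ext_range (a := 11200) (len := 280) h40 o1_40
  have h42 : ∀ u < 11760, (fun u => chkO1 tab orb u) u = true := ext_range (a := 11480) (len := 280) h41 o1_41
  have h43 : ∀ u < 12040, (fun u => chkO1 tab orb u) u = true := ext_range (a := 11760) (len := 280) h42 o1_42
  have h44 : ∀ u < 12320, (fun u => chkO1 tab orb u) u = true := ext_range (a := 12040) (len := 280) h43 o1_43
  have h45 : ∀ u < 12600, (fun u => chkO1 tab orb u) u = true := ext_range (a := 12320) (len := 280) h44 o1_44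
  have h46 : ∀ u < 12880, (fun u => chkO1 tab orb u) u = true := ext_range (a := 12600) (len := 280) h45 o1_45
  have h47 : ∀ u < 13160, (fun u => chkO1 tab orb u) u = true := ext_range (a := 12880) (len := 280) h46 o1_46
  have h48 : ∀ u < 13440, (fun u => chkO1 tab orb u) u = true := ext_range (a := 13160) (len := 280) h47 o1_47
  have h49 : ∀ u < 13720, (fun u => chkO1 tab orb u) u = true := ext_range (a := 13440) (len := 280) h48 o1_48
  have h50 : ∀ u < 14000, (fun u => chkO1 tab orb u) u = true := ext_range (a := 13720) (len := 280) h49 o1_49
  have h51 : ∀ u < 14280, (fun u => chkO1 tab orb u) u = true := ext_range (a := 14000) (len := 280) h50 o1_50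
  have h52 : ∀ u < 14560, (fun u => chkO1 tab orb u) u = true := ext_range (a := 14280) (len := 280) h51 o1_51
  have h53 : ∀ u < 14840, (fun u => chkO1 tab orb u) u = true := ext_range (a := 14560) (len := 280) h52 o1_52
  have h54 : ∀ u < 15120, (fun u => chkO1 tab orb u) u = true := ext_range (a := 14840) (len := 280) h53 o1_53
  have h55 : ∀ u < 15400, (fun u => chkO1 tab orb u) u = true := ext_range (a := 15120) (len := 280) h54 o1_54
  have h56 : ∀ u < 15680, (fun u => chkO1 tab orb u) u = true := ext_range (a := 15400) (len := 280) h55 o1_55
  have h57 : ∀ u < 15960, (fun u => chkO1 tab orb u) u = true := ext_range (a := 15680) (len := 280) h56 o1_56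
  have h58 : ∀ u < 16240, (fun u => chkO1 tab orb u) u = true := ext_range (a := 15960) (len := 280) h57 o1_57
  have h59 : ∀ u < 16520, (fun u => chkO1 tab orb u) u = true := ext_range (a := 16240) (len := 280) h58 o1_58
  have h60 : ∀ u < 16800, (fun u => chkO1 tab orb u) u = true := ext_range (a := 16520) (len := 280) h59 o1_59
  have h61 : ∀ u < 17080, (fun u => chkO1 tab orb u) u = true := ext_range (a := 16800) (len := 280) h60 o1_60
  have h62 : ∀ u < 17360, (fun u => chkO1 tab orb u) u = true := ext_range (a := 17080) (len := 280) h61 o1_61
  have h63 : ∀ u < 17640, (fun u => chkO1 tab orb u) u = true := ext_range (a := 17360) (len := 280) h62 o1_62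
  have h64 : ∀ u < 17920, (fun u => chkO1 tab orb u) u = true := ext_range (a := 17640) (len := 280) h63 o1_63
  have h65 : ∀ u < 18200, (fun u => chkO1 tab orb u) u = true := ext_range (a := 17920) (len := 280) h64 o1_64
  have h66 : ∀ u < 18480, (fun u => chkO1 tab orb u) u = true := ext_range (a := 18200) (len := 280) h65 o1_65
  have h67 : ∀ u < 18760, (fun u => chkO1 tab orb u) u = true := ext_range (a := 18480) (len := 280) h66 o1_66
  have h68 : ∀ u < 19040, (fun u => chkO1 tab orb u) u = true := ext_range (a := 18760) (len := 280) h67 o1_67
  have h69 : ∀ u < 19320, (fun u => chkO1 tab orb u) u = true := ext_range (a := 19040) (len := 280) h68 o1_68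
  have h70 : ∀ u < 19600, (fun u => chkO1 tab orb u) u = true := ext_range (a := 19320) (len := 280) h69 o1_69
  have h71 : ∀ u < 19880, (fun u => chkO1 tab orb u) u = true := ext_range (a := 19600) (len := 280) h70 o1_70
  have h72 : ∀ u < 20160, (fun u => chkO1 tab orb u) u = true := ext_range (a := 19880) (len := 280) h71 o1_71
  have h73 : ∀ u < 20440, (fun u => chkO1 tab orb u) u = true := ext_range (a := 20160) (len := 280) h72 o1_72
  have h74 : ∀ u < 20720, (fun u => chkO1 tab orb u) u = true := ext_range (a := 20440) (len := 280) h73 o1_73
  have h75 : ∀ u < 21000, (fun u => chkO1 tab orb u) u = true := ext_range (a := 20720) (len := 280) h74 o1_74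
  have h76 : ∀ u < 21280, (fun u => chkO1 tab orb u) u = true := ext_range (a := 21000) (len := 280) h75 o1_75
  have h77 : ∀ u < 21560, (fun u => chkO1 tab orb u) u = true := ext_range (a := 21280) (len := 280) h76 o1_76
  have h78 : ∀ u < 21840, (fun u => chkO1 tab orb u) u = true := ext_range (a := 21560) (len := 280) h77 o1_77
  have h79 : ∀ u < 22120, (fun u => chkO1 tab orb u) u = true := ext_range (a := 21840) (len := 280) h78 o1_78
  have h80 : ∀ u < 22400, (fun u => chkO1 tab orb u) u = true := ext_range (a := 22120) (len := 280) h79 o1_79
  have h81 : ∀ u < 22680, (fun u => chkO1 tab orb u) u = true := ext_range (a := 22400) (len := 280) h80 o1_80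
  have h82 : ∀ u < 22960, (fun u => chkO1 tab orb u) u = true := ext_range (a := 22680) (len := 280) h81 o1_81
  have h83 : ∀ u < 23240, (fun u => chkO1 tab orb u) u = true := ext_range (a := 22960) (len := 280) h82 o1_82
  have h84 : ∀ u < 23520, (fun u => chkO1 tab orb u) u = true := ext_range (a := 23240) (len := 280) h83 o1_83
  have h85 : ∀ u < 23800, (fun u => chkO1 tab orb u) u = true := ext_range (a := 23520) (len := 280) h84 o1_84
  have h86 : ∀ u < 24080, (fun u => chkO1 tab orb u) u = true := ext_range (a := 23800) (len := 280) h85 o1_85
  have h87 : ∀ u < 24360, (fun u => chkO1 tab orb u) u = true := ext_range (a := 24080) (len := 280) h86 o1_86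
  have h88 : ∀ u < 24640, (fun u => chkO1 tab orb u) u = true := ext_range (a := 24360) (len := 280) h87 o1_87
  have h89 : ∀ u < 24920, (fun u => chkO1 tab orb u) u = true := ext_range (a := 24640) (len := 280) h88 o1_88
  have h90 : ∀ u < 25200, (fun u => chkO1 tab orb u) u = true := ext_range (a := 24920) (len := 280) h89 o1_89
  have h91 : ∀ u < 25480, (fun u => chkO1 tab orb u) u = true := ext_range (a := 25200) (len := 280) h90 o1_90
  have h92 : ∀ u < 25760, (fun u => chkO1 tab orb u) u = true := ext_range (a := 25480) (len := 280) h91 o1_91
  have h93 : ∀ u < 26040, (fun u => chkO1 tab orb u) u = true := ext_range (a := 25760) (len := 280) h92 o1_92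
  have h94 : ∀ u < 26320, (fun u => chkO1 tab orb u) u = true := ext_range (a := 26040) (len := 280) h93 o1_93
  have h95 : ∀ u < 26600, (fun u => chkO1 tab orb u) u = true := ext_range (a := 26320) (len := 280) h94 o1_94
  have h96 : ∀ u < 26880, (fun u => chkO1 tab orb u) u = true := ext_range (a := 26600) (len := 280) h95 o1_95
  have h97 : ∀ u < 27160, (fun u => chkO1 tab orb u) u = true := ext_range (a := 26880) (len := 280) h96 o1_96
  have h98 : ∀ u < 27440, (fun u => chkO1 tab orb u) u = true := ext_range (a := 27160) (len := 280) h97 o1_97
  have h99 : ∀ u < 27720, (fun u => chkO1 tab orb u) u = true := ext_range (a := 27440) (len := 280) h98 o1_98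
  have h100 : ∀ u < 28000, (fun u => chkO1 tab orb u) u = true := ext_range (a := 27720) (len := 280) h99 o1_99
  have h101 : ∀ u < 28280, (fun u => chkO1 tab orb u) u = true := ext_range (a := 28000) (len := 280) h100 o1_100
  have h102 : ∀ u < 28560, (fun u => chkO1 tab orb u) u = true := ext_range (a := 28280) (len := 280) h101 o1_101
  have h103 : ∀ u < 28840, (fun u => chkO1 tab orb u) u = true := ext_range (a := 28560) (len := 280) h102 o1_102
  have h104 : ∀ u < 29120, (fun u => chkO1 tab orb u) u = true := ext_range (a := 28840) (len := 280) h103 o1_103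
  have h105 : ∀ u < 29400, (fun u => chkO1 tab orb u) u = true := ext_range (a := 29120) (len := 280) h104 o1_104
  have h106 : ∀ u < 29680, (fun u => chkO1 tab orb u) u = true := ext_range (a := 29400) (len := 280) h105 o1_105
  have h107 : ∀ u < 29960, (fun u => chkO1 tab orb u) u = true := ext_range (a := 29680) (len := 280) h106 o1_106
  have h108 : ∀ u < 30240, (fun u => chkO1 tab orb u) u = true := ext_range (a := 29960) (len := 280) h107 o1_107
  have h109 : ∀ u < 30520, (fun u => chkO1 tab orb u) u = true := ext_range (a := 30240) (len := 280) h108 o1_108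
  have h110 : ∀ u < 30800, (fun u => chkO1 tab orb u) u = true := ext_range (a := 30520) (len := 280) h109 o1_109
  have h111 : ∀ u < 31080, (fun u => chkO1 tab orb u) u = true := ext_range (a := 30800) (len := 280) h110 o1_110
  have h112 : ∀ u < 31360, (fun u => chkO1 tab orb u) u = true := ext_range (a := 31080) (len := 280) h111 o1_111
  have h113 : ∀ u < 31640, (fun u => chkO1 tab orb u) u = true := ext_range (a := 31360) (len := 280) h112 o1_112
  have h114 : ∀ u < 31920, (fun u => chkO1 tab orb u) u = true := ext_range (a := 31640) (len := 280) h113 o1_113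
  have h115 : ∀ u < 32200, (fun u => chkO1 tab orb u) u = true := ext_range (a := 31920) (len := 280) h114 o1_114
  have h116 : ∀ u < 32480, (fun u => chkO1 tab orb u) u = true := ext_range (a := 32200) (len := 280) h115 o1_115
  have h117 : ∀ u < 32760, (fun u => chkO1 tab orb u) u = true := ext_range (a := 32480) (len := 280) h116 o1_116
  have h118 : ∀ u < 33040, (fun u => chkO1 tab orb u) u = true := ext_range (a := 32760) (len := 280) h117 o1_117
  have h119 : ∀ u < 33320, (fun u => chkO1 tab orb u) u = true := ext_range (a := 33040) (len := 280) h118 o1_118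
  have h120 : ∀ u < 33600, (fun u => chkO1 tab orb u) u = true := ext_range (a := 33320) (len := 280) h119 o1_119
  have h121 : ∀ u < 33880, (fun u => chkO1 tab orb u) u = true := ext_range (a := 33600) (len := 280) h120 o1_120
  have h122 : ∀ u < 34160, (fun u => chkO1 tab orb u) u = true := ext_range (a := 33880) (len := 280) h121 o1_121
  have h123 : ∀ u < 34440, (fun u => chkO1 tab orb u) u = true := ext_range (a := 34160) (len := 280) h122 o1_122
  have h124 : ∀ u < 34720, (fun u => chkO1 tab orb u) u = true := ext_range (a := 34440) (len := 280) h123 o1_123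
  have h125 : ∀ u < 35000, (fun u => chkO1 tab orb u) u = true := ext_range (a := 34720) (len := 280) h124 o1_124
  have h126 : ∀ u < 35280, (fun u => chkO1 tab orb u) u = true := ext_range (a := 35000) (len := 280) h125 o1_125
  have h127 : ∀ u < 35560, (fun u => chkO1 tab orb u) u = true := ext_range (a := 35280) (len := 280) h126 o1_126
  have h128 : ∀ u < 35840, (fun u => chkO1 tab orb u) u = true := ext_range (a := 35560) (len := 280) h127 o1_127
  have h129 : ∀ u < 36120, (fun u => chkO1 tab orb u) u = true := ext_range (a := 35840) (len := 280) h128 o1_128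
  have h130 : ∀ u < 36400, (fun u => chkO1 tab orb u) u = true := ext_range (a := 36120) (len := 280) h129 o1_129
  have h131 : ∀ u < 36680, (fun u => chkO1 tab orb u) u = true := ext_range (a := 36400) (len := 280) h130 o1_130
  have h132 : ∀ u < 36960, (fun u => chkO1 tab orb u) u = true := ext_range (a := 36680) (len := 280) h131 o1_131
  have h133 : ∀ u < 37240, (fun u => chkO1 tab orb u) u = true := ext_range (a := 36960) (len := 280) h132 o1_132
  have h134 : ∀ u < 37520, (fun u => chkO1 tab orb u) u = true := ext_range (a := 37240) (len := 280) h133 o1_133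
  have h135 : ∀ u < 37800, (fun u => chkO1 tab orb u) u = true := ext_range (a := 37520) (len := 280) h134 o1_134
  have h136 : ∀ u < 38080, (fun u => chkO1 tab orb u) u = true := ext_range (a := 37800) (len := 280) h135 o1_135
  have h137 : ∀ u < 38360, (fun u => chkO1 tab orb u) u = true := ext_range (a := 38080) (len := 280) h136 o1_136
  have h138 : ∀ u < 38640, (fun u => chkO1 tab orb u) u = true := ext_range (a := 38360) (len := 280) h137 o1_137
  have h139 : ∀ u < 38920, (fun u => chkO1 tab orb u) u = true := ext_range (a := 38640) (len := 280) h138 o1_138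
  have h140 : ∀ u < 39200, (fun u => chkO1 tab orb u) u = true := ext_range (a := 38920) (len := 280) h139 o1_139
  have h141 : ∀ u < 39480, (fun u => chkO1 tab orb u) u = true := ext_range (a := 39200) (len := 280) h140 o1_140
  have h142 : ∀ u < 39760, (fun u => chkO1 tab orb u) u = true := ext_range (a := 39480) (len := 280) h141 o1_141
  have h143 : ∀ u < 40040, (fun u => chkO1 tab orb u) u = true := ext_range (a := 39760) (len := 280) h142 o1_142
  have h144 : ∀ u < 40320, (fun u => chkO1 tab orb u) u = true := ext_range (a := 40040) (len := 280) h143 o1_143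
  have h145 : ∀ u < 40600, (fun u => chkO1 tab orb u) u = true := ext_range (a := 40320) (len := 280) h144 o1_144
  have h146 : ∀ u < 40880, (fun u => chkO1 tab orb u) u = true := ext_range (a := 40600) (len := 280) h145 o1_145
  have h147 : ∀ u < 41160, (fun u => chkO1 tab orb u) u = true := ext_range (a := 40880) (len := 280) h146 o1_146
  have h148 : ∀ u < 41440, (fun u => chkO1 tab orb u) u = true := ext_range (a := 41160) (len := 280) h147 o1_147
  have h149 : ∀ u < 41720, (fun u => chkO1 tab orb u) u = true := ext_range (a := 41440) (len := 280) h148 o1_148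
  have h150 : ∀ u < 42000, (fun u => chkO1 tab orb u) u = true := ext_range (a := 41720) (len := 280) h149 o1_149
  have h151 : ∀ u < 42280, (fun u => chkO1 tab orb u) u = true := ext_range (a := 42000) (len := 280) h150 o1_150
  have h152 : ∀ u < 42560, (fun u => chkO1 tab orb u) u = true := ext_range (a := 42280) (len := 280) h151 o1_151
  have h153 : ∀ u < 42840, (fun u => chkO1 tab orb u) u = true := ext_range (a := 42560) (len := 280) h152 o1_152
  have h154 : ∀ u < 43120, (fun u => chkO1 tab orb u) u = true := ext_range (a := 42840) (len := 280) h153 o1_153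
  have h155 : ∀ u < 43400, (fun u => chkO1 tab orb u) u = true := ext_range (a := 43120) (len := 280) h154 o1_154
  have h156 : ∀ u < 43680, (fun u => chkO1 tab orb u) u = true := ext_range (a := 43400) (len := 280) h155 o1_155
  have h157 : ∀ u < 43960, (fun u => chkO1 tab orb u) u = true := ext_range (a := 43680) (len := 280) h156 o1_156
  have h158 : ∀ u < 44240, (fun u => chkO1 tab orb u) u = true := ext_range (a := 43960) (len := 280) h157 o1_157
  have h159 : ∀ u < 44520, (fun u => chkO1 tab orb u) u = true := ext_range (a := 44240) (len := 280) h158 o1_158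
  have h160 : ∀ u < 44800, (fun u => chkO1 tab orb u) u = true := ext_range (a := 44520) (len := 280) h159 o1_159
  have h161 : ∀ u < 45080, (fun u => chkO1 tab orb u) u = true := ext_range (a := 44800) (len := 280) h160 o1_160
  have h162 : ∀ u < 45360, (fun u => chkO1 tab orb u) u = true := ext_range (a := 45080) (len := 280) h161 o1_161
  have h163 : ∀ u < 45640, (fun u => chkO1 tab orb u) u = true := ext_range (a := 45360) (len := 280) h162 o1_162
  have h164 : ∀ u < 45920, (fun u => chkO1 tab orb u) u = true := ext_range (a := 45640) (len := 280) h163 o1_163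
  have h165 : ∀ u < 46200, (fun u => chkO1 tab orb u) u = true := ext_range (a := 45920) (len := 280) h164 o1_164
  have h166 : ∀ u < 46480, (fun u => chkO1 tab orb u) u = true := ext_range (a := 46200) (len := 280) h165 o1_165
  have h167 : ∀ u < 46760, (fun u => chkO1 tab orb u) u = true := ext_range (a := 46480) (len := 280) h166 o1_166
  have h168 : ∀ u < 47040, (fun u => chkO1 tab orb u) u = true := ext_range (a := 46760) (len := 280) h167 o1_167
  have h169 : ∀ u < 47320, (fun u => chkO1 tab orb u) u = true := ext_range (a := 47040) (len := 280) h168 o1_168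
  have h170 : ∀ u < 47600, (fun u => chkO1 tab orb u) u = true := ext_range (a := 47320) (len := 280) h169 o1_169
  have h171 : ∀ u < 47880, (fun u => chkO1 tab orb u) u = true := ext_range (a := 47600) (len := 280) h170 o1_170
  have h172 : ∀ u < 48160, (fun u => chkO1 tab orb u) u = true := ext_range (a := 47880) (len := 280) h171 o1_171
  have h173 : ∀ u < 48440, (fun u => chkO1 tab orb u) u = true := ext_range (a := 48160) (len := 280) h172 o1_172
  have h174 : ∀ u < 48720, (fun u => chkO1 tab orb u) u = true := ext_range (a := 48440) (len := 280) h173 o1_173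
  have h175 : ∀ u < 49000, (fun u => chkO1 tab orb u) u = true := ext_range (a := 48720) (len := 280) h174 o1_174
  have h176 : ∀ u < 49280, (fun u => chkO1 tab orb u) u = true := ext_range (a := 49000) (len := 280) h175 o1_175
  have h177 : ∀ u < 49560, (fun u => chkO1 tab orb u) u = true := ext_range (a := 49280) (len := 280) h176 o1_176
  have h178 : ∀ u < 49840, (fun u => chkO1 tab orb u) u = true := ext_range (a := 49560) (len := 280) h177 o1_177
  have h179 : ∀ u < 50120, (fun u => chkO1 tab orb u) u = true := ext_range (a := 49840) (len := 280) h178 o1_178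
  have h180 : ∀ u < 50400, (fun u => chkO1 tab orb u) u = true := ext_range (a := 50120) (len := 280) h179 o1_179
  have h181 : ∀ u < 50680, (fun u => chkO1 tab orb u) u = true := ext_range (a := 50400) (len := 280) h180 o1_180
  have h182 : ∀ u < 50960, (fun u => chkO1 tab orb u) u = true := ext_range (a := 50680) (len := 280) h181 o1_181
  have h183 : ∀ u < 51240, (fun u => chkO1 tab orb u) u = true := ext_range (a := 50960) (len := 280) h182 o1_182
  have h184 : ∀ u < 51520, (fun u => chkO1 tab orb u) u = true := ext_range (a := 51240) (len := 280) h183 o1_183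
  have h185 : ∀ u < 51800, (fun u => chkO1 tab orb u) u = true := ext_range (a := 51520) (len := 280) h184 o1_184
  have h186 : ∀ u < 52080, (fun u => chkO1 tab orb u) u = true := ext_range (a := 51800) (len := 280) h185 o1_185
  have h187 : ∀ u < 52360, (fun u => chkO1 tab orb u) u = true := ext_range (a := 52080) (len := 280) h186 o1_186
  have h188 : ∀ u < 52640, (fun u => chkO1 tab orb u) u = true := ext_range (a := 52360) (len := 280) h187 o1_187
  have h189 : ∀ u < 52920, (fun u => chkO1 tab orb u) u = true := ext_range (a := 52640) (len := 280) h188 o1_188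
  have h190 : ∀ u < 53200, (fun u => chkO1 tab orb u) u = true := ext_range (a := 52920) (len := 280) h189 o1_189
  have h191 : ∀ u < 53480, (fun u => chkO1 tab orb u) u = true := ext_range (a := 53200) (len := 280) h190 o1_190
  have h192 : ∀ u < 53760, (fun u => chkO1 tab orb u) u = true := ext_range (a := 53480) (len := 280) h191 o1_191
  have h193 : ∀ u < 54040, (fun u => chkO1 tab orb u) u = true := ext_range (a := 53760) (len := 280) h192 o1_192
  have h194 : ∀ u < 54320, (fun u => chkO1 tab orb u) u = true := ext_range (a := 54040) (len := 280) h193 o1_193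
  have h195 : ∀ u < 54600, (fun u => chkO1 tab orb u) u = true := ext_range (a := 54320) (len := 280) h194 o1_194
  have h196 : ∀ u < 54880, (fun u => chkO1 tab orb u) u = true := ext_range (a := 54600) (len := 280) h195 o1_195
  have h197 : ∀ u < 55160, (fun u => chkO1 tab orb u) u = true := ext_range (a := 54880) (len := 280) h196 o1_196
  have h198 : ∀ u < 55440, (fun u => chkO1 tab orb u) u = true := ext_range (a := 55160) (len := 280) h197 o1_197
  have h199 : ∀ u < 55720, (fun u => chkO1 tab orb u) u = true := ext_range (a := 55440) (len := 280) h198 o1_198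
  have h200 : ∀ u < 56000, (fun u => chkO1 tab orb u) u = true := ext_range (a := 55720) (len := 280) h199 o1_199
  have h201 : ∀ u < 56280, (fun u => chkO1 tab orb u) u = true := ext_range (a := 56000) (len := 280) h200 o1_200
  have h202 : ∀ u < 56560, (fun u => chkO1 tab orb u) u = true := ext_range (a := 56280) (len := 280) h201 o1_201
  have h203 : ∀ u < 56840, (fun u => chkO1 tab orb u) u = true := ext_range (a := 56560) (len := 280) h202 o1_202
  have h204 : ∀ u < 57120, (fun u => chkO1 tab orb u) u = true := ext_range (a := 56840) (len := 280) h203 o1_203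
  have h205 : ∀ u < 57400, (fun u => chkO1 tab orb u) u = true := ext_range (a := 57120) (len := 280) h204 o1_204
  have h206 : ∀ u < 57680, (fun u => chkO1 tab orb u) u = true := ext_range (a := 57400) (len := 280) h205 o1_205
  have h207 : ∀ u < 57960, (fun u => chkO1 tab orb u) u = true := ext_range (a := 57680) (len := 280) h206 o1_206
  have h208 : ∀ u < 58240, (fun u => chkO1 tab orb u) u = true := ext_range (a := 57960) (len := 280) h207 o1_207
  have h209 : ∀ u < 58520, (fun u => chkO1 tab orb u) u = true := ext_range (a := 58240) (len := 280) h208 o1_208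
  have h210 : ∀ u < 58800, (fun u => chkO1 tab orb u) u = true := ext_range (a := 58520) (len := 280) h209 o1_209
  have h211 : ∀ u < 59080, (fun u => chkO1 tab orb u) u = true := ext_range (a := 58800) (len := 280) h210 o1_210
  have h212 : ∀ u < 59360, (fun u => chkO1 tab orb u) u = true := ext_range (a := 59080) (len := 280) h211 o1_211
  have h213 : ∀ u < 59640, (fun u => chkO1 tab orb u) u = true := ext_range (a := 59360) (len := 280) h212 o1_212
  have h214 : ∀ u < 59920, (fun u => chkO1 tab orb u) u = true := ext_range (a := 59640) (len := 280) h213 o1_213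
  have h215 : ∀ u < 60200, (fun u => chkO1 tab orb u) u = true := ext_range (a := 59920) (len := 280) h214 o1_214
  have h216 : ∀ u < 60480, (fun u => chkO1 tab orb u) u = true := ext_range (a := 60200) (len := 280) h215 o1_215
  have h217 : ∀ u < 60760, (fun u => chkO1 tab orb u) u = true := ext_range (a := 60480) (len := 280) h216 o1_216
  have h218 : ∀ u < 61040, (fun u => chkO1 tab orb u) u = true := ext_range (a := 60760) (len := 280) h217 o1_217
  have h219 : ∀ u < 61320, (fun u => chkO1 tab orb u) u = true := ext_range (a := 61040) (len := 280) h218 o1_218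
  have h220 : ∀ u < 61600, (fun u => chkO1 tab orb u) u = true := ext_range (a := 61320) (len := 280) h219 o1_219
  have h221 : ∀ u < 61880, (fun u => chkO1 tab orb u) u = true := ext_range (a := 61600) (len := 280) h220 o1_220
  have h222 : ∀ u < 62160, (fun u => chkO1 tab orb u) u = true := ext_range (a := 61880) (len := 280) h221 o1_221
  have h223 : ∀ u < 62440, (fun u => chkO1 tab orb u) u = true := ext_range (a := 62160) (len := 280) h222 o1_222
  have h224 : ∀ u < 62720, (fun u => chkO1 tab orb u) u = true := ext_range (a := 62440) (len := 280) h223 o1_223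
  have h225 : ∀ u < 63000, (fun u => chkO1 tab orb u) u = true := ext_range (a := 62720) (len := 280) h224 o1_224
  have h226 : ∀ u < 63280, (fun u => chkO1 tab orb u) u = true := ext_range (a := 63000) (len := 280) h225 o1_225
  have h227 : ∀ u < 63560, (fun u => chkO1 tab orb u) u = true := ext_range (a := 63280) (len := 280) h226 o1_226
  have h228 : ∀ u < 63840, (fun u => chkO1 tab orb u) u = true := ext_range (a := 63560) (len := 280) h227 o1_227
  have h229 : ∀ u < 64120, (fun u => chkO1 tab orb u) u = true := ext_range (a := 63840) (len := 280) h228 o1_228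
  have h230 : ∀ u < 64400, (fun u => chkO1 tab orb u) u = true := ext_range (a := 64120) (len := 280) h229 o1_229
  have h231 : ∀ u < 64680, (fun u => chkO1 tab orb u) u = true := ext_range (a := 64400) (len := 280) h230 o1_230
  have h232 : ∀ u < 64960, (fun u => chkO1 tab orb u) u = true := ext_range (a := 64680) (len := 280) h231 o1_231
  have h233 : ∀ u < 65240, (fun u => chkO1 tab orb u) u = true := ext_range (a := 64960) (len := 280) h232 o1_232
  have h234 : ∀ u < 65520, (fun u => chkO1 tab orb u) u = true := ext_range (a := 65240) (len := 280) h233 o1_233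
  have h235 : ∀ u < 65800, (fun u => chkO1 tab orb u) u = true := ext_range (a := 65520) (len := 280) h234 o1_234
  have h236 : ∀ u < 66080, (fun u => chkO1 tab orb u) u = true := ext_range (a := 65800) (len := 280) h235 o1_235
  have h237 : ∀ u < 66360, (fun u => chkO1 tab orb u) u = true := ext_range (a := 66080) (len := 280) h236 o1_236
  have h238 : ∀ u < 66640, (fun u => chkO1 tab orb u) u = true := ext_range (a := 66360) (len := 280) h237 o1_237
  have h239 : ∀ u < 66920, (fun u => chkO1 tab orb u) u = true := ext_range (a := 66640) (len := 280) h238 o1_238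
  have h240 : ∀ u < 67200, (fun u => chkO1 tab orb u) u = true := ext_range (a := 66920) (len := 280) h239 o1_239
  have h241 : ∀ u < 67480, (fun u => chkO1 tab orb u) u = true := ext_range (a := 67200) (len := 280) h240 o1_240
  have h242 : ∀ u < 67760, (fun u => chkO1 tab orb u) u = true := ext_range (a := 67480) (len := 280) h241 o1_241
  have h243 : ∀ u < 68040, (fun u => chkO1 tab orb u) u = true := ext_range (a := 67760) (len := 280) h242 o1_242
  have h244 : ∀ u < 68320, (fun u => chkO1 tab orb u) u = true := ext_range (a := 68040) (len := 280) h243 o1_243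
  have h245 : ∀ u < 68600, (fun u => chkO1 tab orb u) u = true := ext_range (a := 68320) (len := 280) h244 o1_244
  have h246 : ∀ u < 68880, (fun u => chkO1 tab orb u) u = true := ext_range (a := 68600) (len := 280) h245 o1_245
  have h247 : ∀ u < 69160, (fun u => chkO1 tab orb u) u = true := ext_range (a := 68880) (len := 280) h246 o1_246
  have h248 : ∀ u < 69440, (fun u => chkO1 tab orb u) u = true := ext_range (a := 69160) (len := 280) h247 o1_247
  have h249 : ∀ u < 69720, (fun u => chkO1 tab orb u) u = true := ext_range (a := 69440) (len := 280) h248 o1_248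
  have h250 : ∀ u < 70000, (fun u => chkO1 tab orb u) u = true := ext_range (a := 69720) (len := 280) h249 o1_249
  have h251 : ∀ u < 70280, (fun u => chkO1 tab orb u) u = true := ext_range (a := 70000) (len := 280) h250 o1_250
  have h252 : ∀ u < 70560, (fun u => chkO1 tab orb u) u = true := ext_range (a := 70280) (len := 280) h251 o1_251
  have h253 : ∀ u < 70840, (fun u => chkO1 tab orb u) u = true := ext_range (a := 70560) (len := 280) h252 o1_252
  have h254 : ∀ u < 71120, (fun u => chkO1 tab orb u) u = true := ext_range (a := 70840) (len := 280) h253 o1_253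
  have h255 : ∀ u < 71400, (fun u => chkO1 tab orb u) u = true := ext_range (a := 71120) (len := 280) h254 o1_254
  have h256 : ∀ u < 71680, (fun u => chkO1 tab orb u) u = true := ext_range (a := 71400) (len := 280) h255 o1_255
  have h257 : ∀ u < 71960, (fun u => chkO1 tab orb u) u = true := ext_range (a := 71680) (len := 280) h256 o1_256
  have h258 : ∀ u < 72240, (fun u => chkO1 tab orb u) u = true := ext_range (a := 71960) (len := 280) h257 o1_257
  have h259 : ∀ u < 72520, (fun u => chkO1 tab orb u) u = true := ext_range (a := 72240) (len := 280) h258 o1_258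
  have h260 : ∀ u < 72800, (fun u => chkO1 tab orb u) u = true := ext_range (a := 72520) (len := 280) h259 o1_259
  have h261 : ∀ u < 73080, (fun u => chkO1 tab orb u) u = true := ext_range (a := 72800) (len := 280) h260 o1_260
  have h262 : ∀ u < 73360, (fun u => chkO1 tab orb u) u = true := ext_range (a := 73080) (len := 280) h261 o1_261
  have h263 : ∀ u < 73640, (fun u => chkO1 tab orb u) u = true := ext_range (a := 73360) (len := 280) h262 o1_262
  have h264 : ∀ u < 73920, (fun u => chkO1 tab orb u) u = true := ext_range (a := 73640) (len := 280) h263 o1_263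
  have h265 : ∀ u < 74200, (fun u => chkO1 tab orb u) u = true := ext_range (a := 73920) (len := 280) h264 o1_264
  have h266 : ∀ u < 74480, (fun u => chkO1 tab orb u) u = true := ext_range (a := 74200) (len := 280) h265 o1_265
  have h267 : ∀ u < 74760, (fun u => chkO1 tab orb u) u = true := ext_range (a := 74480) (len := 280) h266 o1_266
  have h268 : ∀ u < 75040, (fun u => chkO1 tab orb u) u = true := ext_range (a := 74760) (len := 280) h267 o1_267
  have h269 : ∀ u < 75320, (fun u => chkO1 tab orb u) u = true := ext_range (a := 75040) (len := 280) h268 o1_268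
  have h270 : ∀ u < 75600, (fun u => chkO1 tab orb u) u = true := ext_range (a := 75320) (len := 280) h269 o1_269
  have h271 : ∀ u < 75880, (fun u => chkO1 tab orb u) u = true := ext_range (a := 75600) (len := 280) h270 o1_270
  have h272 : ∀ u < 76160, (fun u => chkO1 tab orb u) u = true := ext_range (a := 75880) (len := 280) h271 o1_271
  have h273 : ∀ u < 76440, (fun u => chkO1 tab orb u) u = true := ext_range (a := 76160) (len := 280) h272 o1_272
  have h274 : ∀ u < 76720, (fun u => chkO1 tab orb u) u = true := ext_range (a := 76440) (len := 280) h273 o1_273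
  have h275 : ∀ u < 77000, (fun u => chkO1 tab orb u) u = true := ext_range (a := 76720) (len := 280) h274 o1_274
  have h276 : ∀ u < 77280, (fun u => chkO1 tab orb u) u = true := ext_range (a := 77000) (len := 280) h275 o1_275
  have h277 : ∀ u < 77560, (fun u => chkO1 tab orb u) u = true := ext_range (a := 77280) (len := 280) h276 o1_276
  have h278 : ∀ u < 77840, (fun u => chkO1 tab orb u) u = true := ext_range (a := 77560) (len := 280) h277 o1_277
  have h279 : ∀ u < 78120, (fun u => chkO1 tab orb u) u = true := ext_range (a := 77840) (len := 280) h278 o1_278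
  have h280 : ∀ u < 78400, (fun u => chkO1 tab orb u) u = true := ext_range (a := 78120) (len := 280) h279 o1_279
  have h281 : ∀ u < 78680, (fun u => chkO1 tab orb u) u = true := ext_range (a := 78400) (len := 280) h280 o1_280
  have h282 : ∀ u < 78960, (fun u => chkO1 tab orb u) u = true := ext_range (a := 78680) (len := 280) h281 o1_281
  have h283 : ∀ u < 79240, (fun u => chkO1 tab orb u) u = true := ext_range (a := 78960) (len := 280) h282 o1_282
  have h284 : ∀ u < 79520, (fun u => chkO1 tab orb u) u = true := ext_range (a := 79240) (len := 280) h283 o1_283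
  have h285 : ∀ u < 79800, (fun u => chkO1 tab orb u) u = true := ext_range (a := 79520) (len := 280) h284 o1_284
  have h286 : ∀ u < 80080, (fun u => chkO1 tab orb u) u = true := ext_range (a := 79800) (len := 280) h285 o1_285
  have h287 : ∀ u < 80360, (fun u => chkO1 tab orb u) u = true := ext_range (a := 80080) (len := 280) h286 o1_286
  have h288 : ∀ u < 80640, (fun u => chkO1 tab orb u) u = true := ext_range (a := 80360) (len := 280) h287 o1_287
  have h289 : ∀ u < 80920, (fun u => chkO1 tab orb u) u = true := ext_range (a := 80640) (len := 280) h288 o1_288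
  have h290 : ∀ u < 81200, (fun u => chkO1 tab orb u) u = true := ext_range (a := 80920) (len := 280) h289 o1_289
  have h291 : ∀ u < 81480, (fun u => chkO1 tab orb u) u = true := ext_range (a := 81200) (len := 280) h290 o1_290
  have h292 : ∀ u < 81760, (fun u => chkO1 tab orb u) u = true := ext_range (a := 81480) (len := 280) h291 o1_291
  have h293 : ∀ u < 82040, (fun u => chkO1 tab orb u) u = true := ext_range (a := 81760) (len := 280) h292 o1_292
  have h294 : ∀ u < 82320, (fun u => chkO1 tab orb u) u = true := ext_range (a := 82040) (len := 280) h293 o1_293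
  have h295 : ∀ u < 82600, (fun u => chkO1 tab orb u) u = true := ext_range (a := 82320) (len := 280) h294 o1_294
  have h296 : ∀ u < 82880, (fun u => chkO1 tab orb u) u = true := ext_range (a := 82600) (len := 280) h295 o1_295
  have h297 : ∀ u < 83160, (fun u => chkO1 tab orb u) u = true := ext_range (a := 82880) (len := 280) h296 o1_296
  have h298 : ∀ u < 83440, (fun u => chkO1 tab orb u) u = true := ext_range (a := 83160) (len := 280) h297 o1_297
  have h299 : ∀ u < 83720, (fun u => chkO1 tab orb u) u = true := ext_range (a := 83440) (len := 280) h298 o1_298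
  have h300 : ∀ u < 84000, (fun u => chkO1 tab orb u) u = true := ext_range (a := 83720) (len := 280) h299 o1_299
  have h301 : ∀ u < 84280, (fun u => chkO1 tab orb u) u = true := ext_range (a := 84000) (len := 280) h300 o1_300
  have h302 : ∀ u < 84560, (fun u => chkO1 tab orb u) u = true := ext_range (a := 84280) (len := 280) h301 o1_301
  have h303 : ∀ u < 84840, (fun u => chkO1 tab orb u) u = true := ext_range (a := 84560) (len := 280) h302 o1_302
  have h304 : ∀ u < 85120, (fun u => chkO1 tab orb u) u = true := ext_range (a := 84840) (len := 280) h303 o1_303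
  have h305 : ∀ u < 85400, (fun u => chkO1 tab orb u) u = true := ext_range (a := 85120) (len := 280) h304 o1_304
  have h306 : ∀ u < 85680, (fun u => chkO1 tab orb u) u = true := ext_range (a := 85400) (len := 280) h305 o1_305
  have h307 : ∀ u < 85960, (fun u => chkO1 tab orb u) u = true := ext_range (a := 85680) (len := 280) h306 o1_306
  have h308 : ∀ u < 86240, (fun u => chkO1 tab orb u) u = true := ext_range (a := 85960) (len := 280) h307 o1_307
  have h309 : ∀ u < 86520, (fun u => chkO1 tab orb u) u = true := ext_range (a := 86240) (len := 280) h308 o1_308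
  have h310 : ∀ u < 86800, (fun u => chkO1 tab orb u) u = true := ext_range (a := 86520) (len := 280) h309 o1_309
  have h311 : ∀ u < 87080, (fun u => chkO1 tab orb u) u = true := ext_range (a := 86800) (len := 280) h310 o1_310
  have h312 : ∀ u < 87360, (fun u => chkO1 tab orb u) u = true := ext_range (a := 87080) (len := 280) h311 o1_311
  have h313 : ∀ u < 87640, (fun u => chkO1 tab orb u) u = true := ext_range (a := 87360) (len := 280) h312 o1_312
  have h314 : ∀ u < 87920, (fun u => chkO1 tab orb u) u = true := ext_range (a := 87640) (len := 280) h313 o1_313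
  have h315 : ∀ u < 88200, (fun u => chkO1 tab orb u) u = true := ext_range (a := 87920) (len := 280) h314 o1_314
  have h316 : ∀ u < 88480, (fun u => chkO1 tab orb u) u = true := ext_range (a := 88200) (len := 280) h315 o1_315
  have h317 : ∀ u < 88760, (fun u => chkO1 tab orb u) u = true := ext_range (a := 88480) (len := 280) h316 o1_316
  have h318 : ∀ u < 89040, (fun u => chkO1 tab orb u) u = true := ext_range (a := 88760) (len := 280) h317 o1_317
  have h319 : ∀ u < 89320, (fun u => chkO1 tab orb u) u = true := ext_range (a := 89040) (len := 280) h318 o1_318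
  have h320 : ∀ u < 89600, (fun u => chkO1 tab orb u) u = true := ext_range (a := 89320) (len := 280) h319 o1_319
  have h321 : ∀ u < 89880, (fun u => chkO1 tab orb u) u = true := ext_range (a := 89600) (len := 280) h320 o1_320
  have h322 : ∀ u < 90160, (fun u => chkO1 tab orb u) u = true := ext_range (a := 89880) (len := 280) h321 o1_321
  have h323 : ∀ u < 90440, (fun u => chkO1 tab orb u) u = true := ext_range (a := 90160) (len := 280) h322 o1_322
  have h324 : ∀ u < 90720, (fun u => chkO1 tab orb u) u = true := ext_range (a := 90440) (len := 280) h323 o1_323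
  have h325 : ∀ u < 91000, (fun u => chkO1 tab orb u) u = true := ext_range (a := 90720) (len := 280) h324 o1_324
  have h326 : ∀ u < 91280, (fun u => chkO1 tab orb u) u = true := ext_range (a := 91000) (len := 280) h325 o1_325
  have h327 : ∀ u < 91560, (fun u => chkO1 tab orb u) u = true := ext_range (a := 91280) (len := 280) h326 o1_326
  have h328 : ∀ u < 91840, (fun u => chkO1 tab orb u) u = true := ext_range (a := 91560) (len := 280) h327 o1_327
  have h329 : ∀ u < 92120, (fun u => chkO1 tab orb u) u = true := ext_range (a := 91840) (len := 280) h328 o1_328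
  have h330 : ∀ u < 92400, (fun u => chkO1 tab orb u) u = true := ext_range (a := 92120) (len := 280) h329 o1_329
  have h331 : ∀ u < 92680, (fun u => chkO1 tab orb u) u = true := ext_range (a := 92400) (len := 280) h330 o1_330
  have h332 : ∀ u < 92960, (fun u => chkO1 tab orb u) u = true := ext_range (a := 92680) (len := 280) h331 o1_331
  have h333 : ∀ u < 93240, (fun u => chkO1 tab orb u) u = true := ext_range (a := 92960) (len := 280) h332 o1_332
  have h334 : ∀ u < 93520, (fun u => chkO1 tab orb u) u = true := ext_range (a := 93240) (len := 280) h333 o1_333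
  have h335 : ∀ u < 93800, (fun u => chkO1 tab orb u) u = true := ext_range (a := 93520) (len := 280) h334 o1_334
  have h336 : ∀ u < 94080, (fun u => chkO1 tab orb u) u = true := ext_range (a := 93800) (len := 280) h335 o1_335
  have h337 : ∀ u < 94360, (fun u => chkO1 tab orb u) u = true := ext_range (a := 94080) (len := 280) h336 o1_336
  have h338 : ∀ u < 94640, (fun u => chkO1 tab orb u) u = true := ext_range (a := 94360) (len := 280) h337 o1_337
  have h339 : ∀ u < 94920, (fun u => chkO1 tab orb u) u = true := ext_range (a := 94640) (len := 280) h338 o1_338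
  have h340 : ∀ u < 95200, (fun u => chkO1 tab orb u) u = true := ext_range (a := 94920) (len := 280) h339 o1_339
  have h341 : ∀ u < 95480, (fun u => chkO1 tab orb u) u = true := ext_range (a := 95200) (len := 280) h340 o1_340
  have h342 : ∀ u < 95760, (fun u => chkO1 tab orb u) u = true := ext_range (a := 95480) (len := 280) h341 o1_341
  have h343 : ∀ u < 96040, (fun u => chkO1 tab orb u) u = true := ext_range (a := 95760) (len := 280) h342 o1_342
  have h344 : ∀ u < 96320, (fun u => chkO1 tab orb u) u = true := ext_range (a := 96040) (len := 280) h343 o1_343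
  have h345 : ∀ u < 96600, (fun u => chkO1 tab orb u) u = true := ext_range (a := 96320) (len := 280) h344 o1_344
  have h346 : ∀ u < 96880, (fun u => chkO1 tab orb u) u = true := ext_range (a := 96600) (len := 280) h345 o1_345
  have h347 : ∀ u < 97160, (fun u => chkO1 tab orb u) u = true := ext_range (a := 96880) (len := 280) h346 o1_346
  have h348 : ∀ u < 97440, (fun u => chkO1 tab orb u) u = true := ext_range (a := 97160) (len := 280) h347 o1_347
  have h349 : ∀ u < 97720, (fun u => chkO1 tab orb u) u = true := ext_range (a := 97440) (len := 280) h348 o1_348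
  have h350 : ∀ u < 98000, (fun u => chkO1 tab orb u) u = true := ext_range (a := 97720) (len := 280) h349 o1_349
  have h351 : ∀ u < 98280, (fun u => chkO1 tab orb u) u = true := ext_range (a := 98000) (len := 280) h350 o1_350
  have h352 : ∀ u < 98560, (fun u => chkO1 tab orb u) u = true := ext_range (a := 98280) (len := 280) h351 o1_351
  have h353 : ∀ u < 98840, (fun u => chkO1 tab orb u) u = true := ext_range (a := 98560) (len := 280) h352 o1_352
  have h354 : ∀ u < 99120, (fun u => chkO1 tab orb u) u = true := ext_range (a := 98840) (len := 280) h353 o1_353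
  have h355 : ∀ u < 99400, (fun u => chkO1 tab orb u) u = true := ext_range (a := 99120) (len := 280) h354 o1_354
  have h356 : ∀ u < 99680, (fun u => chkO1 tab orb u) u = true := ext_range (a := 99400) (len := 280) h355 o1_355
  have h357 : ∀ u < 99960, (fun u => chkO1 tab orb u) u = true := ext_range (a := 99680) (len := 280) h356 o1_356
  have h358 : ∀ u < 100240, (fun u => chkO1 tab orb u) u = true := ext_range (a := 99960) (len := 280) h357 o1_357
  have h359 : ∀ u < 100520, (fun u => chkO1 tab orb u) u = true := ext_range (a := 100240) (len := 280) h358 o1_358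
  have h360 : ∀ u < 100800, (fun u => chkO1 tab orb u) u = true := ext_range (a := 100520) (len := 280) h359 o1_359
  have h361 : ∀ u < 101080, (fun u => chkO1 tab orb u) u = true := ext_range (a := 100800) (len := 280) h360 o1_360
  have h362 : ∀ u < 101360, (fun u => chkO1 tab orb u) u = true := ext_range (a := 101080) (len := 280) h361 o1_361
  have h363 : ∀ u < 101640, (fun u => chkO1 tab orb u) u = true := ext_range (a := 101360) (len := 280) h362 o1_362
  have h364 : ∀ u < 101920, (fun u => chkO1 tab orb u) u = true := ext_range (a := 101640) (len := 280) h363 o1_363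
  have h365 : ∀ u < 102200, (fun u => chkO1 tab orb u) u = true := ext_range (a := 101920) (len := 280) h364 o1_364
  have h366 : ∀ u < 102480, (fun u => chkO1 tab orb u) u = true := ext_range (a := 102200) (len := 280) h365 o1_365
  have h367 : ∀ u < 102760, (fun u => chkO1 tab orb u) u = true := ext_range (a := 102480) (len := 280) h366 o1_366
  have h368 : ∀ u < 103040, (fun u => chkO1 tab orb u) u = true := ext_range (a := 102760) (len := 280) h367 o1_367
  have h369 : ∀ u < 103320, (fun u => chkO1 tab orb u) u = true := ext_range (a := 103040) (len := 280) h368 o1_368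
  have h370 : ∀ u < 103600, (fun u => chkO1 tab orb u) u = true := ext_range (a := 103320) (len := 280) h369 o1_369
  have h371 : ∀ u < 103880, (fun u => chkO1 tab orb u) u = true := ext_range (a := 103600) (len := 280) h370 o1_370
  have h372 : ∀ u < 104160, (fun u => chkO1 tab orb u) u = true := ext_range (a := 103880) (len := 280) h371 o1_371
  have h373 : ∀ u < 104440, (fun u => chkO1 tab orb u) u = true := ext_range (a := 104160) (len := 280) h372 o1_372
  have h374 : ∀ u < 104720, (fun u => chkO1 tab orb u) u = true := ext_range (a := 104440) (len := 280) h373 o1_373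
  have h375 : ∀ u < 105000, (fun u => chkO1 tab orb u) u = true := ext_range (a := 104720) (len := 280) h374 o1_374
  have h376 : ∀ u < 105280, (fun u => chkO1 tab orb u) u = true := ext_range (a := 105000) (len := 280) h375 o1_375
  have h377 : ∀ u < 105560, (fun u => chkO1 tab orb u) u = true := ext_range (a := 105280) (len := 280) h376 o1_376
  have h378 : ∀ u < 105840, (fun u => chkO1 tab orb u) u = true := ext_range (a := 105560) (len := 280) h377 o1_377
  have h379 : ∀ u < 106120, (fun u => chkO1 tab orb u) u = true := ext_range (a := 105840) (len := 280) h378 o1_378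
  have h380 : ∀ u < 106400, (fun u => chkO1 tab orb u) u = true := ext_range (a := 106120) (len := 280) h379 o1_379
  have h381 : ∀ u < 106680, (fun u => chkO1 tab orb u) u = true := ext_range (a := 106400) (len := 280) h380 o1_380
  have h382 : ∀ u < 106960, (fun u => chkO1 tab orb u) u = true := ext_range (a := 106680) (len := 280) h381 o1_381
  have h383 : ∀ u < 107240, (fun u => chkO1 tab orb u) u = true := ext_range (a := 106960) (len := 280) h382 o1_382
  have h384 : ∀ u < 107520, (fun u => chkO1 tab orb u) u = true := ext_range (a := 107240) (len := 280) h383 o1_383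
  have h385 : ∀ u < 107800, (fun u => chkO1 tab orb u) u = true := ext_range (a := 107520) (len := 280) h384 o1_384
  have h386 : ∀ u < 108080, (fun u => chkO1 tab orb u) u = true := ext_range (a := 107800) (len := 280) h385 o1_385
  have h387 : ∀ u < 108360, (fun u => chkO1 tab orb u) u = true := ext_range (a := 108080) (len := 280) h386 o1_386
  have h388 : ∀ u < 108640, (fun u => chkO1 tab orb u) u = true := ext_range (a := 108360) (len := 280) h387 o1_387
  have h389 : ∀ u < 108920, (fun u => chkO1 tab orb u) u = true := ext_range (a := 108640) (len := 280) h388 o1_388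
  have h390 : ∀ u < 109200, (fun u => chkO1 tab orb u) u = true := ext_range (a := 108920) (len := 280) h389 o1_389
  have h391 : ∀ u < 109480, (fun u => chkO1 tab orb u) u = true := ext_range (a := 109200) (len := 280) h390 o1_390
  have h392 : ∀ u < 109760, (fun u => chkO1 tab orb u) u = true := ext_range (a := 109480) (len := 280) h391 o1_391
  have h393 : ∀ u < 110040, (fun u => chkO1 tab orb u) u = true := ext_range (a := 109760) (len := 280) h392 o1_392
  have h394 : ∀ u < 110320, (fun u => chkO1 tab orb u) u = true := ext_range (a := 110040) (len := 280) h393 o1_393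
  have h395 : ∀ u < 110600, (fun u => chkO1 tab orb u) u = true := ext_range (a := 110320) (len := 280) h394 o1_394
  have h396 : ∀ u < 110880, (fun u => chkO1 tab orb u) u = true := ext_range (a := 110600) (len := 280) h395 o1_395
  have h397 : ∀ u < 111160, (fun u => chkO1 tab orb u) u = true := ext_range (a := 110880) (len := 280) h396 o1_396
  have h398 : ∀ u < 111440, (fun u => chkO1 tab orb u) u = true := ext_range (a := 111160) (len := 280) h397 o1_397
  have h399 : ∀ u < 111720, (fun u => chkO1 tab orb u) u = true := ext_range (a := 111440) (len := 280) h398 o1_398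
  have h400 : ∀ u < 112000, (fun u => chkO1 tab orb u) u = true := ext_range (a := 111720) (len := 280) h399 o1_399
  have h401 : ∀ u < 112280, (fun u => chkO1 tab orb u) u = true := ext_range (a := 112000) (len := 280) h400 o1_400
  have h402 : ∀ u < 112560, (fun u => chkO1 tab orb u) u = true := ext_range (a := 112280) (len := 280) h401 o1_401
  have h403 : ∀ u < 112840, (fun u => chkO1 tab orb u) u = true := ext_range (a := 112560) (len := 280) h402 o1_402
  have h404 : ∀ u < 113120, (fun u => chkO1 tab orb u) u = true := ext_range (a := 112840) (len := 280) h403 o1_403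
  have h405 : ∀ u < 113400, (fun u => chkO1 tab orb u) u = true := ext_range (a := 113120) (len := 280) h404 o1_404
  have h406 : ∀ u < 113680, (fun u => chkO1 tab orb u) u = true := ext_range (a := 113400) (len := 280) h405 o1_405
  have h407 : ∀ u < 113960, (fun u => chkO1 tab orb u) u = true := ext_range (a := 113680) (len := 280) h406 o1_406
  have h408 : ∀ u < 114240, (fun u => chkO1 tab orb u) u = true := ext_range (a := 113960) (len := 280) h407 o1_407
  have h409 : ∀ u < 114520, (fun u => chkO1 tab orb u) u = true := ext_range (a := 114240) (len := 280) h408 o1_408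
  have h410 : ∀ u < 114800, (fun u => chkO1 tab orb u) u = true := ext_range (a := 114520) (len := 280) h409 o1_409
  have h411 : ∀ u < 115080, (fun u => chkO1 tab orb u) u = true := ext_range (a := 114800) (len := 280) h410 o1_410
  have h412 : ∀ u < 115360, (fun u => chkO1 tab orb u) u = true := ext_range (a := 115080) (len := 280) h411 o1_411
  have h413 : ∀ u < 115640, (fun u => chkO1 tab orb u) u = true := ext_range (a := 115360) (len := 280) h412 o1_412
  have h414 : ∀ u < 115920, (fun u => chkO1 tab orb u) u = true := ext_range (a := 115640) (len := 280) h413 o1_413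
  have h415 : ∀ u < 116200, (fun u => chkO1 tab orb u) u = true := ext_range (a := 115920) (len := 280) h414 o1_414
  have h416 : ∀ u < 116480, (fun u => chkO1 tab orb u) u = true := ext_range (a := 116200) (len := 280) h415 o1_415
  have h417 : ∀ u < 116760, (fun u => chkO1 tab orb u) u = true := ext_range (a := 116480) (len := 280) h416 o1_416
  have h418 : ∀ u < 117040, (fun u => chkO1 tab orb u) u = true := ext_range (a := 116760) (len := 280) h417 o1_417
  have h419 : ∀ u < 117320, (fun u => chkO1 tab orb u) u = true := ext_range (a := 117040) (len := 280) h418 o1_418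
  have h420 : ∀ u < 117600, (fun u => chkO1 tab orb u) u = true := ext_range (a := 117320) (len := 280) h419 o1_419
  have h421 : ∀ u < 117880, (fun u => chkO1 tab orb u) u = true := ext_range (a := 117600) (len := 280) h420 o1_420
  have h422 : ∀ u < 118160, (fun u => chkO1 tab orb u) u = true := ext_range (a := 117880) (len := 280) h421 o1_421
  have h423 : ∀ u < 118440, (fun u => chkO1 tab orb u) u = true := ext_range (a := 118160) (len := 280) h422 o1_422
  have h424 : ∀ u < 118720, (fun u => chkO1 tab orb u) u = true := ext_range (a := 118440) (len := 280) h423 o1_423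
  have h425 : ∀ u < 119000, (fun u => chkO1 tab orb u) u = true := ext_range (a := 118720) (len := 280) h424 o1_424
  have h426 : ∀ u < 119280, (fun u => chkO1 tab orb u) u = true := ext_range (a := 119000) (len := 280) h425 o1_425
  have h427 : ∀ u < 119560, (fun u => chkO1 tab orb u) u = true := ext_range (a := 119280) (len := 280) h426 o1_426
  have h428 : ∀ u < 119840, (fun u => chkO1 tab orb u) u = true := ext_range (a := 119560) (len := 280) h427 o1_427
  have h429 : ∀ u < 120120, (fun u => chkO1 tab orb u) u = true := ext_range (a := 119840) (len := 280) h428 o1_428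
  have h430 : ∀ u < 120400, (fun u => chkO1 tab orb u) u = true := ext_range (a := 120120) (len := 280) h429 o1_429
  have h431 : ∀ u < 120680, (fun u => chkO1 tab orb u) u = true := ext_range (a := 120400) (len := 280) h430 o1_430
  have h432 : ∀ u < 120960, (fun u => chkO1 tab orb u) u = true := ext_range (a := 120680) (len := 280) h431 o1_431
  have h433 : ∀ u < 121240, (fun u => chkO1 tab orb u) u = true := ext_range (a := 120960) (len := 280) h432 o1_432
  have h434 : ∀ u < 121520, (fun u => chkO1 tab orb u) u = true := ext_range (a := 121240) (len := 280) h433 o1_433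
  have h435 : ∀ u < 121800, (fun u => chkO1 tab orb u) u = true := ext_range (a := 121520) (len := 280) h434 o1_434
  have h436 : ∀ u < 122080, (fun u => chkO1 tab orb u) u = true := ext_range (a := 121800) (len := 280) h435 o1_435
  have h437 : ∀ u < 122360, (fun u => chkO1 tab orb u) u = true := ext_range (a := 122080) (len := 280) h436 o1_436
  have h438 : ∀ u < 122640, (fun u => chkO1 tab orb u) u = true := ext_range (a := 122360) (len := 280) h437 o1_437
  have h439 : ∀ u < 122920, (fun u => chkO1 tab orb u) u = true := ext_range (a := 122640) (len := 280) h438 o1_438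
  have h440 : ∀ u < 123200, (fun u => chkO1 tab orb u) u = true := ext_range (a := 122920) (len := 280) h439 o1_439
  have h441 : ∀ u < 123480, (fun u => chkO1 tab orb u) u = true := ext_range (a := 123200) (len := 280) h440 o1_440
  have h442 : ∀ u < 123760, (fun u => chkO1 tab orb u) u = true := ext_range (a := 123480) (len := 280) h441 o1_441
  have h443 : ∀ u < 124040, (fun u => chkO1 tab orb u) u = true := ext_range (a := 123760) (len := 280) h442 o1_442
  have h444 : ∀ u < 124320, (fun u => chkO1 tab orb u) u = true := ext_range (a := 124040) (len := 280) h443 o1_443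
  have h445 : ∀ u < 124600, (fun u => chkO1 tab orb u) u = true := ext_range (a := 124320) (len := 280) h444 o1_444
  have h446 : ∀ u < 124880, (fun u => chkO1 tab orb u) u = true := ext_range (a := 124600) (len := 280) h445 o1_445
  have h447 : ∀ u < 125160, (fun u => chkO1 tab orb u) u = true := ext_range (a := 124880) (len := 280) h446 o1_446
  have h448 : ∀ u < 125440, (fun u => chkO1 tab orb u) u = true := ext_range (a := 125160) (len := 280) h447 o1_447
  have h449 : ∀ u < 125720, (fun u => chkO1 tab orb u) u = true := ext_range (a := 125440) (len := 280) h448 o1_448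
  have h450 : ∀ u < 126000, (fun u => chkO1 tab orb u) u = true := ext_range (a := 125720) (len := 280) h449 o1_449
  have h451 : ∀ u < 126280, (fun u => chkO1 tab orb u) u = true := ext_range (a := 126000) (len := 280) h450 o1_450
  have h452 : ∀ u < 126560, (fun u => chkO1 tab orb u) u = true := ext_range (a := 126280) (len := 280) h451 o1_451
  have h453 : ∀ u < 126840, (fun u => chkO1 tab orb u) u = true := ext_range (a := 126560) (len := 280) h452 o1_452
  have h454 : ∀ u < 127120, (fun u => chkO1 tab orb u) u = true := ext_range (a := 126840) (len := 280) h453 o1_453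
  have h455 : ∀ u < 127400, (fun u => chkO1 tab orb u) u = true := ext_range (a := 127120) (len := 280) h454 o1_454
  have h456 : ∀ u < 127680, (fun u => chkO1 tab orb u) u = true := ext_range (a := 127400) (len := 280) h455 o1_455
  have h457 : ∀ u < 127960, (fun u => chkO1 tab orb u) u = true := ext_range (a := 127680) (len := 280) h456 o1_456
  have h458 : ∀ u < 128240, (fun u => chkO1 tab orb u) u = true := ext_range (a := 127960) (len := 280) h457 o1_457
  have h459 : ∀ u < 128520, (fun u => chkO1 tab orb u) u = true := ext_range (a := 128240) (len := 280) h458 o1_458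
  have h460 : ∀ u < 128800, (fun u => chkO1 tab orb u) u = true := ext_range (a := 128520) (len := 280) h459 o1_459
  have h461 : ∀ u < 129080, (fun u => chkO1 tab orb u) u = true := ext_range (a := 128800) (len := 280) h460 o1_460
  have h462 : ∀ u < 129360, (fun u => chkO1 tab orb u) u = true := ext_range (a := 129080) (len := 280) h461 o1_461
  have h463 : ∀ u < 129640, (fun u => chkO1 tab orb u) u = true := ext_range (a := 129360) (len := 280) h462 o1_462
  have h464 : ∀ u < 129920, (fun u => chkO1 tab orb u) u = true := ext_range (a := 129640) (len := 280) h463 o1_463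
  have h465 : ∀ u < 130200, (fun u => chkO1 tab orb u) u = true := ext_range (a := 129920) (len := 280) h464 o1_464
  have h466 : ∀ u < 130480, (fun u => chkO1 tab orb u) u = true := ext_range (a := 130200) (len := 280) h465 o1_465
  have h467 : ∀ u < 130760, (fun u => chkO1 tab orb u) u = true := ext_range (a := 130480) (len := 280) h466 o1_466
  have h468 : ∀ u < 131040, (fun u => chkO1 tab orb u) u = true := ext_range (a := 130760) (len := 280) h467 o1_467
  have h469 : ∀ u < 131320, (fun u => chkO1 tab orb u) u = true := ext_range (a := 131040) (len := 280) h468 o1_468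
  have h470 : ∀ u < 131600, (fun u => chkO1 tab orb u) u = true := ext_range (a := 131320) (len := 280) h469 o1_469
  have h471 : ∀ u < 131880, (fun u => chkO1 tab orb u) u = true := ext_range (a := 131600) (len := 280) h470 o1_470
  have h472 : ∀ u < 132160, (fun u => chkO1 tab orb u) u = true := ext_range (a := 131880) (len := 280) h471 o1_471
  have h473 : ∀ u < 132440, (fun u => chkO1 tab orb u) u = true := ext_range (a := 132160) (len := 280) h472 o1_472
  have h474 : ∀ u < 132720, (fun u => chkO1 tab orb u) u = true := ext_range (a := 132440) (len := 280) h473 o1_473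
  have h475 : ∀ u < 133000, (fun u => chkO1 tab orb u) u = true := ext_range (a := 132720) (len := 280) h474 o1_474
  have h476 : ∀ u < 133280, (fun u => chkO1 tab orb u) u = true := ext_range (a := 133000) (len := 280) h475 o1_475
  have h477 : ∀ u < 133560, (fun u => chkO1 tab orb u) u = true := ext_range (a := 133280) (len := 280) h476 o1_476
  have h478 : ∀ u < 133840, (fun u => chkO1 tab orb u) u = true := ext_range (a := 133560) (len := 280) h477 o1_477
  have h479 : ∀ u < 134120, (fun u => chkO1 tab orb u) u = true := ext_range (a := 133840) (len := 280) h478 o1_478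
  have h480 : ∀ u < 134400, (fun u => chkO1 tab orb u) u = true := ext_range (a := 134120) (len := 280) h479 o1_479
  have h481 : ∀ u < 134680, (fun u => chkO1 tab orb u) u = true := ext_range (a := 134400) (len := 280) h480 o1_480
  have h482 : ∀ u < 134960, (fun u => chkO1 tab orb u) u = true := ext_range (a := 134680) (len := 280) h481 o1_481
  have h483 : ∀ u < 135240, (fun u => chkO1 tab orb u) u = true := ext_range (a := 134960) (len := 280) h482 o1_482
  have h484 : ∀ u < 135520, (fun u => chkO1 tab orb u) u = true := ext_range (a := 135240) (len := 280) h483 o1_483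
  have h485 : ∀ u < 135800, (fun u => chkO1 tab orb u) u = true := ext_range (a := 135520) (len := 280) h484 o1_484
  have h486 : ∀ u < 136080, (fun u => chkO1 tab orb u) u = true := ext_range (a := 135800) (len := 280) h485 o1_485
  have h487 : ∀ u < 136360, (fun u => chkO1 tab orb u) u = true := ext_range (a := 136080) (len := 280) h486 o1_486
  have h488 : ∀ u < 136640, (fun u => chkO1 tab orb u) u = true := ext_range (a := 136360) (len := 280) h487 o1_487
  have h489 : ∀ u < 136920, (fun u => chkO1 tab orb u) u = true := ext_range (a := 136640) (len := 280) h488 o1_488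
  have h490 : ∀ u < 137200, (fun u => chkO1 tab orb u) u = true := ext_range (a := 136920) (len := 280) h489 o1_489
  have h491 : ∀ u < 137480, (fun u => chkO1 tab orb u) u = true := ext_range (a := 137200) (len := 280) h490 o1_490
  have h492 : ∀ u < 137760, (fun u => chkO1 tab orb u) u = true := ext_range (a := 137480) (len := 280) h491 o1_491
  have h493 : ∀ u < 138040, (fun u => chkO1 tab orb u) u = true := ext_range (a := 137760) (len := 280) h492 o1_492
  have h494 : ∀ u < 138320, (fun u => chkO1 tab orb u) u = true := ext_range (a := 138040) (len := 280) h493 o1_493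
  have h495 : ∀ u < 138600, (fun u => chkO1 tab orb u) u = true := ext_range (a := 138320) (len := 280) h494 o1_494
  have h496 : ∀ u < 138880, (fun u => chkO1 tab orb u) u = true := ext_range (a := 138600) (len := 280) h495 o1_495
  have h497 : ∀ u < 139160, (fun u => chkO1 tab orb u) u = true := ext_range (a := 138880) (len := 280) h496 o1_496
  have h498 : ∀ u < 139440, (fun u => chkO1 tab orb u) u = true := ext_range (a := 139160) (len := 280) h497 o1_497
  have h499 : ∀ u < 139720, (fun u => chkO1 tab orb u) u = true := ext_range (a := 139440) (len := 280) h498 o1_498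
  have h500 : ∀ u < 140000, (fun u => chkO1 tab orb u) u = true := ext_range (a := 139720) (len := 280) h499 o1_499
  have h501 : ∀ u < 140280, (fun u => chkO1 tab orb u) u = true := ext_range (a := 140000) (len := 280) h500 o1_500
  have h502 : ∀ u < 140560, (fun u => chkO1 tab orb u) u = true := ext_range (a := 140280) (len := 280) h501 o1_501
  have h503 : ∀ u < 140840, (fun u => chkO1 tab orb u) u = true := ext_range (a := 140560) (len := 280) h502 o1_502
  have h504 : ∀ u < 141120, (fun u => chkO1 tab orb u) u = true := ext_range (a := 140840) (len := 280) h503 o1_503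
  have h505 : ∀ u < 141400, (fun u => chkO1 tab orb u) u = true := ext_range (a := 141120) (len := 280) h504 o1_504
  have h506 : ∀ u < 141680, (fun u => chkO1 tab orb u) u = true := ext_range (a := 141400) (len := 280) h505 o1_505
  have h507 : ∀ u < 141960, (fun u => chkO1 tab orb u) u = true := ext_range (a := 141680) (len := 280) h506 o1_506
  have h508 : ∀ u < 142240, (fun u => chkO1 tab orb u) u = true := ext_range (a := 141960) (len := 280) h507 o1_507
  have h509 : ∀ u < 142520, (fun u => chkO1 tab orb u) u = true := ext_range (a := 142240) (len := 280) h508 o1_508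
  have h510 : ∀ u < 142800, (fun u => chkO1 tab orb u) u = true := ext_range (a := 142520) (len := 280) h509 o1_509
  have h511 : ∀ u < 143080, (fun u => chkO1 tab orb u) u = true := ext_range (a := 142800) (len := 280) h510 o1_510
  have h512 : ∀ u < 143360, (fun u => chkO1 tab orb u) u = true := ext_range (a := 143080) (len := 280) h511 o1_511
  have h513 : ∀ u < 143640, (fun u => chkO1 tab orb u) u = true := ext_range (a := 143360) (len := 280) h512 o1_512
  have h514 : ∀ u < 143920, (fun u => chkO1 tab orb u) u = true := ext_range (a := 143640) (len := 280) h513 o1_513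
  have h515 : ∀ u < 144200, (fun u => chkO1 tab orb u) u = true := ext_range (a := 143920) (len := 280) h514 o1_514
  have h516 : ∀ u < 144480, (fun u => chkO1 tab orb u) u = true := ext_range (a := 144200) (len := 280) h515 o1_515
  have h517 : ∀ u < 144760, (fun u => chkO1 tab orb u) u = true := ext_range (a := 144480) (len := 280) h516 o1_516
  have h518 : ∀ u < 145040, (fun u => chkO1 tab orb u) u = true := ext_range (a := 144760) (len := 280) h517 o1_517
  have h519 : ∀ u < 145320, (fun u => chkO1 tab orb u) u = true := ext_range (a := 145040) (len := 280) h518 o1_518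
  have h520 : ∀ u < 145600, (fun u => chkO1 tab orb u) u = true := ext_range (a := 145320) (len := 280) h519 o1_519
  have h521 : ∀ u < 145880, (fun u => chkO1 tab orb u) u = true := ext_range (a := 145600) (len := 280) h520 o1_520
  have h522 : ∀ u < 146160, (fun u => chkO1 tab orb u) u = true := ext_range (a := 145880) (len := 280) h521 o1_521
  have h523 : ∀ u < 146440, (fun u => chkO1 tab orb u) u = true := ext_range (a := 146160) (len := 280) h522 o1_522
  have h524 : ∀ u < 146720, (fun u => chkO1 tab orb u) u = true := ext_range (a := 146440) (len := 280) h523 o1_523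
  have h525 : ∀ u < 147000, (fun u => chkO1 tab orb u) u = true := ext_range (a := 146720) (len := 280) h524 o1_524
  have h526 : ∀ u < 147280, (fun u => chkO1 tab orb u) u = true := ext_range (a := 147000) (len := 280) h525 o1_525
  have h527 : ∀ u < 147560, (fun u => chkO1 tab orb u) u = true := ext_range (a := 147280) (len := 280) h526 o1_526
  have h528 : ∀ u < 147840, (fun u => chkO1 tab orb u) u = true := ext_range (a := 147560) (len := 280) h527 o1_527
  have h529 : ∀ u < 148120, (fun u => chkO1 tab orb u) u = true := ext_range (a := 147840) (len := 280) h528 o1_528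
  have h530 : ∀ u < 148400, (fun u => chkO1 tab orb u) u = true := ext_range (a := 148120) (len := 280) h529 o1_529
  have h531 : ∀ u < 148680, (fun u => chkO1 tab orb u) u = true := ext_range (a := 148400) (len := 280) h530 o1_530
  have h532 : ∀ u < 148960, (fun u => chkO1 tab orb u) u = true := ext_range (a := 148680) (len := 280) h531 o1_531
  have h533 : ∀ u < 149240, (fun u => chkO1 tab orb u) u = true := ext_range (a := 148960) (len := 280) h532 o1_532
  have h534 : ∀ u < 149520, (fun u => chkO1 tab orb u) u = true := ext_range (a := 149240) (len := 280) h533 o1_533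
  have h535 : ∀ u < 149800, (fun u => chkO1 tab orb u) u = true := ext_range (a := 149520) (len := 280) h534 o1_534
  have h536 : ∀ u < 150080, (fun u => chkO1 tab orb u) u = true := ext_range (a := 149800) (len := 280) h535 o1_535
  have h537 : ∀ u < 150360, (fun u => chkO1 tab orb u) u = true := ext_range (a := 150080) (len := 280) h536 o1_536
  have h538 : ∀ u < 150640, (fun u => chkO1 tab orb u) u = true := ext_range (a := 150360) (len := 280) h537 o1_537
  have h539 : ∀ u < 150920, (fun u => chkO1 tab orb u) u = true := ext_range (a := 150640) (len := 280) h538 o1_538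
  have h540 : ∀ u < 151200, (fun u => chkO1 tab orb u) u = true := ext_range (a := 150920) (len := 280) h539 o1_539
  have h541 : ∀ u < 151480, (fun u => chkO1 tab orb u) u = true := ext_range (a := 151200) (len := 280) h540 o1_540
  have h542 : ∀ u < 151760, (fun u => chkO1 tab orb u) u = true := ext_range (a := 151480) (len := 280) h541 o1_541
  have h543 : ∀ u < 152040, (fun u => chkO1 tab orb u) u = true := ext_range (a := 151760) (len := 280) h542 o1_542
  have h544 : ∀ u < 152320, (fun u => chkO1 tab orb u) u = true := ext_range (a := 152040) (len := 280) h543 o1_543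
  have h545 : ∀ u < 152600, (fun u => chkO1 tab orb u) u = true := ext_range (a := 152320) (len := 280) h544 o1_544
  have h546 : ∀ u < 152880, (fun u => chkO1 tab orb u) u = true := ext_range (a := 152600) (len := 280) h545 o1_545
  have h547 : ∀ u < 153160, (fun u => chkO1 tab orb u) u = true := ext_range (a := 152880) (len := 280) h546 o1_546
  have h548 : ∀ u < 153440, (fun u => chkO1 tab orb u) u = true := ext_range (a := 153160) (len := 280) h547 o1_547
  have h549 : ∀ u < 153720, (fun u => chkO1 tab orb u) u = true := ext_range (a := 153440) (len := 280) h548 o1_548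
  have h550 : ∀ u < 154000, (fun u => chkO1 tab orb u) u = true := ext_range (a := 153720) (len := 280) h549 o1_549
  have h551 : ∀ u < 154280, (fun u => chkO1 tab orb u) u = true := ext_range (a := 154000) (len := 280) h550 o1_550
  have h552 : ∀ u < 154560, (fun u => chkO1 tab orb u) u = true := ext_range (a := 154280) (len := 280) h551 o1_551
  have h553 : ∀ u < 154840, (fun u => chkO1 tab orb u) u = true := ext_range (a := 154560) (len := 280) h552 o1_552
  have h554 : ∀ u < 155120, (fun u => chkO1 tab orb u) u = true := ext_range (a := 154840) (len := 280) h553 o1_553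
  have h555 : ∀ u < 155400, (fun u => chkO1 tab orb u) u = true := ext_range (a := 155120) (len := 280) h554 o1_554
  have h556 : ∀ u < 155680, (fun u => chkO1 tab orb u) u = true := ext_range (a := 155400) (len := 280) h555 o1_555
  have h557 : ∀ u < 155960, (fun u => chkO1 tab orb u) u = true := ext_range (a := 155680) (len := 280) h556 o1_556
  have h558 : ∀ u < 156240, (fun u => chkO1 tab orb u) u = true := ext_range (a := 155960) (len := 280) h557 o1_557
  have h559 : ∀ u < 156520, (fun u => chkO1 tab orb u) u = true := ext_range (a := 156240) (len := 280) h558 o1_558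
  have h560 : ∀ u < 156800, (fun u => chkO1 tab orb u) u = true := ext_range (a := 156520) (len := 280) h559 o1_559
  have h561 : ∀ u < 157080, (fun u => chkO1 tab orb u) u = true := ext_range (a := 156800) (len := 280) h560 o1_560
  have h562 : ∀ u < 157360, (fun u => chkO1 tab orb u) u = true := ext_range (a := 157080) (len := 280) h561 o1_561
  have h563 : ∀ u < 157640, (fun u => chkO1 tab orb u) u = true := ext_range (a := 157360) (len := 280) h562 o1_562
  have h564 : ∀ u < 157920, (fun u => chkO1 tab orb u) u = true := ext_range (a := 157640) (len := 280) h563 o1_563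
  have h565 : ∀ u < 158200, (fun u => chkO1 tab orb u) u = true := ext_range (a := 157920) (len := 280) h564 o1_564
  have h566 : ∀ u < 158480, (fun u => chkO1 tab orb u) u = true := ext_range (a := 158200) (len := 280) h565 o1_565
  have h567 : ∀ u < 158760, (fun u => chkO1 tab orb u) u = true := ext_range (a := 158480) (len := 280) h566 o1_566
  have h568 : ∀ u < 159040, (fun u => chkO1 tab orb u) u = true := ext_range (a := 158760) (len := 280) h567 o1_567
  have h569 : ∀ u < 159320, (fun u => chkO1 tab orb u) u = true := ext_range (a := 159040) (len := 280) h568 o1_568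
  have h570 : ∀ u < 159600, (fun u => chkO1 tab orb u) u = true := ext_range (a := 159320) (len := 280) h569 o1_569
  have h571 : ∀ u < 159880, (fun u => chkO1 tab orb u) u = true := ext_range (a := 159600) (len := 280) h570 o1_570
  have h572 : ∀ u < 160160, (fun u => chkO1 tab orb u) u = true := ext_range (a := 159880) (len := 280) h571 o1_571
  have h573 : ∀ u < 160440, (fun u => chkO1 tab orb u) u = true := ext_range (a := 160160) (len := 280) h572 o1_572
  have h574 : ∀ u < 160720, (fun u => chkO1 tab orb u) u = true := ext_range (a := 160440) (len := 280) h573 o1_573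
  have h575 : ∀ u < 161000, (fun u => chkO1 tab orb u) u = true := ext_range (a := 160720) (len := 280) h574 o1_574
  have h576 : ∀ u < 161280, (fun u => chkO1 tab orb u) u = true := ext_range (a := 161000) (len := 280) h575 o1_575
  have h577 : ∀ u < 161560, (fun u => chkO1 tab orb u) u = true := ext_range (a := 161280) (len := 280) h576 o1_576
  have h578 : ∀ u < 161840, (fun u => chkO1 tab orb u) u = true := ext_range (a := 161560) (len := 280) h577 o1_577
  have h579 : ∀ u < 162120, (fun u => chkO1 tab orb u) u = true := ext_range (a := 161840) (len := 280) h578 o1_578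
  have h580 : ∀ u < 162400, (fun u => chkO1 tab orb u) u = true := ext_range (a := 162120) (len := 280) h579 o1_579
  have h581 : ∀ u < 162680, (fun u => chkO1 tab orb u) u = true := ext_range (a := 162400) (len := 280) h580 o1_580
  have h582 : ∀ u < 162960, (fun u => chkO1 tab orb u) u = true := ext_range (a := 162680) (len := 280) h581 o1_581
  have h583 : ∀ u < 163240, (fun u => chkO1 tab orb u) u = true := ext_range (a := 162960) (len := 280) h582 o1_582
  have h584 : ∀ u < 163520, (fun u => chkO1 tab orb u) u = true := ext_range (a := 163240) (len := 280) h583 o1_583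
  have h585 : ∀ u < 163800, (fun u => chkO1 tab orb u) u = true := ext_range (a := 163520) (len := 280) h584 o1_584
  have h586 : ∀ u < 164080, (fun u => chkO1 tab orb u) u = true := ext_range (a := 163800) (len := 280) h585 o1_585
  have h587 : ∀ u < 164360, (fun u => chkO1 tab orb u) u = true := ext_range (a := 164080) (len := 280) h586 o1_586
  have h588 : ∀ u < 164640, (fun u => chkO1 tab orb u) u = true := ext_range (a := 164360) (len := 280) h587 o1_587
  have h589 : ∀ u < 164920, (fun u => chkO1 tab orb u) u = true := ext_range (a := 164640) (len := 280) h588 o1_588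
  have h590 : ∀ u < 165200, (fun u => chkO1 tab orb u) u = true := ext_range (a := 164920) (len := 280) h589 o1_589
  have h591 : ∀ u < 165480, (fun u => chkO1 tab orb u) u = true := ext_range (a := 165200) (len := 280) h590 o1_590
  have h592 : ∀ u < 165760, (fun u => chkO1 tab orb u) u = true := ext_range (a := 165480) (len := 280) h591 o1_591
  have h593 : ∀ u < 166040, (fun u => chkO1 tab orb u) u = true := ext_range (a := 165760) (len := 280) h592 o1_592
  have h594 : ∀ u < 166320, (fun u => chkO1 tab orb u) u = true := ext_range (a := 166040) (len := 280) h593 o1_593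
  have h595 : ∀ u < 166600, (fun u => chkO1 tab orb u) u = true := ext_range (a := 166320) (len := 280) h594 o1_594
  have h596 : ∀ u < 166880, (fun u => chkO1 tab orb u) u = true := ext_range (a := 166600) (len := 280) h595 o1_595
  have h597 : ∀ u < 167160, (fun u => chkO1 tab orb u) u = true := ext_range (a := 166880) (len := 280) h596 o1_596
  have h598 : ∀ u < 167440, (fun u => chkO1 tab orb u) u = true := ext_range (a := 167160) (len := 280) h597 o1_597
  have h599 : ∀ u < 167720, (fun u => chkO1 tab orb u) u = true := ext_range (a := 167440) (len := 280) h598 o1_598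
  have h600 : ∀ u < 168000, (fun u => chkO1 tab orb u) u = true := ext_range (a := 167720) (len := 280) h599 o1_599
  have h601 : ∀ u < 168280, (fun u => chkO1 tab orb u) u = true := ext_range (a := 168000) (len := 280) h600 o1_600
  have h602 : ∀ u < 168560, (fun u => chkO1 tab orb u) u = true := ext_range (a := 168280) (len := 280) h601 o1_601
  have h603 : ∀ u < 168840, (fun u => chkO1 tab orb u) u = true := ext_range (a := 168560) (len := 280) h602 o1_602
  have h604 : ∀ u < 169120, (fun u => chkO1 tab orb u) u = true := ext_range (a := 168840) (len := 280) h603 o1_603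
  have h605 : ∀ u < 169400, (fun u => chkO1 tab orb u) u = true := ext_range (a := 169120) (len := 280) h604 o1_604
  have h606 : ∀ u < 169680, (fun u => chkO1 tab orb u) u = true := ext_range (a := 169400) (len := 280) h605 o1_605
  have h607 : ∀ u < 169960, (fun u => chkO1 tab orb u) u = true := ext_range (a := 169680) (len := 280) h606 o1_606
  have h608 : ∀ u < 170240, (fun u => chkO1 tab orb u) u = true := ext_range (a := 169960) (len := 280) h607 o1_607
  have h609 : ∀ u < 170520, (fun u => chkO1 tab orb u) u = true := ext_range (a := 170240) (len := 280) h608 o1_608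
  have h610 : ∀ u < 170800, (fun u => chkO1 tab orb u) u = true := ext_range (a := 170520) (len := 280) h609 o1_609
  have h611 : ∀ u < 171080, (fun u => chkO1 tab orb u) u = true := ext_range (a := 170800) (len := 280) h610 o1_610
  have h612 : ∀ u < 171360, (fun u => chkO1 tab orb u) u = true := ext_range (a := 171080) (len := 280) h611 o1_611
  have h613 : ∀ u < 171640, (fun u => chkO1 tab orb u) u = true := ext_range (a := 171360) (len := 280) h612 o1_612
  have h614 : ∀ u < 171920, (fun u => chkO1 tab orb u) u = true := ext_range (a := 171640) (len := 280) h613 o1_613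
  have h615 : ∀ u < 172200, (fun u => chkO1 tab orb u) u = true := ext_range (a := 171920) (len := 280) h614 o1_614
  have h616 : ∀ u < 172480, (fun u => chkO1 tab orb u) u = true := ext_range (a := 172200) (len := 280) h615 o1_615
  have h617 : ∀ u < 172760, (fun u => chkO1 tab orb u) u = true := ext_range (a := 172480) (len := 280) h616 o1_616
  have h618 : ∀ u < 173040, (fun u => chkO1 tab orb u) u = true := ext_range (a := 172760) (len := 280) h617 o1_617
  have h619 : ∀ u < 173320, (fun u => chkO1 tab orb u) u = true := ext_range (a := 173040) (len := 280) h618 o1_618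
  have h620 : ∀ u < 173600, (fun u => chkO1 tab orb u) u = true := ext_range (a := 173320) (len := 280) h619 o1_619
  have h621 : ∀ u < 173880, (fun u => chkO1 tab orb u) u = true := ext_range (a := 173600) (len := 280) h620 o1_620
  have h622 : ∀ u < 174160, (fun u => chkO1 tab orb u) u = true := ext_range (a := 173880) (len := 280) h621 o1_621
  have h623 : ∀ u < 174440, (fun u => chkO1 tab orb u) u = true := ext_range (a := 174160) (len := 280) h622 o1_622
  have h624 : ∀ u < 174720, (fun u => chkO1 tab orb u) u = true := ext_range (a := 174440) (len := 280) h623 o1_623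
  have h625 : ∀ u < 175000, (fun u => chkO1 tab orb u) u = true := ext_range (a := 174720) (len := 280) h624 o1_624
  have h626 : ∀ u < 175280, (fun u => chkO1 tab orb u) u = true := ext_range (a := 175000) (len := 280) h625 o1_625
  have h627 : ∀ u < 175560, (fun u => chkO1 tab orb u) u = true := ext_range (a := 175280) (len := 280) h626 o1_626
  have h628 : ∀ u < 175840, (fun u => chkO1 tab orb u) u = true := ext_range (a := 175560) (len := 280) h627 o1_627
  have h629 : ∀ u < 176120, (fun u => chkO1 tab orb u) u = true := ext_range (a := 175840) (len := 280) h628 o1_628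
  have h630 : ∀ u < 176400, (fun u => chkO1 tab orb u) u = true := ext_range (a := 176120) (len := 280) h629 o1_629
  have h631 : ∀ u < 176680, (fun u => chkO1 tab orb u) u = true := ext_range (a := 176400) (len := 280) h630 o1_630
  have h632 : ∀ u < 176960, (fun u => chkO1 tab orb u) u = true := ext_range (a := 176680) (len := 280) h631 o1_631
  have h633 : ∀ u < 177240, (fun u => chkO1 tab orb u) u = true := ext_range (a := 176960) (len := 280) h632 o1_632
  have h634 : ∀ u < 177520, (fun u => chkO1 tab orb u) u = true := ext_range (a := 177240) (len := 280) h633 o1_633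
  have h635 : ∀ u < 177800, (fun u => chkO1 tab orb u) u = true := ext_range (a := 177520) (len := 280) h634 o1_634
  have h636 : ∀ u < 178080, (fun u => chkO1 tab orb u) u = true := ext_range (a := 177800) (len := 280) h635 o1_635
  have h637 : ∀ u < 178360, (fun u => chkO1 tab orb u) u = true := ext_range (a := 178080) (len := 280) h636 o1_636
  have h638 : ∀ u < 178640, (fun u => chkO1 tab orb u) u = true := ext_range (a := 178360) (len := 280) h637 o1_637
  have h639 : ∀ u < 178920, (fun u => chkO1 tab orb u) u = true := ext_range (a := 178640) (len := 280) h638 o1_638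
  have h640 : ∀ u < 179200, (fun u => chkO1 tab orb u) u = true := ext_range (a := 178920) (len := 280) h639 o1_639
  have h641 : ∀ u < 179480, (fun u => chkO1 tab orb u) u = true := ext_range (a := 179200) (len := 280) h640 o1_640
  have h642 : ∀ u < 179760, (fun u => chkO1 tab orb u) u = true := ext_range (a := 179480) (len := 280) h641 o1_641
  have h643 : ∀ u < 180040, (fun u => chkO1 tab orb u) u = true := ext_range (a := 179760) (len := 280) h642 o1_642
  have h644 : ∀ u < 180320, (fun u => chkO1 tab orb u) u = true := ext_range (a := 180040) (len := 280) h643 o1_643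
  have h645 : ∀ u < 180600, (fun u => chkO1 tab orb u) u = true := ext_range (a := 180320) (len := 280) h644 o1_644
  have h646 : ∀ u < 180880, (fun u => chkO1 tab orb u) u = true := ext_range (a := 180600) (len := 280) h645 o1_645
  have h647 : ∀ u < 181160, (fun u => chkO1 tab orb u) u = true := ext_range (a := 180880) (len := 280) h646 o1_646
  have h648 : ∀ u < 181440, (fun u => chkO1 tab orb u) u = true := ext_range (a := 181160) (len := 280) h647 o1_647
  have h649 : ∀ u < 181720, (fun u => chkO1 tab orb u) u = true := ext_range (a := 181440) (len := 280) h648 o1_648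
  have h650 : ∀ u < 182000, (fun u => chkO1 tab orb u) u = true := ext_range (a := 181720) (len := 280) h649 o1_649
  have h651 : ∀ u < 182280, (fun u => chkO1 tab orb u) u = true := ext_range (a := 182000) (len := 280) h650 o1_650
  have h652 : ∀ u < 182560, (fun u => chkO1 tab orb u) u = true := ext_range (a := 182280) (len := 280) h651 o1_651
  have h653 : ∀ u < 182840, (fun u => chkO1 tab orb u) u = true := ext_range (a := 182560) (len := 280) h652 o1_652
  have h654 : ∀ u < 183120, (fun u => chkO1 tab orb u) u = true := ext_range (a := 182840) (len := 280) h653 o1_653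
  have h655 : ∀ u < 183400, (fun u => chkO1 tab orb u) u = true := ext_range (a := 183120) (len := 280) h654 o1_654
  have h656 : ∀ u < 183680, (fun u => chkO1 tab orb u) u = true := ext_range (a := 183400) (len := 280) h655 o1_655
  have h657 : ∀ u < 183960, (fun u => chkO1 tab orb u) u = true := ext_range (a := 183680) (len := 280) h656 o1_656
  have h658 : ∀ u < 184240, (fun u => chkO1 tab orb u) u = true := ext_range (a := 183960) (len := 280) h657 o1_657
  have h659 : ∀ u < 184520, (fun u => chkO1 tab orb u) u = true := ext_range (a := 184240) (len := 280) h658 o1_658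
  have h660 : ∀ u < 184800, (fun u => chkO1 tab orb u) u = true := ext_range (a := 184520) (len := 280) h659 o1_659
  have h661 : ∀ u < 185080, (fun u => chkO1 tab orb u) u = true := ext_range (a := 184800) (len := 280) h660 o1_660
  have h662 : ∀ u < 185360, (fun u => chkO1 tab orb u) u = true := ext_range (a := 185080) (len := 280) h661 o1_661
  have h663 : ∀ u < 185640, (fun u => chkO1 tab orb u) u = true := ext_range (a := 185360) (len := 280) h662 o1_662
  have h664 : ∀ u < 185920, (fun u => chkO1 tab orb u) u = true := ext_range (a := 185640) (len := 280) h663 o1_663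
  have h665 : ∀ u < 186200, (fun u => chkO1 tab orb u) u = true := ext_range (a := 185920) (len := 280) h664 o1_664
  have h666 : ∀ u < 186480, (fun u => chkO1 tab orb u) u = true := ext_range (a := 186200) (len := 280) h665 o1_665
  have h667 : ∀ u < 186760, (fun u => chkO1 tab orb u) u = true := ext_range (a := 186480) (len := 280) h666 o1_666
  have h668 : ∀ u < 187040, (fun u => chkO1 tab orb u) u = true := ext_range (a := 186760) (len := 280) h667 o1_667
  have h669 : ∀ u < 187320, (fun u => chkO1 tab orb u) u = true := ext_range (a := 187040) (len := 280) h668 o1_668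
  have h670 : ∀ u < 187600, (fun u => chkO1 tab orb u) u = true := ext_range (a := 187320) (len := 280) h669 o1_669
  have h671 : ∀ u < 187880, (fun u => chkO1 tab orb u) u = true := ext_range (a := 187600) (len := 280) h670 o1_670
  have h672 : ∀ u < 188160, (fun u => chkO1 tab orb u) u = true := ext_range (a := 187880) (len := 280) h671 o1_671
  have h673 : ∀ u < 188440, (fun u => chkO1 tab orb u) u = true := ext_range (a := 188160) (len := 280) h672 o1_672
  have h674 : ∀ u < 188720, (fun u => chkO1 tab orb u) u = true := ext_range (a := 188440) (len := 280) h673 o1_673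
  have h675 : ∀ u < 189000, (fun u => chkO1 tab orb u) u = true := ext_range (a := 188720) (len := 280) h674 o1_674
  have h676 : ∀ u < 189280, (fun u => chkO1 tab orb u) u = true := ext_range (a := 189000) (len := 280) h675 o1_675
  have h677 : ∀ u < 189560, (fun u => chkO1 tab orb u) u = true := ext_range (a := 189280) (len := 280) h676 o1_676
  have h678 : ∀ u < 189840, (fun u => chkO1 tab orb u) u = true := ext_range (a := 189560) (len := 280) h677 o1_677
  have h679 : ∀ u < 190120, (fun u => chkO1 tab orb u) u = true := ext_range (a := 189840) (len := 280) h678 o1_678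
  have h680 : ∀ u < 190400, (fun u => chkO1 tab orb u) u = true := ext_range (a := 190120) (len := 280) h679 o1_679
  have h681 : ∀ u < 190680, (fun u => chkO1 tab orb u) u = true := ext_range (a := 190400) (len := 280) h680 o1_680
  have h682 : ∀ u < 190960, (fun u => chkO1 tab orb u) u = true := ext_range (a := 190680) (len := 280) h681 o1_681
  have h683 : ∀ u < 191240, (fun u => chkO1 tab orb u) u = true := ext_range (a := 190960) (len := 280) h682 o1_682
  have h684 : ∀ u < 191520, (fun u => chkO1 tab orb u) u = true := ext_range (a := 191240) (len := 280) h683 o1_683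
  have h685 : ∀ u < 191800, (fun u => chkO1 tab orb u) u = true := ext_range (a := 191520) (len := 280) h684 o1_684
  have h686 : ∀ u < 192080, (fun u => chkO1 tab orb u) u = true := ext_range (a := 191800) (len := 280) h685 o1_685
  have h687 : ∀ u < 192360, (fun u => chkO1 tab orb u) u = true := ext_range (a := 192080) (len := 280) h686 o1_686
  have h688 : ∀ u < 192640, (fun u => chkO1 tab orb u) u = true := ext_range (a := 192360) (len := 280) h687 o1_687
  have h689 : ∀ u < 192920, (fun u => chkO1 tab orb u) u = true := ext_range (a := 192640) (len := 280) h688 o1_688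
  have h690 : ∀ u < 193200, (fun u => chkO1 tab orb u) u = true := ext_range (a := 192920) (len := 280) h689 o1_689
  have h691 : ∀ u < 193480, (fun u => chkO1 tab orb u) u = true := ext_range (a := 193200) (len := 280) h690 o1_690
  have h692 : ∀ u < 193760, (fun u => chkO1 tab orb u) u = true := ext_range (a := 193480) (len := 280) h691 o1_691
  have h693 : ∀ u < 194040, (fun u => chkO1 tab orb u) u = true := ext_range (a := 193760) (len := 280) h692 o1_692
  have h694 : ∀ u < 194320, (fun u => chkO1 tab orb u) u = true := ext_range (a := 194040) (len := 280) h693 o1_693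
  have h695 : ∀ u < 194600, (fun u => chkO1 tab orb u) u = true := ext_range (a := 194320) (len := 280) h694 o1_694
  have h696 : ∀ u < 194880, (fun u => chkO1 tab orb u) u = true := ext_range (a := 194600) (len := 280) h695 o1_695
  have h697 : ∀ u < 195160, (fun u => chkO1 tab orb u) u = true := ext_range (a := 194880) (len := 280) h696 o1_696
  have h698 : ∀ u < 195440, (fun u => chkO1 tab orb u) u = true := ext_range (a := 195160) (len := 280) h697 o1_697
  have h699 : ∀ u < 195720, (fun u => chkO1 tab orb u) u = true := ext_range (a := 195440) (len := 280) h698 o1_698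
  have h700 : ∀ u < 196000, (fun u => chkO1 tab orb u) u = true := ext_range (a := 195720) (len := 280) h699 o1_699
  have h701 : ∀ u < 196280, (fun u => chkO1 tab orb u) u = true := ext_range (a := 196000) (len := 280) h700 o1_700
  have h702 : ∀ u < 196560, (fun u => chkO1 tab orb u) u = true := ext_range (a := 196280) (len := 280) h701 o1_701
  have h703 : ∀ u < 196840, (fun u => chkO1 tab orb u) u = true := ext_range (a := 196560) (len := 280) h702 o1_702
  have h704 : ∀ u < 197120, (fun u => chkO1 tab orb u) u = true := ext_range (a := 196840) (len := 280) h703 o1_703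
  have h705 : ∀ u < 197400, (fun u => chkO1 tab orb u) u = true := ext_range (a := 197120) (len := 280) h704 o1_704
  have h706 : ∀ u < 197680, (fun u => chkO1 tab orb u) u = true := ext_range (a := 197400) (len := 280) h705 o1_705
  have h707 : ∀ u < 197960, (fun u => chkO1 tab orb u) u = true := ext_range (a := 197680) (len := 280) h706 o1_706
  have h708 : ∀ u < 198240, (fun u => chkO1 tab orb u) u = true := ext_range (a := 197960) (len := 280) h707 o1_707
  have h709 : ∀ u < 198520, (fun u => chkO1 tab orb u) u = true := ext_range (a := 198240) (len := 280) h708 o1_708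
  have h710 : ∀ u < 198800, (fun u => chkO1 tab orb u) u = true := ext_range (a := 198520) (len := 280) h709 o1_709
  have h711 : ∀ u < 199080, (fun u => chkO1 tab orb u) u = true := ext_range (a := 198800) (len := 280) h710 o1_710
  have h712 : ∀ u < 199360, (fun u => chkO1 tab orb u) u = true := ext_range (a := 199080) (len := 280) h711 o1_711
  have h713 : ∀ u < 199640, (fun u => chkO1 tab orb u) u = true := ext_range (a := 199360) (len := 280) h712 o1_712
  have h714 : ∀ u < 199920, (fun u => chkO1 tab orb u) u = true := ext_range (a := 199640) (len := 280) h713 o1_713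
  have h715 : ∀ u < 200200, (fun u => chkO1 tab orb u) u = true := ext_range (a := 199920) (len := 280) h714 o1_714
  have h716 : ∀ u < 200480, (fun u => chkO1 tab orb u) u = true := ext_range (a := 200200) (len := 280) h715 o1_715
  have h717 : ∀ u < 200760, (fun u => chkO1 tab orb u) u = true := ext_range (a := 200480) (len := 280) h716 o1_716
  have h718 : ∀ u < 201040, (fun u => chkO1 tab orb u) u = true := ext_range (a := 200760) (len := 280) h717 o1_717
  have h719 : ∀ u < 201320, (fun u => chkO1 tab orb u) u = true := ext_range (a := 201040) (len := 280) h718 o1_718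
  have h720 : ∀ u < 201600, (fun u => chkO1 tab orb u) u = true := ext_range (a := 201320) (len := 280) h719 o1_719
  have h721 : ∀ u < 201880, (fun u => chkO1 tab orb u) u = true := ext_range (a := 201600) (len := 280) h720 o1_720
  have h722 : ∀ u < 202160, (fun u => chkO1 tab orb u) u = true := ext_range (a := 201880) (len := 280) h721 o1_721
  have h723 : ∀ u < 202440, (fun u => chkO1 tab orb u) u = true := ext_range (a := 202160) (len := 280) h722 o1_722
  have h724 : ∀ u < 202720, (fun u => chkO1 tab orb u) u = true := ext_range (a := 202440) (len := 280) h723 o1_723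
  have h725 : ∀ u < 203000, (fun u => chkO1 tab orb u) u = true := ext_range (a := 202720) (len := 280) h724 o1_724
  have h726 : ∀ u < 203280, (fun u => chkO1 tab orb u) u = true := ext_range (a := 203000) (len := 280) h725 o1_725
  have h727 : ∀ u < 203560, (fun u => chkO1 tab orb u) u = true := ext_range (a := 203280) (len := 280) h726 o1_726
  have h728 : ∀ u < 203840, (fun u => chkO1 tab orb u) u = true := ext_range (a := 203560) (len := 280) h727 o1_727
  have h729 : ∀ u < 204120, (fun u => chkO1 tab orb u) u = true := ext_range (a := 203840) (len := 280) h728 o1_728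
  have h730 : ∀ u < 204400, (fun u => chkO1 tab orb u) u = true := ext_range (a := 204120) (len := 280) h729 o1_729
  have h731 : ∀ u < 204680, (fun u => chkO1 tab orb u) u = true := ext_range (a := 204400) (len := 280) h730 o1_730
  have h732 : ∀ u < 204960, (fun u => chkO1 tab orb u) u = true := ext_range (a := 204680) (len := 280) h731 o1_731
  have h733 : ∀ u < 205240, (fun u => chkO1 tab orb u) u = true := ext_range (a := 204960) (len := 280) h732 o1_732
  have h734 : ∀ u < 205520, (fun u => chkO1 tab orb u) u = true := ext_range (a := 205240) (len := 280) h733 o1_733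
  have h735 : ∀ u < 205800, (fun u => chkO1 tab orb u) u = true := ext_range (a := 205520) (len := 280) h734 o1_734
  have h736 : ∀ u < 206080, (fun u => chkO1 tab orb u) u = true := ext_range (a := 205800) (len := 280) h735 o1_735
  have h737 : ∀ u < 206360, (fun u => chkO1 tab orb u) u = true := ext_range (a := 206080) (len := 280) h736 o1_736
  have h738 : ∀ u < 206640, (fun u => chkO1 tab orb u) u = true := ext_range (a := 206360) (len := 280) h737 o1_737
  have h739 : ∀ u < 206920, (fun u => chkO1 tab orb u) u = true := ext_range (a := 206640) (len := 280) h738 o1_738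
  have h740 : ∀ u < 207200, (fun u => chkO1 tab orb u) u = true := ext_range (a := 206920) (len := 280) h739 o1_739
  have h741 : ∀ u < 207480, (fun u => chkO1 tab orb u) u = true := ext_range (a := 207200) (len := 280) h740 o1_740
  have h742 : ∀ u < 207760, (fun u => chkO1 tab orb u) u = true := ext_range (a := 207480) (len := 280) h741 o1_741
  have h743 : ∀ u < 208040, (fun u => chkO1 tab orb u) u = true := ext_range (a := 207760) (len := 280) h742 o1_742
  have h744 : ∀ u < 208320, (fun u => chkO1 tab orb u) u = true := ext_range (a := 208040) (len := 280) h743 o1_743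
  have h745 : ∀ u < 208600, (fun u => chkO1 tab orb u) u = true := ext_range (a := 208320) (len := 280) h744 o1_744
  have h746 : ∀ u < 208880, (fun u => chkO1 tab orb u) u = true := ext_range (a := 208600) (len := 280) h745 o1_745
  have h747 : ∀ u < 209160, (fun u => chkO1 tab orb u) u = true := ext_range (a := 208880) (len := 280) h746 o1_746
  have h748 : ∀ u < 209440, (fun u => chkO1 tab orb u) u = true := ext_range (a := 209160) (len := 280) h747 o1_747
  have h749 : ∀ u < 209720, (fun u => chkO1 tab orb u) u = true := ext_range (a := 209440) (len := 280) h748 o1_748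
  have h750 : ∀ u < 210000, (fun u => chkO1 tab orb u) u = true := ext_range (a := 209720) (len := 280) h749 o1_749
  have h751 : ∀ u < 210280, (fun u => chkO1 tab orb u) u = true := ext_range (a := 210000) (len := 280) h750 o1_750
  have h752 : ∀ u < 210560, (fun u => chkO1 tab orb u) u = true := ext_range (a := 210280) (len := 280) h751 o1_751
  have h753 : ∀ u < 210840, (fun u => chkO1 tab orb u) u = true := ext_range (a := 210560) (len := 280) h752 o1_752
  have h754 : ∀ u < 211120, (fun u => chkO1 tab orb u) u = true := ext_range (a := 210840) (len := 280) h753 o1_753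
  have h755 : ∀ u < 211400, (fun u => chkO1 tab orb u) u = true := ext_range (a := 211120) (len := 280) h754 o1_754
  have h756 : ∀ u < 211680, (fun u => chkO1 tab orb u) u = true := ext_range (a := 211400) (len := 280) h755 o1_755
  have h757 : ∀ u < 211960, (fun u => chkO1 tab orb u) u = true := ext_range (a := 211680) (len := 280) h756 o1_756
  have h758 : ∀ u < 212240, (fun u => chkO1 tab orb u) u = true := ext_range (a := 211960) (len := 280) h757 o1_757
  have h759 : ∀ u < 212520, (fun u => chkO1 tab orb u) u = true := ext_range (a := 212240) (len := 280) h758 o1_758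
  have h760 : ∀ u < 212800, (fun u => chkO1 tab orb u) u = true := ext_range (a := 212520) (len := 280) h759 o1_759
  have h761 : ∀ u < 213080, (fun u => chkO1 tab orb u) u = true := ext_range (a := 212800) (len := 280) h760 o1_760
  have h762 : ∀ u < 213360, (fun u => chkO1 tab orb u) u = true := ext_range (a := 213080) (len := 280) h761 o1_761
  have h763 : ∀ u < 213640, (fun u => chkO1 tab orb u) u = true := ext_range (a := 213360) (len := 280) h762 o1_762
  have h764 : ∀ u < 213920, (fun u => chkO1 tab orb u) u = true := ext_range (a := 213640) (len := 280) h763 o1_763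
  have h765 : ∀ u < 214200, (fun u => chkO1 tab orb u) u = true := ext_range (a := 213920) (len := 280) h764 o1_764
  have h766 : ∀ u < 214480, (fun u => chkO1 tab orb u) u = true := ext_range (a := 214200) (len := 280) h765 o1_765
  have h767 : ∀ u < 214760, (fun u => chkO1 tab orb u) u = true := ext_range (a := 214480) (len := 280) h766 o1_766
  have h768 : ∀ u < 215040, (fun u => chkO1 tab orb u) u = true := ext_range (a := 214760) (len := 280) h767 o1_767
  have h769 : ∀ u < 215320, (fun u => chkO1 tab orb u) u = true := ext_range (a := 215040) (len := 280) h768 o1_768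
  have h770 : ∀ u < 215600, (fun u => chkO1 tab orb u) u = true := ext_range (a := 215320) (len := 280) h769 o1_769
  have h771 : ∀ u < 215880, (fun u => chkO1 tab orb u) u = true := ext_range (a := 215600) (len := 280) h770 o1_770
  have h772 : ∀ u < 216160, (fun u => chkO1 tab orb u) u = true := ext_range (a := 215880) (len := 280) h771 o1_771
  have h773 : ∀ u < 216440, (fun u => chkO1 tab orb u) u = true := ext_range (a := 216160) (len := 280) h772 o1_772
  have h774 : ∀ u < 216720, (fun u => chkO1 tab orb u) u = true := ext_range (a := 216440) (len := 280) h773 o1_773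
  have h775 : ∀ u < 217000, (fun u => chkO1 tab orb u) u = true := ext_range (a := 216720) (len := 280) h774 o1_774
  have h776 : ∀ u < 217280, (fun u => chkO1 tab orb u) u = true := ext_range (a := 217000) (len := 280) h775 o1_775
  have h777 : ∀ u < 217560, (fun u => chkO1 tab orb u) u = true := ext_range (a := 217280) (len := 280) h776 o1_776
  have h778 : ∀ u < 217840, (fun u => chkO1 tab orb u) u = true := ext_range (a := 217560) (len := 280) h777 o1_777
  have h779 : ∀ u < 218120, (fun u => chkO1 tab orb u) u = true := ext_range (a := 217840) (len := 280) h778 o1_778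
  have h780 : ∀ u < 218400, (fun u => chkO1 tab orb u) u = true := ext_range (a := 218120) (len := 280) h779 o1_779
  have h781 : ∀ u < 218680, (fun u => chkO1 tab orb u) u = true := ext_range (a := 218400) (len := 280) h780 o1_780
  have h782 : ∀ u < 218960, (fun u => chkO1 tab orb u) u = true := ext_range (a := 218680) (len := 280) h781 o1_781
  have h783 : ∀ u < 219240, (fun u => chkO1 tab orb u) u = true := ext_range (a := 218960) (len := 280) h782 o1_782
  have h784 : ∀ u < 219520, (fun u => chkO1 tab orb u) u = true := ext_range (a := 219240) (len := 280) h783 o1_783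
  have h785 : ∀ u < 219800, (fun u => chkO1 tab orb u) u = true := ext_range (a := 219520) (len := 280) h784 o1_784
  have h786 : ∀ u < 220080, (fun u => chkO1 tab orb u) u = true := ext_range (a := 219800) (len := 280) h785 o1_785
  have h787 : ∀ u < 220360, (fun u => chkO1 tab orb u) u = true := ext_range (a := 220080) (len := 280) h786 o1_786
  have h788 : ∀ u < 220640, (fun u => chkO1 tab orb u) u = true := ext_range (a := 220360) (len := 280) h787 o1_787
  have h789 : ∀ u < 220920, (fun u => chkO1 tab orb u) u = true := ext_range (a := 220640) (len := 280) h788 o1_788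
  have h790 : ∀ u < 221200, (fun u => chkO1 tab orb u) u = true := ext_range (a := 220920) (len := 280) h789 o1_789
  have h791 : ∀ u < 221480, (fun u => chkO1 tab orb u) u = true := ext_range (a := 221200) (len := 280) h790 o1_790
  have h792 : ∀ u < 221760, (fun u => chkO1 tab orb u) u = true := ext_range (a := 221480) (len := 280) h791 o1_791
  have h793 : ∀ u < 222040, (fun u => chkO1 tab orb u) u = true := ext_range (a := 221760) (len := 280) h792 o1_792
  have h794 : ∀ u < 222320, (fun u => chkO1 tab orb u) u = true := ext_range (a := 222040) (len := 280) h793 o1_793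
  have h795 : ∀ u < 222600, (fun u => chkO1 tab orb u) u = true := ext_range (a := 222320) (len := 280) h794 o1_794
  have h796 : ∀ u < 222880, (fun u => chkO1 tab orb u) u = true := ext_range (a := 222600) (len := 280) h795 o1_795
  have h797 : ∀ u < 223160, (fun u => chkO1 tab orb u) u = true := ext_range (a := 222880) (len := 280) h796 o1_796
  have h798 : ∀ u < 223440, (fun u => chkO1 tab orb u) u = true := ext_range (a := 223160) (len := 280) h797 o1_797
  have h799 : ∀ u < 223720, (fun u => chkO1 tab orb u) u = true := ext_range (a := 223440) (len := 280) h798 o1_798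
  have h800 : ∀ u < 224000, (fun u => chkO1 tab orb u) u = true := ext_range (a := 223720) (len := 280) h799 o1_799
  have h801 : ∀ u < 224280, (fun u => chkO1 tab orb u) u = true := ext_range (a := 224000) (len := 280) h800 o1_800
  have h802 : ∀ u < 224560, (fun u => chkO1 tab orb u) u = true := ext_range (a := 224280) (len := 280) h801 o1_801
  have h803 : ∀ u < 224840, (fun u => chkO1 tab orb u) u = true := ext_range (a := 224560) (len := 280) h802 o1_802
  have h804 : ∀ u < 225120, (fun u => chkO1 tab orb u) u = true := ext_range (a := 224840) (len := 280) h803 o1_803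
  have h805 : ∀ u < 225400, (fun u => chkO1 tab orb u) u = true := ext_range (a := 225120) (len := 280) h804 o1_804
  have h806 : ∀ u < 225680, (fun u => chkO1 tab orb u) u = true := ext_range (a := 225400) (len := 280) h805 o1_805
  have h807 : ∀ u < 225960, (fun u => chkO1 tab orb u) u = true := ext_range (a := 225680) (len := 280) h806 o1_806
  have h808 : ∀ u < 226240, (fun u => chkO1 tab orb u) u = true := ext_range (a := 225960) (len := 280) h807 o1_807
  have h809 : ∀ u < 226520, (fun u => chkO1 tab orb u) u = true := ext_range (a := 226240) (len := 280) h808 o1_808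
  have h810 : ∀ u < 226800, (fun u => chkO1 tab orb u) u = true := ext_range (a := 226520) (len := 280) h809 o1_809
  have h811 : ∀ u < 227080, (fun u => chkO1 tab orb u) u = true := ext_range (a := 226800) (len := 280) h810 o1_810
  have h812 : ∀ u < 227360, (fun u => chkO1 tab orb u) u = true := ext_range (a := 227080) (len := 280) h811 o1_811
  have h813 : ∀ u < 227640, (fun u => chkO1 tab orb u) u = true := ext_range (a := 227360) (len := 280) h812 o1_812
  have h814 : ∀ u < 227920, (fun u => chkO1 tab orb u) u = true := ext_range (a := 227640) (len := 280) h813 o1_813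
  have h815 : ∀ u < 228200, (fun u => chkO1 tab orb u) u = true := ext_range (a := 227920) (len := 280) h814 o1_814
  have h816 : ∀ u < 228480, (fun u => chkO1 tab orb u) u = true := ext_range (a := 228200) (len := 280) h815 o1_815
  have h817 : ∀ u < 228760, (fun u => chkO1 tab orb u) u = true := ext_range (a := 228480) (len := 280) h816 o1_816
  have h818 : ∀ u < 229040, (fun u => chkO1 tab orb u) u = true := ext_range (a := 228760) (len := 280) h817 o1_817
  have h819 : ∀ u < 229320, (fun u => chkO1 tab orb u) u = true := ext_range (a := 229040) (len := 280) h818 o1_818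
  have h820 : ∀ u < 229600, (fun u => chkO1 tab orb u) u = true := ext_range (a := 229320) (len := 280) h819 o1_819
  have h821 : ∀ u < 229880, (fun u => chkO1 tab orb u) u = true := ext_range (a := 229600) (len := 280) h820 o1_820
  have h822 : ∀ u < 230160, (fun u => chkO1 tab orb u) u = true := ext_range (a := 229880) (len := 280) h821 o1_821
  have h823 : ∀ u < 230440, (fun u => chkO1 tab orb u) u = true := ext_range (a := 230160) (len := 280) h822 o1_822
  have h824 : ∀ u < 230720, (fun u => chkO1 tab orb u) u = true := ext_range (a := 230440) (len := 280) h823 o1_823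
  have h825 : ∀ u < 231000, (fun u => chkO1 tab orb u) u = true := ext_range (a := 230720) (len := 280) h824 o1_824
  have h826 : ∀ u < 231280, (fun u => chkO1 tab orb u) u = true := ext_range (a := 231000) (len := 280) h825 o1_825
  have h827 : ∀ u < 231560, (fun u => chkO1 tab orb u) u = true := ext_range (a := 231280) (len := 280) h826 o1_826
  have h828 : ∀ u < 231840, (fun u => chkO1 tab orb u) u = true := ext_range (a := 231560) (len := 280) h827 o1_827
  have h829 : ∀ u < 232120, (fun u => chkO1 tab orb u) u = true := ext_range (a := 231840) (len := 280) h828 o1_828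
  have h830 : ∀ u < 232400, (fun u => chkO1 tab orb u) u = true := ext_range (a := 232120) (len := 280) h829 o1_829
  have h831 : ∀ u < 232680, (fun u => chkO1 tab orb u) u = true := ext_range (a := 232400) (len := 280) h830 o1_830
  have h832 : ∀ u < 232960, (fun u => chkO1 tab orb u) u = true := ext_range (a := 232680) (len := 280) h831 o1_831
  have h833 : ∀ u < 233240, (fun u => chkO1 tab orb u) u = true := ext_range (a := 232960) (len := 280) h832 o1_832
  have h834 : ∀ u < 233520, (fun u => chkO1 tab orb u) u = true := ext_range (a := 233240) (len := 280) h833 o1_833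
  have h835 : ∀ u < 233800, (fun u => chkO1 tab orb u) u = true := ext_range (a := 233520) (len := 280) h834 o1_834
  have h836 : ∀ u < 234080, (fun u => chkO1 tab orb u) u = true := ext_range (a := 233800) (len := 280) h835 o1_835
  have h837 : ∀ u < 234360, (fun u => chkO1 tab orb u) u = true := ext_range (a := 234080) (len := 280) h836 o1_836
  have h838 : ∀ u < 234640, (fun u => chkO1 tab orb u) u = true := ext_range (a := 234360) (len := 280) h837 o1_837
  have h839 : ∀ u < 234920, (fun u => chkO1 tab orb u) u = true := ext_range (a := 234640) (len := 280) h838 o1_838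
  have h840 : ∀ u < 235200, (fun u => chkO1 tab orb u) u = true := ext_range (a := 234920) (len := 280) h839 o1_839
  have h841 : ∀ u < 235480, (fun u => chkO1 tab orb u) u = true := ext_range (a := 235200) (len := 280) h840 o1_840
  have h842 : ∀ u < 235760, (fun u => chkO1 tab orb u) u = true := ext_range (a := 235480) (len := 280) h841 o1_841
  have h843 : ∀ u < 236040, (fun u => chkO1 tab orb u) u = true := ext_range (a := 235760) (len := 280) h842 o1_842
  have h844 : ∀ u < 236320, (fun u => chkO1 tab orb u) u = true := ext_range (a := 236040) (len := 280) h843 o1_843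
  have h845 : ∀ u < 236600, (fun u => chkO1 tab orb u) u = true := ext_range (a := 236320) (len := 280) h844 o1_844
  have h846 : ∀ u < 236880, (fun u => chkO1 tab orb u) u = true := ext_range (a := 236600) (len := 280) h845 o1_845
  have h847 : ∀ u < 237160, (fun u => chkO1 tab orb u) u = true := ext_range (a := 236880) (len := 280) h846 o1_846
  have h848 : ∀ u < 237440, (fun u => chkO1 tab orb u) u = true := ext_range (a := 237160) (len := 280) h847 o1_847
  have h849 : ∀ u < 237720, (fun u => chkO1 tab orb u) u = true := ext_range (a := 237440) (len := 280) h848 o1_848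
  have h850 : ∀ u < 238000, (fun u => chkO1 tab orb u) u = true := ext_range (a := 237720) (len := 280) h849 o1_849
  have h851 : ∀ u < 238280, (fun u => chkO1 tab orb u) u = true := ext_range (a := 238000) (len := 280) h850 o1_850
  have h852 : ∀ u < 238560, (fun u => chkO1 tab orb u) u = true := ext_range (a := 238280) (len := 280) h851 o1_851
  have h853 : ∀ u < 238840, (fun u => chkO1 tab orb u) u = true := ext_range (a := 238560) (len := 280) h852 o1_852
  have h854 : ∀ u < 239120, (fun u => chkO1 tab orb u) u = true := ext_range (a := 238840) (len := 280) h853 o1_853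
  have h855 : ∀ u < 239400, (fun u => chkO1 tab orb u) u = true := ext_range (a := 239120) (len := 280) h854 o1_854
  have h856 : ∀ u < 239680, (fun u => chkO1 tab orb u) u = true := ext_range (a := 239400) (len := 280) h855 o1_855
  have h857 : ∀ u < 239960, (fun u => chkO1 tab orb u) u = true := ext_range (a := 239680) (len := 280) h856 o1_856
  have h858 : ∀ u < 240240, (fun u => chkO1 tab orb u) u = true := ext_range (a := 239960) (len := 280) h857 o1_857
  have h859 : ∀ u < 240520, (fun u => chkO1 tab orb u) u = true := ext_range (a := 240240) (len := 280) h858 o1_858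
  have h860 : ∀ u < 240800, (fun u => chkO1 tab orb u) u = true := ext_range (a := 240520) (len := 280) h859 o1_859
  have h861 : ∀ u < 241080, (fun u => chkO1 tab orb u) u = true := ext_range (a := 240800) (len := 280) h860 o1_860
  have h862 : ∀ u < 241360, (fun u => chkO1 tab orb u) u = true := ext_range (a := 241080) (len := 280) h861 o1_861
  have h863 : ∀ u < 241640, (fun u => chkO1 tab orb u) u = true := ext_range (a := 241360) (len := 280) h862 o1_862
  have h864 : ∀ u < 241920, (fun u => chkO1 tab orb u) u = true := ext_range (a := 241640) (len := 280) h863 o1_863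
  have h865 : ∀ u < 242200, (fun u => chkO1 tab orb u) u = true := ext_range (a := 241920) (len := 280) h864 o1_864
  have h866 : ∀ u < 242480, (fun u => chkO1 tab orb u) u = true := ext_range (a := 242200) (len := 280) h865 o1_865
  have h867 : ∀ u < 242760, (fun u => chkO1 tab orb u) u = true := ext_range (a := 242480) (len := 280) h866 o1_866
  have h868 : ∀ u < 243040, (fun u => chkO1 tab orb u) u = true := ext_range (a := 242760) (len := 280) h867 o1_867
  have h869 : ∀ u < 243320, (fun u => chkO1 tab orb u) u = true := ext_range (a := 243040) (len := 280) h868 o1_868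
  have h870 : ∀ u < 243600, (fun u => chkO1 tab orb u) u = true := ext_range (a := 243320) (len := 280) h869 o1_869
  have h871 : ∀ u < 243880, (fun u => chkO1 tab orb u) u = true := ext_range (a := 243600) (len := 280) h870 o1_870
  have h872 : ∀ u < 244160, (fun u => chkO1 tab orb u) u = true := ext_range (a := 243880) (len := 280) h871 o1_871
  have h873 : ∀ u < 244440, (fun u => chkO1 tab orb u) u = true := ext_range (a := 244160) (len := 280) h872 o1_872
  have h874 : ∀ u < 244720, (fun u => chkO1 tab orb u) u = true := ext_range (a := 244440) (len := 280) h873 o1_873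
  have h875 : ∀ u < 245000, (fun u => chkO1 tab orb u) u = true := ext_range (a := 244720) (len := 280) h874 o1_874
  have h876 : ∀ u < 245280, (fun u => chkO1 tab orb u) u = true := ext_range (a := 245000) (len := 280) h875 o1_875
  have h877 : ∀ u < 245560, (fun u => chkO1 tab orb u) u = true := ext_range (a := 245280) (len := 280) h876 o1_876
  have h878 : ∀ u < 245840, (fun u => chkO1 tab orb u) u = true := ext_range (a := 245560) (len := 280) h877 o1_877
  have h879 : ∀ u < 246120, (fun u => chkO1 tab orb u) u = true := ext_range (a := 245840) (len := 280) h878 o1_878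
  have h880 : ∀ u < 246400, (fun u => chkO1 tab orb u) u = true := ext_range (a := 246120) (len := 280) h879 o1_879
  have h881 : ∀ u < 246680, (fun u => chkO1 tab orb u) u = true := ext_range (a := 246400) (len := 280) h880 o1_880
  have h882 : ∀ u < 246960, (fun u => chkO1 tab orb u) u = true := ext_range (a := 246680) (len := 280) h881 o1_881
  have h883 : ∀ u < 247240, (fun u => chkO1 tab orb u) u = true := ext_range (a := 246960) (len := 280) h882 o1_882
  have h884 : ∀ u < 247520, (fun u => chkO1 tab orb u) u = true := ext_range (a := 247240) (len := 280) h883 o1_883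
  have h885 : ∀ u < 247800, (fun u => chkO1 tab orb u) u = true := ext_range (a := 247520) (len := 280) h884 o1_884
  have h886 : ∀ u < 248080, (fun u => chkO1 tab orb u) u = true := ext_range (a := 247800) (len := 280) h885 o1_885
  have h887 : ∀ u < 248360, (fun u => chkO1 tab orb u) u = true := ext_range (a := 248080) (len := 280) h886 o1_886
  have h888 : ∀ u < 248640, (fun u => chkO1 tab orb u) u = true := ext_range (a := 248360) (len := 280) h887 o1_887
  have h889 : ∀ u < 248920, (fun u => chkO1 tab orb u) u = true := ext_range (a := 248640) (len := 280) h888 o1_888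
  have h890 : ∀ u < 249200, (fun u => chkO1 tab orb u) u = true := ext_range (a := 248920) (len := 280) h889 o1_889
  have h891 : ∀ u < 249480, (fun u => chkO1 tab orb u) u = true := ext_range (a := 249200) (len := 280) h890 o1_890
  have h892 : ∀ u < 249760, (fun u => chkO1 tab orb u) u = true := ext_range (a := 249480) (len := 280) h891 o1_891
  have h893 : ∀ u < 250040, (fun u => chkO1 tab orb u) u = true := ext_range (a := 249760) (len := 280) h892 o1_892
  have h894 : ∀ u < 250320, (fun u => chkO1 tab orb u) u = true := ext_range (a := 250040) (len := 280) h893 o1_893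
  have h895 : ∀ u < 250600, (fun u => chkO1 tab orb u) u = true := ext_range (a := 250320) (len := 280) h894 o1_894
  have h896 : ∀ u < 250880, (fun u => chkO1 tab orb u) u = true := ext_range (a := 250600) (len := 280) h895 o1_895
  have h897 : ∀ u < 251160, (fun u => chkO1 tab orb u) u = true := ext_range (a := 250880) (len := 280) h896 o1_896
  have h898 : ∀ u < 251440, (fun u => chkO1 tab orb u) u = true := ext_range (a := 251160) (len := 280) h897 o1_897
  have h899 : ∀ u < 251720, (fun u => chkO1 tab orb u) u = true := ext_range (a := 251440) (len := 280) h898 o1_898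
  have h900 : ∀ u < 252000, (fun u => chkO1 tab orb u) u = true := ext_range (a := 251720) (len := 280) h899 o1_899
  have h901 : ∀ u < 252280, (fun u => chkO1 tab orb u) u = true := ext_range (a := 252000) (len := 280) h900 o1_900
  have h902 : ∀ u < 252560, (fun u => chkO1 tab orb u) u = true := ext_range (a := 252280) (len := 280) h901 o1_901
  have h903 : ∀ u < 252840, (fun u => chkO1 tab orb u) u = true := ext_range (a := 252560) (len := 280) h902 o1_902
  have h904 : ∀ u < 253120, (fun u => chkO1 tab orb u) u = true := ext_range (a := 252840) (len := 280) h903 o1_903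
  have h905 : ∀ u < 253400, (fun u => chkO1 tab orb u) u = true := ext_range (a := 253120) (len := 280) h904 o1_904
  have h906 : ∀ u < 253680, (fun u => chkO1 tab orb u) u = true := ext_range (a := 253400) (len := 280) h905 o1_905
  have h907 : ∀ u < 253960, (fun u => chkO1 tab orb u) u = true := ext_range (a := 253680) (len := 280) h906 o1_906
  have h908 : ∀ u < 254240, (fun u => chkO1 tab orb u) u = true := ext_range (a := 253960) (len := 280) h907 o1_907
  have h909 : ∀ u < 254520, (fun u => chkO1 tab orb u) u = true := ext_range (a := 254240) (len := 280) h908 o1_908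
  have h910 : ∀ u < 254800, (fun u => chkO1 tab orb u) u = true := ext_range (a := 254520) (len := 280) h909 o1_909
  have h911 : ∀ u < 255080, (fun u => chkO1 tab orb u) u = true := ext_range (a := 254800) (len := 280) h910 o1_910
  have h912 : ∀ u < 255360, (fun u => chkO1 tab orb u) u = true := ext_range (a := 255080) (len := 280) h911 o1_911
  have h913 : ∀ u < 255640, (fun u => chkO1 tab orb u) u = true := ext_range (a := 255360) (len := 280) h912 o1_912
  have h914 : ∀ u < 255920, (fun u => chkO1 tab orb u) u = true := ext_range (a := 255640) (len := 280) h913 o1_913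
  have h915 : ∀ u < 256200, (fun u => chkO1 tab orb u) u = true := ext_range (a := 255920) (len := 280) h914 o1_914
  have h916 : ∀ u < 256480, (fun u => chkO1 tab orb u) u = true := ext_range (a := 256200) (len := 280) h915 o1_915
  have h917 : ∀ u < 256760, (fun u => chkO1 tab orb u) u = true := ext_range (a := 256480) (len := 280) h916 o1_916
  have h918 : ∀ u < 257040, (fun u => chkO1 tab orb u) u = true := ext_range (a := 256760) (len := 280) h917 o1_917
  have h919 : ∀ u < 257320, (fun u => chkO1 tab orb u) u = true := ext_range (a := 257040) (len := 280) h918 o1_918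
  have h920 : ∀ u < 257600, (fun u => chkO1 tab orb u) u = true := ext_range (a := 257320) (len := 280) h919 o1_919
  have h921 : ∀ u < 257880, (fun u => chkO1 tab orb u) u = true := ext_range (a := 257600) (len := 280) h920 o1_920
  have h922 : ∀ u < 258160, (fun u => chkO1 tab orb u) u = true := ext_range (a := 257880) (len := 280) h921 o1_921
  have h923 : ∀ u < 258440, (fun u => chkO1 tab orb u) u = true := ext_range (a := 258160) (len := 280) h922 o1_922
  have h924 : ∀ u < 258720, (fun u => chkO1 tab orb u) u = true := ext_range (a := 258440) (len := 280) h923 o1_923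
  have h925 : ∀ u < 259000, (fun u => chkO1 tab orb u) u = true := ext_range (a := 258720) (len := 280) h924 o1_924
  have h926 : ∀ u < 259280, (fun u => chkO1 tab orb u) u = true := ext_range (a := 259000) (len := 280) h925 o1_925
  have h927 : ∀ u < 259560, (fun u => chkO1 tab orb u) u = true := ext_range (a := 259280) (len := 280) h926 o1_926
  have h928 : ∀ u < 259840, (fun u => chkO1 tab orb u) u = true := ext_range (a := 259560) (len := 280) h927 o1_927
  have h929 : ∀ u < 260120, (fun u => chkO1 tab orb u) u = true := ext_range (a := 259840) (len := 280) h928 o1_928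
  have h930 : ∀ u < 260400, (fun u => chkO1 tab orb u) u = true := ext_range (a := 260120) (len := 280) h929 o1_929
  have h931 : ∀ u < 260680, (fun u => chkO1 tab orb u) u = true := ext_range (a := 260400) (len := 280) h930 o1_930
  have h932 : ∀ u < 260960, (fun u => chkO1 tab orb u) u = true := ext_range (a := 260680) (len := 280) h931 o1_931
  have h933 : ∀ u < 261240, (fun u => chkO1 tab orb u) u = true := ext_range (a := 260960) (len := 280) h932 o1_932
  have h934 : ∀ u < 261520, (fun u => chkO1 tab orb u) u = true := ext_range (a := 261240) (len := 280) h933 o1_933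
  have h935 : ∀ u < 261800, (fun u => chkO1 tab orb u) u = true := ext_range (a := 261520) (len := 280) h934 o1_934
  have h936 : ∀ u < 262080, (fun u => chkO1 tab orb u) u = true := ext_range (a := 261800) (len := 280) h935 o1_935
  have h937 : ∀ u < 262360, (fun u => chkO1 tab orb u) u = true := ext_range (a := 262080) (len := 280) h936 o1_936
  have h938 : ∀ u < 262640, (fun u => chkO1 tab orb u) u = true := ext_range (a := 262360) (len := 280) h937 o1_937
  have h939 : ∀ u < 262920, (fun u => chkO1 tab orb u) u = true := ext_range (a := 262640) (len := 280) h938 o1_938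
  have h940 : ∀ u < 263200, (fun u => chkO1 tab orb u) u = true := ext_range (a := 262920) (len := 280) h939 o1_939
  have h941 : ∀ u < 263480, (fun u => chkO1 tab orb u) u = true := ext_range (a := 263200) (len := 280) h940 o1_940
  have h942 : ∀ u < 263760, (fun u => chkO1 tab orb u) u = true := ext_range (a := 263480) (len := 280) h941 o1_941
  have h943 : ∀ u < 264040, (fun u => chkO1 tab orb u) u = true := ext_range (a := 263760) (len := 280) h942 o1_942
  have h944 : ∀ u < 264320, (fun u => chkO1 tab orb u) u = true := ext_range (a := 264040) (len := 280) h943 o1_943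
  have h945 : ∀ u < 264600, (fun u => chkO1 tab orb u) u = true := ext_range (a := 264320) (len := 280) h944 o1_944
  have h946 : ∀ u < 264880, (fun u => chkO1 tab orb u) u = true := ext_range (a := 264600) (len := 280) h945 o1_945
  have h947 : ∀ u < 265160, (fun u => chkO1 tab orb u) u = true := ext_range (a := 264880) (len := 280) h946 o1_946
  have h948 : ∀ u < 265440, (fun u => chkO1 tab orb u) u = true := ext_range (a := 265160) (len := 280) h947 o1_947
  have h949 : ∀ u < 265720, (fun u => chkO1 tab orb u) u = true := ext_range (a := 265440) (len := 280) h948 o1_948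
  have h950 : ∀ u < 266000, (fun u => chkO1 tab orb u) u = true := ext_range (a := 265720) (len := 280) h949 o1_949
  have h951 : ∀ u < 266280, (fun u => chkO1 tab orb u) u = true := ext_range (a := 266000) (len := 280) h950 o1_950
  have h952 : ∀ u < 266560, (fun u => chkO1 tab orb u) u = true := ext_range (a := 266280) (len := 280) h951 o1_951
  have h953 : ∀ u < 266840, (fun u => chkO1 tab orb u) u = true := ext_range (a := 266560) (len := 280) h952 o1_952
  have h954 : ∀ u < 267120, (fun u => chkO1 tab orb u) u = true := ext_range (a := 266840) (len := 280) h953 o1_953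
  have h955 : ∀ u < 267400, (fun u => chkO1 tab orb u) u = true := ext_range (a := 267120) (len := 280) h954 o1_954
  have h956 : ∀ u < 267680, (fun u => chkO1 tab orb u) u = true := ext_range (a := 267400) (len := 280) h955 o1_955
  have h957 : ∀ u < 267960, (fun u => chkO1 tab orb u) u = true := ext_range (a := 267680) (len := 280) h956 o1_956
  have h958 : ∀ u < 268240, (fun u => chkO1 tab orb u) u = true := ext_range (a := 267960) (len := 280) h957 o1_957
  have h959 : ∀ u < 268520, (fun u => chkO1 tab orb u) u = true := ext_range (a := 268240) (len := 280) h958 o1_958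
  have h960 : ∀ u < 268800, (fun u => chkO1 tab orb u) u = true := ext_range (a := 268520) (len := 280) h959 o1_959
  have h961 : ∀ u < 269080, (fun u => chkO1 tab orb u) u = true := ext_range (a := 268800) (len := 280) h960 o1_960
  have h962 : ∀ u < 269360, (fun u => chkO1 tab orb u) u = true := ext_range (a := 269080) (len := 280) h961 o1_961
  have h963 : ∀ u < 269640, (fun u => chkO1 tab orb u) u = true := ext_range (a := 269360) (len := 280) h962 o1_962
  have h964 : ∀ u < 269920, (fun u => chkO1 tab orb u) u = true := ext_range (a := 269640) (len := 280) h963 o1_963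
  have h965 : ∀ u < 270200, (fun u => chkO1 tab orb u) u = true := ext_range (a := 269920) (len := 280) h964 o1_964
  have h966 : ∀ u < 270480, (fun u => chkO1 tab orb u) u = true := ext_range (a := 270200) (len := 280) h965 o1_965
  have h967 : ∀ u < 270760, (fun u => chkO1 tab orb u) u = true := ext_range (a := 270480) (len := 280) h966 o1_966
  have h968 : ∀ u < 271040, (fun u => chkO1 tab orb u) u = true := ext_range (a := 270760) (len := 280) h967 o1_967
  have h969 : ∀ u < 271320, (fun u => chkO1 tab orb u) u = true := ext_range (a := 271040) (len := 280) h968 o1_968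
  have h970 : ∀ u < 271600, (fun u => chkO1 tab orb u) u = true := ext_range (a := 271320) (len := 280) h969 o1_969
  have h971 : ∀ u < 271880, (fun u => chkO1 tab orb u) u = true := ext_range (a := 271600) (len := 280) h970 o1_970
  have h972 : ∀ u < 272160, (fun u => chkO1 tab orb u) u = true := ext_range (a := 271880) (len := 280) h971 o1_971
  have h973 : ∀ u < 272440, (fun u => chkO1 tab orb u) u = true := ext_range (a := 272160) (len := 280) h972 o1_972
  have h974 : ∀ u < 272720, (fun u => chkO1 tab orb u) u = true := ext_range (a := 272440) (len := 280) h973 o1_973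
  have h975 : ∀ u < 273000, (fun u => chkO1 tab orb u) u = true := ext_range (a := 272720) (len := 280) h974 o1_974
  have h976 : ∀ u < 273280, (fun u => chkO1 tab orb u) u = true := ext_range (a := 273000) (len := 280) h975 o1_975
  have h977 : ∀ u < 273560, (fun u => chkO1 tab orb u) u = true := ext_range (a := 273280) (len := 280) h976 o1_976
  have h978 : ∀ u < 273840, (fun u => chkO1 tab orb u) u = true := ext_range (a := 273560) (len := 280) h977 o1_977
  have h979 : ∀ u < 274120, (fun u => chkO1 tab orb u) u = true := ext_range (a := 273840) (len := 280) h978 o1_978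
  have h980 : ∀ u < 274400, (fun u => chkO1 tab orb u) u = true := ext_range (a := 274120) (len := 280) h979 o1_979
  have h981 : ∀ u < 274680, (fun u => chkO1 tab orb u) u = true := ext_range (a := 274400) (len := 280) h980 o1_980
  have h982 : ∀ u < 274960, (fun u => chkO1 tab orb u) u = true := ext_range (a := 274680) (len := 280) h981 o1_981
  have h983 : ∀ u < 275240, (fun u => chkO1 tab orb u) u = true := ext_range (a := 274960) (len := 280) h982 o1_982
  have h984 : ∀ u < 275520, (fun u => chkO1 tab orb u) u = true := ext_range (a := 275240) (len := 280) h983 o1_983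
  have h985 : ∀ u < 275800, (fun u => chkO1 tab orb u) u = true := ext_range (a := 275520) (len := 280) h984 o1_984
  have h986 : ∀ u < 276080, (fun u => chkO1 tab orb u) u = true := ext_range (a := 275800) (len := 280) h985 o1_985
  have h987 : ∀ u < 276360, (fun u => chkO1 tab orb u) u = true := ext_range (a := 276080) (len := 280) h986 o1_986
  have h988 : ∀ u < 276640, (fun u => chkO1 tab orb u) u = true := ext_range (a := 276360) (len := 280) h987 o1_987
  have h989 : ∀ u < 276920, (fun u => chkO1 tab orb u) u = true := ext_range (a := 276640) (len := 280) h988 o1_988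
  have h990 : ∀ u < 277200, (fun u => chkO1 tab orb u) u = true := ext_range (a := 276920) (len := 280) h989 o1_989
  have h991 : ∀ u < 277480, (fun u => chkO1 tab orb u) u = true := ext_range (a := 277200) (len := 280) h990 o1_990
  have h992 : ∀ u < 277760, (fun u => chkO1 tab orb u) u = true := ext_range (a := 277480) (len := 280) h991 o1_991
  have h993 : ∀ u < 278040, (fun u => chkO1 tab orb u) u = true := ext_range (a := 277760) (len := 280) h992 o1_992
  have h994 : ∀ u < 278320, (fun u => chkO1 tab orb u) u = true := ext_range (a := 278040) (len := 280) h993 o1_993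
  have h995 : ∀ u < 278600, (fun u => chkO1 tab orb u) u = true := ext_range (a := 278320) (len := 280) h994 o1_994
  have h996 : ∀ u < 278880, (fun u => chkO1 tab orb u) u = true := ext_range (a := 278600) (len := 280) h995 o1_995
  have h997 : ∀ u < 279160, (fun u => chkO1 tab orb u) u = true := ext_range (a := 278880) (len := 280) h996 o1_996
  have h998 : ∀ u < 279440, (fun u => chkO1 tab orb u) u = true := ext_range (a := 279160) (len := 280) h997 o1_997
  have h999 : ∀ u < 279720, (fun u => chkO1 tab orb u) u = true := ext_range (a := 279440) (len := 280) h998 o1_998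
  have h1000 : ∀ u < 280000, (fun u => chkO1 tab orb u) u = true := ext_range (a := 279720) (len := 280) h999 o1_999
  have h1001 : ∀ u < 280280, (fun u => chkO1 tab orb u) u = true := ext_range (a := 280000) (len := 280) h1000 o1_1000
  have h1002 : ∀ u < 280560, (fun u => chkO1 tab orb u) u = true := ext_range (a := 280280) (len := 280) h1001 o1_1001
  have h1003 : ∀ u < 280840, (fun u => chkO1 tab orb u) u = true := ext_range (a := 280560) (len := 280) h1002 o1_1002
  have h1004 : ∀ u < 281120, (fun u => chkO1 tab orb u) u = true := ext_range (a := 280840) (len := 280) h1003 o1_1003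
  have h1005 : ∀ u < 281400, (fun u => chkO1 tab orb u) u = true := ext_range (a := 281120) (len := 280) h1004 o1_1004
  have h1006 : ∀ u < 281680, (fun u => chkO1 tab orb u) u = true := ext_range (a := 281400) (len := 280) h1005 o1_1005
  have h1007 : ∀ u < 281960, (fun u => chkO1 tab orb u) u = true := ext_range (a := 281680) (len := 280) h1006 o1_1006
  have h1008 : ∀ u < 282240, (fun u => chkO1 tab orb u) u = true := ext_range (a := 281960) (len := 280) h1007 o1_1007
  have h1009 : ∀ u < 282520, (fun u => chkO1 tab orb u) u = true := ext_range (a := 282240) (len := 280) h1008 o1_1008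
  have h1010 : ∀ u < 282800, (fun u => chkO1 tab orb u) u = true := ext_range (a := 282520) (len := 280) h1009 o1_1009
  have h1011 : ∀ u < 283080, (fun u => chkO1 tab orb u) u = true := ext_range (a := 282800) (len := 280) h1010 o1_1010
  have h1012 : ∀ u < 283360, (fun u => chkO1 tab orb u) u = true := ext_range (a := 283080) (len := 280) h1011 o1_1011
  have h1013 : ∀ u < 283640, (fun u => chkO1 tab orb u) u = true := ext_range (a := 283360) (len := 280) h1012 o1_1012
  have h1014 : ∀ u < 283920, (fun u => chkO1 tab orb u) u = true := ext_range (a := 283640) (len := 280) h1013 o1_1013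
  have h1015 : ∀ u < 284200, (fun u => chkO1 tab orb u) u = true := ext_range (a := 283920) (len := 280) h1014 o1_1014
  have h1016 : ∀ u < 284480, (fun u => chkO1 tab orb u) u = true := ext_range (a := 284200) (len := 280) h1015 o1_1015
  have h1017 : ∀ u < 284760, (fun u => chkO1 tab orb u) u = true := ext_range (a := 284480) (len := 280) h1016 o1_1016
  have h1018 : ∀ u < 285040, (fun u => chkO1 tab orb u) u = true := ext_range (a := 284760) (len := 280) h1017 o1_1017
  have h1019 : ∀ u < 285320, (fun u => chkO1 tab orb u) u = true := ext_range (a := 285040) (len := 280) h1018 o1_1018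
  have h1020 : ∀ u < 285600, (fun u => chkO1 tab orb u) u = true := ext_range (a := 285320) (len := 280) h1019 o1_1019
  have h1021 : ∀ u < 285880, (fun u => chkO1 tab orb u) u = true := ext_range (a := 285600) (len := 280) h1020 o1_1020
  have h1022 : ∀ u < 286160, (fun u => chkO1 tab orb u) u = true := ext_range (a := 285880) (len := 280) h1021 o1_1021
  have h1023 : ∀ u < 286440, (fun u => chkO1 tab orb u) u = true := ext_range (a := 286160) (len := 280) h1022 o1_1022
  have h1024 : ∀ u < 286720, (fun u => chkO1 tab orb u) u = true := ext_range (a := 286440) (len := 280) h1023 o1_1023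
  have h1025 : ∀ u < 287000, (fun u => chkO1 tab orb u) u = true := ext_range (a := 286720) (len := 280) h1024 o1_1024
  have h1026 : ∀ u < 287280, (fun u => chkO1 tab orb u) u = true := ext_range (a := 287000) (len := 280) h1025 o1_1025
  have h1027 : ∀ u < 287560, (fun u => chkO1 tab orb u) u = true := ext_range (a := 287280) (len := 280) h1026 o1_1026
  have h1028 : ∀ u < 287840, (fun u => chkO1 tab orb u) u = true := ext_range (a := 287560) (len := 280) h1027 o1_1027
  have h1029 : ∀ u < 288120, (fun u => chkO1 tab orb u) u = true := ext_range (a := 287840) (len := 280) h1028 o1_1028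
  have h1030 : ∀ u < 288400, (fun u => chkO1 tab orb u) u = true := ext_range (a := 288120) (len := 280) h1029 o1_1029
  have h1031 : ∀ u < 288680, (fun u => chkO1 tab orb u) u = true := ext_range (a := 288400) (len := 280) h1030 o1_1030
  have h1032 : ∀ u < 288960, (fun u => chkO1 tab orb u) u = true := ext_range (a := 288680) (len := 280) h1031 o1_1031
  have h1033 : ∀ u < 289240, (fun u => chkO1 tab orb u) u = true := ext_range (a := 288960) (len := 280) h1032 o1_1032
  have h1034 : ∀ u < 289520, (fun u => chkO1 tab orb u) u = true := ext_range (a := 289240) (len := 280) h1033 o1_1033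
  have h1035 : ∀ u < 289800, (fun u => chkO1 tab orb u) u = true := ext_range (a := 289520) (len := 280) h1034 o1_1034
  have h1036 : ∀ u < 290080, (fun u => chkO1 tab orb u) u = true := ext_range (a := 289800) (len := 280) h1035 o1_1035
  have h1037 : ∀ u < 290360, (fun u => chkO1 tab orb u) u = true := ext_range (a := 290080) (len := 280) h1036 o1_1036
  have h1038 : ∀ u < 290640, (fun u => chkO1 tab orb u) u = true := ext_range (a := 290360) (len := 280) h1037 o1_1037
  have h1039 : ∀ u < 290920, (fun u => chkO1 tab orb u) u = true := ext_range (a := 290640) (len := 280) h1038 o1_1038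
  have h1040 : ∀ u < 291200, (fun u => chkO1 tab orb u) u = true := ext_range (a := 290920) (len := 280) h1039 o1_1039
  have h1041 : ∀ u < 291480, (fun u => chkO1 tab orb u) u = true := ext_range (a := 291200) (len := 280) h1040 o1_1040
  have h1042 : ∀ u < 291760, (fun u => chkO1 tab orb u) u = true := ext_range (a := 291480) (len := 280) h1041 o1_1041
  have h1043 : ∀ u < 292040, (fun u => chkO1 tab orb u) u = true := ext_range (a := 291760) (len := 280) h1042 o1_1042
  have h1044 : ∀ u < 292320, (fun u => chkO1 tab orb u) u = true := ext_range (a := 292040) (len := 280) h1043 o1_1043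
  have h1045 : ∀ u < 292600, (fun u => chkO1 tab orb u) u = true := ext_range (a := 292320) (len := 280) h1044 o1_1044
  have h1046 : ∀ u < 292880, (fun u => chkO1 tab orb u) u = true := ext_range (a := 292600) (len := 280) h1045 o1_1045
  have h1047 : ∀ u < 293160, (fun u => chkO1 tab orb u) u = true := ext_range (a := 292880) (len := 280) h1046 o1_1046
  have h1048 : ∀ u < 293440, (fun u => chkO1 tab orb u) u = true := ext_range (a := 293160) (len := 280) h1047 o1_1047
  have h1049 : ∀ u < 293720, (fun u => chkO1 tab orb u) u = true := ext_range (a := 293440) (len := 280) h1048 o1_1048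
  have h1050 : ∀ u < 294000, (fun u => chkO1 tab orb u) u = true := ext_range (a := 293720) (len := 280) h1049 o1_1049
  have h1051 : ∀ u < 294280, (fun u => chkO1 tab orb u) u = true := ext_range (a := 294000) (len := 280) h1050 o1_1050
  have h1052 : ∀ u < 294560, (fun u => chkO1 tab orb u) u = true := ext_range (a := 294280) (len := 280) h1051 o1_1051
  have h1053 : ∀ u < 294840, (fun u => chkO1 tab orb u) u = true := ext_range (a := 294560) (len := 280) h1052 o1_1052
  have h1054 : ∀ u < 295120, (fun u => chkO1 tab orb u) u = true := ext_range (a := 294840) (len := 280) h1053 o1_1053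
  have h1055 : ∀ u < 295400, (fun u => chkO1 tab orb u) u = true := ext_range (a := 295120) (len := 280) h1054 o1_1054
  have h1056 : ∀ u < 295680, (fun u => chkO1 tab orb u) u = true := ext_range (a := 295400) (len := 280) h1055 o1_1055
  have h1057 : ∀ u < 295960, (fun u => chkO1 tab orb u) u = true := ext_range (a := 295680) (len := 280) h1056 o1_1056
  have h1058 : ∀ u < 296240, (fun u => chkO1 tab orb u) u = true := ext_range (a := 295960) (len := 280) h1057 o1_1057
  have h1059 : ∀ u < 296520, (fun u => chkO1 tab orb u) u = true := ext_range (a := 296240) (len := 280) h1058 o1_1058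
  have h1060 : ∀ u < 296800, (fun u => chkO1 tab orb u) u = true := ext_range (a := 296520) (len := 280) h1059 o1_1059
  have h1061 : ∀ u < 297080, (fun u => chkO1 tab orb u) u = true := ext_range (a := 296800) (len := 280) h1060 o1_1060
  have h1062 : ∀ u < 297360, (fun u => chkO1 tab orb u) u = true := ext_range (a := 297080) (len := 280) h1061 o1_1061
  have h1063 : ∀ u < 297640, (fun u => chkO1 tab orb u) u = true := ext_range (a := 297360) (len := 280) h1062 o1_1062
  have h1064 : ∀ u < 297920, (fun u => chkO1 tab orb u) u = true := ext_range (a := 297640) (len := 280) h1063 o1_1063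
  have h1065 : ∀ u < 298200, (fun u => chkO1 tab orb u) u = true := ext_range (a := 297920) (len := 280) h1064 o1_1064
  have h1066 : ∀ u < 298480, (fun u => chkO1 tab orb u) u = true := ext_range (a := 298200) (len := 280) h1065 o1_1065
  have h1067 : ∀ u < 298760, (fun u => chkO1 tab orb u) u = true := ext_range (a := 298480) (len := 280) h1066 o1_1066
  have h1068 : ∀ u < 299040, (fun u => chkO1 tab orb u) u = true := ext_range (a := 298760) (len := 280) h1067 o1_1067
  have h1069 : ∀ u < 299320, (fun u => chkO1 tab orb u) u = true := ext_range (a := 299040) (len := 280) h1068 o1_1068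
  have h1070 : ∀ u < 299600, (fun u => chkO1 tab orb u) u = true := ext_range (a := 299320) (len := 280) h1069 o1_1069
  have h1071 : ∀ u < 299880, (fun u => chkO1 tab orb u) u = true := ext_range (a := 299600) (len := 280) h1070 o1_1070
  have h1072 : ∀ u < 300160, (fun u => chkO1 tab orb u) u = true := ext_range (a := 299880) (len := 280) h1071 o1_1071
  have h1073 : ∀ u < 300440, (fun u => chkO1 tab orb u) u = true := ext_range (a := 300160) (len := 280) h1072 o1_1072
  have h1074 : ∀ u < 300720, (fun u => chkO1 tab orb u) u = true := ext_range (a := 300440) (len := 280) h1073 o1_1073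
  have h1075 : ∀ u < 301000, (fun u => chkO1 tab orb u) u = true := ext_range (a := 300720) (len := 280) h1074 o1_1074
  have h1076 : ∀ u < 301280, (fun u => chkO1 tab orb u) u = true := ext_range (a := 301000) (len := 280) h1075 o1_1075
  have h1077 : ∀ u < 301560, (fun u => chkO1 tab orb u) u = true := ext_range (a := 301280) (len := 280) h1076 o1_1076
  have h1078 : ∀ u < 301840, (fun u => chkO1 tab orb u) u = true := ext_range (a := 301560) (len := 280) h1077 o1_1077
  have h1079 : ∀ u < 302120, (fun u => chkO1 tab orb u) u = true := ext_range (a := 301840) (len := 280) h1078 o1_1078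
  have h1080 : ∀ u < 302400, (fun u => chkO1 tab orb u) u = true := ext_range (a := 302120) (len := 280) h1079 o1_1079
  have h1081 : ∀ u < 302680, (fun u => chkO1 tab orb u) u = true := ext_range (a := 302400) (len := 280) h1080 o1_1080
  have h1082 : ∀ u < 302960, (fun u => chkO1 tab orb u) u = true := ext_range (a := 302680) (len := 280) h1081 o1_1081
  have h1083 : ∀ u < 303240, (fun u => chkO1 tab orb u) u = true := ext_range (a := 302960) (len := 280) h1082 o1_1082
  have h1084 : ∀ u < 303520, (fun u => chkO1 tab orb u) u = true := ext_range (a := 303240) (len := 280) h1083 o1_1083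
  have h1085 : ∀ u < 303800, (fun u => chkO1 tab orb u) u = true := ext_range (a := 303520) (len := 280) h1084 o1_1084
  have h1086 : ∀ u < 304080, (fun u => chkO1 tab orb u) u = true := ext_range (a := 303800) (len := 280) h1085 o1_1085
  have h1087 : ∀ u < 304360, (fun u => chkO1 tab orb u) u = true := ext_range (a := 304080) (len := 280) h1086 o1_1086
  have h1088 : ∀ u < 304640, (fun u => chkO1 tab orb u) u = true := ext_range (a := 304360) (len := 280) h1087 o1_1087
  have h1089 : ∀ u < 304920, (fun u => chkO1 tab orb u) u = true := ext_range (a := 304640) (len := 280) h1088 o1_1088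
  have h1090 : ∀ u < 305200, (fun u => chkO1 tab orb u) u = true := ext_range (a := 304920) (len := 280) h1089 o1_1089
  have h1091 : ∀ u < 305480, (fun u => chkO1 tab orb u) u = true := ext_range (a := 305200) (len := 280) h1090 o1_1090
  have h1092 : ∀ u < 305760, (fun u => chkO1 tab orb u) u = true := ext_range (a := 305480) (len := 280) h1091 o1_1091
  have h1093 : ∀ u < 306040, (fun u => chkO1 tab orb u) u = true := ext_range (a := 305760) (len := 280) h1092 o1_1092
  have h1094 : ∀ u < 306320, (fun u => chkO1 tab orb u) u = true := ext_range (a := 306040) (len := 280) h1093 o1_1093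
  have h1095 : ∀ u < 306600, (fun u => chkO1 tab orb u) u = true := ext_range (a := 306320) (len := 280) h1094 o1_1094
  have h1096 : ∀ u < 306880, (fun u => chkO1 tab orb u) u = true := ext_range (a := 306600) (len := 280) h1095 o1_1095
  have h1097 : ∀ u < 306936, (fun u => chkO1 tab orb u) u = true := ext_range (a := 306880) (len := 56) h1096 o1_1096
  exact h1097

theorem hO2 : ∀ u < 306936, chkO2 tab orb u = true := by
  have h0 : ∀ u < 0, (fun u => chkO2 tab orb u) u = true := range_zero
  have h1 : ∀ u < 1334, (fun u => chkO2 tab orb u) u = true := ext_range (a := 0) (len := 1334) h0 o2_0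
  have h2 : ∀ u < 2668, (fun u => chkO2 tab orb u) u = true := ext_range (a := 1334) (len := 1334) h1 o2_1
  have h3 : ∀ u < 4002, (fun u => chkO2 tab orb u) u = true := ext_range (a := 2668) (len := 1334) h2 o2_2
  have h4 : ∀ u < 5336, (fun u => chkO2 tab orb u) u = true := ext_range (a := 4002) (len := 1334) h3 o2_3
  have h5 : ∀ u < 6670, (fun u => chkO2 tab orb u) u = true := ext_range (a := 5336) (len := 1334) h4 o2_4
  have h6 : ∀ u < 8004, (fun u => chkO2 tab orb u) u = true := ext_range (a := 6670) (len := 1334) h5 o2_5
  have h7 : ∀ u < 9338, (fun u => chkO2 tab orb u) u = true := ext_range (a := 8004) (len := 1334) h6 o2_6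
  have h8 : ∀ u < 10672, (fun u => chkO2 tab orb u) u = true := ext_range (a := 9338) (len := 1334) h7 o2_7
  have h9 : ∀ u < 12006, (fun u => chkO2 tab orb u) u = true := ext_range (a := 10672) (len := 1334) h8 o2_8
  have h10 : ∀ u < 13340, (fun u => chkO2 tab orb u) u = true := ext_range (a := 12006) (len := 1334) h9 o2_9
  have h11 : ∀ u < 14674, (fun u => chkO2 tab orb u) u = true := ext_range (a := 13340) (len := 1334) h10 o2_10
  have h12 : ∀ u < 16008, (fun u => chkO2 tab orb u) u = true := ext_range (a := 14674) (len := 1334) h11 o2_11
  have h13 : ∀ u < 17342, (fun u => chkO2 tab orb u) u = true := ext_range (a := 16008) (len := 1334) h12 o2_12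
  have h14 : ∀ u < 18676, (fun u => chkO2 tab orb u) u = true := ext_range (a := 17342) (len := 1334) h13 o2_13
  have h15 : ∀ u < 20010, (fun u => chkO2 tab orb u) u = true := ext_range (a := 18676) (len := 1334) h14 o2_14
  have h16 : ∀ u < 21344, (fun u => chkO2 tab orb u) u = true := ext_range (a := 20010) (len := 1334) h15 o2_15
  have h17 : ∀ u < 22678, (fun u => chkO2 tab orb u) u = true := ext_range (a := 21344) (len := 1334) h16 o2_16
  have h18 : ∀ u < 24012, (fun u => chkO2 tab orb u) u = true := ext_range (a := 22678) (len := 1334) h17 o2_17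
  have h19 : ∀ u < 25346, (fun u => chkO2 tab orb u) u = true := ext_range (a := 24012) (len := 1334) h18 o2_18
  have h20 : ∀ u < 26680, (fun u => chkO2 tab orb u) u = true := ext_range (a := 25346) (len := 1334) h19 o2_19
  have h21 : ∀ u < 28014, (fun u => chkO2 tab orb u) u = true := ext_range (a := 26680) (len := 1334) h20 o2_20
  have h22 : ∀ u < 29348, (fun u => chkO2 tab orb u) u = true := ext_range (a := 28014) (len := 1334) h21 o2_21
  have h23 : ∀ u < 30682, (fun u => chkO2 tab orb u) u = true := ext_range (a := 29348) (len := 1334) h22 o2_22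
  have h24 : ∀ u < 32016, (fun u => chkO2 tab orb u) u = true := ext_range (a := 30682) (len := 1334) h23 o2_23
  have h25 : ∀ u < 33350, (fun u => chkO2 tab orb u) u = true := ext_range (a := 32016) (len := 1334) h24 o2_24
  have h26 : ∀ u < 34684, (fun u => chkO2 tab orb u) u = true := ext_range (a := 33350) (len := 1334) h25 o2_25
  have h27 : ∀ u < 36018, (fun u => chkO2 tab orb u) u = true := ext_range (a := 34684) (len := 1334) h26 o2_26
  have h28 : ∀ u < 37352, (fun u => chkO2 tab orb u) u = true := ext_range (a := 36018) (len := 1334) h27 o2_27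
  have h29 : ∀ u < 38686, (fun u => chkO2 tab orb u) u = true := ext_range (a := 37352) (len := 1334) h28 o2_28
  have h30 : ∀ u < 40020, (fun u => chkO2 tab orb u) u = true := ext_range (a := 38686) (len := 1334) h29 o2_29
  have h31 : ∀ u < 41354, (fun u => chkO2 tab orb u) u = true := ext_range (a := 40020) (len := 1334) h30 o2_30
  have h32 : ∀ u < 42688, (fun u => chkO2 tab orb u) u = true := ext_range (a := 41354) (len := 1334) h31 o2_31
  have h33 : ∀ u < 44022, (fun u => chkO2 tab orb u) u = true := ext_range (a := 42688) (len := 1334) h32 o2_32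
  have h34 : ∀ u < 45356, (fun u => chkO2 tab orb u) u = true := ext_range (a := 44022) (len := 1334) h33 o2_33
  have h35 : ∀ u < 46690, (fun u => chkO2 tab orb u) u = true := ext_range (a := 45356) (len := 1334) h34 o2_34
  have h36 : ∀ u < 48024, (fun u => chkO2 tab orb u) u = true := ext_range (a := 46690) (len := 1334) h35 o2_35
  have h37 : ∀ u < 49358, (fun u => chkO2 tab orb u) u = true := ext_range (a := 48024) (len := 1334) h36 o2_36
  have h38 : ∀ u < 50692, (fun u => chkO2 tab orb u) u = true := ext_range (a := 49358) (len := 1334) h37 o2_37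
  have h39 : ∀ u < 52026, (fun u => chkO2 tab orb u) u = true := ext_range (a := 50692) (len := 1334) h38 o2_38
  have h40 : ∀ u < 53360, (fun u => chkO2 tab orb u) u = true := ext_range (a := 52026) (len := 1334) h39 o2_39
  have h41 : ∀ u < 54694, (fun u => chkO2 tab orb u) u = true := ext_range (a := 53360) (len := 1334) h40 o2_40
  have h42 : ∀ u < 56028, (fun u => chkO2 tab orb u) u = true := ext_range (a := 54694) (len := 1334) h41 o2_41
  have h43 : ∀ u < 57362, (fun u => chkO2 tab orb u) u = true := ext_range (a := 56028) (len := 1334) h42 o2_42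
  have h44 : ∀ u < 58696, (fun u => chkO2 tab orb u) u = true := ext_range (a := 57362) (len := 1334) h43 o2_43
  have h45 : ∀ u < 60030, (fun u => chkO2 tab orb u) u = true := ext_range (a := 58696) (len := 1334) h44 o2_44
  have h46 : ∀ u < 61364, (fun u => chkO2 tab orb u) u = true := ext_range (a := 60030) (len := 1334) h45 o2_45
  have h47 : ∀ u < 62698, (fun u => chkO2 tab orb u) u = true := ext_range (a := 61364) (len := 1334) h46 o2_46
  have h48 : ∀ u < 64032, (fun u => chkO2 tab orb u) u = true := ext_range (a := 62698) (len := 1334) h47 o2_47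
  have h49 : ∀ u < 65366, (fun u => chkO2 tab orb u) u = true := ext_range (a := 64032) (len := 1334) h48 o2_48
  have h50 : ∀ u < 66700, (fun u => chkO2 tab orb u) u = true := ext_range (a := 65366) (len := 1334) h49 o2_49
  have h51 : ∀ u < 68034, (fun u => chkO2 tab orb u) u = true := ext_range (a := 66700) (len := 1334) h50 o2_50
  have h52 : ∀ u < 69368, (fun u => chkO2 tab orb u) u = true := ext_range (a := 68034) (len := 1334) h51 o2_51
  have h53 : ∀ u < 70702, (fun u => chkO2 tab orb u) u = true := ext_range (a := 69368) (len := 1334) h52 o2_52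
  have h54 : ∀ u < 72036, (fun u => chkO2 tab orb u) u = true := ext_range (a := 70702) (len := 1334) h53 o2_53
  have h55 : ∀ u < 73370, (fun u => chkO2 tab orb u) u = true := ext_range (a := 72036) (len := 1334) h54 o2_54
  have h56 : ∀ u < 74704, (fun u => chkO2 tab orb u) u = true := ext_range (a := 73370) (len := 1334) h55 o2_55
  have h57 : ∀ u < 76038, (fun u => chkO2 tab orb u) u = true := ext_range (a := 74704) (len := 1334) h56 o2_56
  have h58 : ∀ u < 77372, (fun u => chkO2 tab orb u) u = true := ext_range (a := 76038) (len := 1334) h57 o2_57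
  have h59 : ∀ u < 78706, (fun u => chkO2 tab orb u) u = true := ext_range (a := 77372) (len := 1334) h58 o2_58
  have h60 : ∀ u < 80040, (fun u => chkO2 tab orb u) u = true := ext_range (a := 78706) (len := 1334) h59 o2_59
  have h61 : ∀ u < 81374, (fun u => chkO2 tab orb u) u = true := ext_range (a := 80040) (len := 1334) h60 o2_60
  have h62 : ∀ u < 82708, (fun u => chkO2 tab orb u) u = true := ext_range (a := 81374) (len := 1334) h61 o2_61
  have h63 : ∀ u < 84042, (fun u => chkO2 tab orb u) u = true := ext_range (a := 82708) (len := 1334) h62 o2_62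
  have h64 : ∀ u < 85376, (fun u => chkO2 tab orb u) u = true := ext_range (a := 84042) (len := 1334) h63 o2_63
  have h65 : ∀ u < 86710, (fun u => chkO2 tab orb u) u = true := ext_range (a := 85376) (len := 1334) h64 o2_64
  have h66 : ∀ u < 88044, (fun u => chkO2 tab orb u) u = true := ext_range (a := 86710) (len := 1334) h65 o2_65
  have h67 : ∀ u < 89378, (fun u => chkO2 tab orb u) u = true := ext_range (a := 88044) (len := 1334) h66 o2_66
  have h68 : ∀ u < 90712, (fun u => chkO2 tab orb u) u = true := ext_range (a := 89378) (len := 1334) h67 o2_67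
  have h69 : ∀ u < 92046, (fun u => chkO2 tab orb u) u = true := ext_range (a := 90712) (len := 1334) h68 o2_68
  have h70 : ∀ u < 93380, (fun u => chkO2 tab orb u) u = true := ext_range (a := 92046) (len := 1334) h69 o2_69
  have h71 : ∀ u < 94714, (fun u => chkO2 tab orb u) u = true := ext_range (a := 93380) (len := 1334) h70 o2_70
  have h72 : ∀ u < 96048, (fun u => chkO2 tab orb u) u = true := ext_range (a := 94714) (len := 1334) h71 o2_71
  have h73 : ∀ u < 97382, (fun u => chkO2 tab orb u) u = true := ext_range (a := 96048) (len := 1334) h72 o2_72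
  have h74 : ∀ u < 98716, (fun u => chkO2 tab orb u) u = true := ext_range (a := 97382) (len := 1334) h73 o2_73
  have h75 : ∀ u < 100050, (fun u => chkO2 tab orb u) u = true := ext_range (a := 98716) (len := 1334) h74 o2_74
  have h76 : ∀ u < 101384, (fun u => chkO2 tab orb u) u = true := ext_range (a := 100050) (len := 1334) h75 o2_75
  have h77 : ∀ u < 102718, (fun u => chkO2 tab orb u) u = true := ext_range (a := 101384) (len := 1334) h76 o2_76
  have h78 : ∀ u < 104052, (fun u => chkO2 tab orb u) u = true := ext_range (a := 102718) (len := 1334) h77 o2_77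
  have h79 : ∀ u < 105386, (fun u => chkO2 tab orb u) u = true := ext_range (a := 104052) (len := 1334) h78 o2_78
  have h80 : ∀ u < 106720, (fun u => chkO2 tab orb u) u = true := ext_range (a := 105386) (len := 1334) h79 o2_79
  have h81 : ∀ u < 108054, (fun u => chkO2 tab orb u) u = true := ext_range (a := 106720) (len := 1334) h80 o2_80
  have h82 : ∀ u < 109388, (fun u => chkO2 tab orb u) u = true := ext_range (a := 108054) (len := 1334) h81 o2_81
  have h83 : ∀ u < 110722, (fun u => chkO2 tab orb u) u = true := ext_range (a := 109388) (len := 1334) h82 o2_82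
  have h84 : ∀ u < 112056, (fun u => chkO2 tab orb u) u = true := ext_range (a := 110722) (len := 1334) h83 o2_83
  have h85 : ∀ u < 113390, (fun u => chkO2 tab orb u) u = true := ext_range (a := 112056) (len := 1334) h84 o2_84
  have h86 : ∀ u < 114724, (fun u => chkO2 tab orb u) u = true := ext_range (a := 113390) (len := 1334) h85 o2_85
  have h87 : ∀ u < 116058, (fun u => chkO2 tab orb u) u = true := ext_range (a := 114724) (len := 1334) h86 o2_86
  have h88 : ∀ u < 117392, (fun u => chkO2 tab orb u) u = true := ext_range (a := 116058) (len := 1334) h87 o2_87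
  have h89 : ∀ u < 118726, (fun u => chkO2 tab orb u) u = true := ext_range (a := 117392) (len := 1334) h88 o2_88
  have h90 : ∀ u < 120060, (fun u => chkO2 tab orb u) u = true := ext_range (a := 118726) (len := 1334) h89 o2_89
  have h91 : ∀ u < 121394, (fun u => chkO2 tab orb u) u = true := ext_range (a := 120060) (len := 1334) h90 o2_90
  have h92 : ∀ u < 122728, (fun u => chkO2 tab orb u) u = true := ext_range (a := 121394) (len := 1334) h91 o2_91
  have h93 : ∀ u < 124062, (fun u => chkO2 tab orb u) u = true := ext_range (a := 122728) (len := 1334) h92 o2_92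
  have h94 : ∀ u < 125396, (fun u => chkO2 tab orb u) u = true := ext_range (a := 124062) (len := 1334) h93 o2_93
  have h95 : ∀ u < 126730, (fun u => chkO2 tab orb u) u = true := ext_range (a := 125396) (len := 1334) h94 o2_94
  have h96 : ∀ u < 128064, (fun u => chkO2 tab orb u) u = true := ext_range (a := 126730) (len := 1334) h95 o2_95
  have h97 : ∀ u < 129398, (fun u => chkO2 tab orb u) u = true := ext_range (a := 128064) (len := 1334) h96 o2_96
  have h98 : ∀ u < 130732, (fun u => chkO2 tab orb u) u = true := ext_range (a := 129398) (len := 1334) h97 o2_97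
  have h99 : ∀ u < 132066, (fun u => chkO2 tab orb u) u = true := ext_range (a := 130732) (len := 1334) h98 o2_98
  have h100 : ∀ u < 133400, (fun u => chkO2 tab orb u) u = true := ext_range (a := 132066) (len := 1334) h99 o2_99
  have h101 : ∀ u < 134734, (fun u => chkO2 tab orb u) u = true := ext_range (a := 133400) (len := 1334) h100 o2_100
  have h102 : ∀ u < 136068, (fun u => chkO2 tab orb u) u = true := ext_range (a := 134734) (len := 1334) h101 o2_101
  have h103 : ∀ u < 137402, (fun u => chkO2 tab orb u) u = true := ext_range (a := 136068) (len := 1334) h102 o2_102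
  have h104 : ∀ u < 138736, (fun u => chkO2 tab orb u) u = true := ext_range (a := 137402) (len := 1334) h103 o2_103
  have h105 : ∀ u < 140070, (fun u => chkO2 tab orb u) u = true := ext_range (a := 138736) (len := 1334) h104 o2_104
  have h106 : ∀ u < 141404, (fun u => chkO2 tab orb u) u = true := ext_range (a := 140070) (len := 1334) h105 o2_105
  have h107 : ∀ u < 142738, (fun u => chkO2 tab orb u) u = true := ext_range (a := 141404) (len := 1334) h106 o2_106
  have h108 : ∀ u < 144072, (fun u => chkO2 tab orb u) u = true := ext_range (a := 142738) (len := 1334) h107 o2_107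
  have h109 : ∀ u < 145406, (fun u => chkO2 tab orb u) u = true := ext_range (a := 144072) (len := 1334) h108 o2_108
  have h110 : ∀ u < 146740, (fun u => chkO2 tab orb u) u = true := ext_range (a := 145406) (len := 1334) h109 o2_109
  have h111 : ∀ u < 148074, (fun u => chkO2 tab orb u) u = true := ext_range (a := 146740) (len := 1334) h110 o2_110
  have h112 : ∀ u < 149408, (fun u => chkO2 tab orb u) u = true := ext_range (a := 148074) (len := 1334) h111 o2_111
  have h113 : ∀ u < 150742, (fun u => chkO2 tab orb u) u = true := ext_range (a := 149408) (len := 1334) h112 o2_112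
  have h114 : ∀ u < 152076, (fun u => chkO2 tab orb u) u = true := ext_range (a := 150742) (len := 1334) h113 o2_113
  have h115 : ∀ u < 153410, (fun u => chkO2 tab orb u) u = true := ext_range (a := 152076) (len := 1334) h114 o2_114
  have h116 : ∀ u < 154744, (fun u => chkO2 tab orb u) u = true := ext_range (a := 153410) (len := 1334) h115 o2_115
  have h117 : ∀ u < 156078, (fun u => chkO2 tab orb u) u = true := ext_range (a := 154744) (len := 1334) h116 o2_116
  have h118 : ∀ u < 157412, (fun u => chkO2 tab orb u) u = true := ext_range (a := 156078) (len := 1334) h117 o2_117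
  have h119 : ∀ u < 158746, (fun u => chkO2 tab orb u) u = true := ext_range (a := 157412) (len := 1334) h118 o2_118
  have h120 : ∀ u < 160080, (fun u => chkO2 tab orb u) u = true := ext_range (a := 158746) (len := 1334) h119 o2_119
  have h121 : ∀ u < 161414, (fun u => chkO2 tab orb u) u = true := ext_range (a := 160080) (len := 1334) h120 o2_120
  have h122 : ∀ u < 162748, (fun u => chkO2 tab orb u) u = true := ext_range (a := 161414) (len := 1334) h121 o2_121
  have h123 : ∀ u < 164082, (fun u => chkO2 tab orb u) u = true := ext_range (a := 162748) (len := 1334) h122 o2_122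
  have h124 : ∀ u < 165416, (fun u => chkO2 tab orb u) u = true := ext_range (a := 164082) (len := 1334) h123 o2_123
  have h125 : ∀ u < 166750, (fun u => chkO2 tab orb u) u = true := ext_range (a := 165416) (len := 1334) h124 o2_124
  have h126 : ∀ u < 168084, (fun u => chkO2 tab orb u) u = true := ext_range (a := 166750) (len := 1334) h125 o2_125
  have h127 : ∀ u < 169418, (fun u => chkO2 tab orb u) u = true := ext_range (a := 168084) (len := 1334) h126 o2_126
  have h128 : ∀ u < 170752, (fun u => chkO2 tab orb u) u = true := ext_range (a := 169418) (len := 1334) h127 o2_127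
  have h129 : ∀ u < 172086, (fun u => chkO2 tab orb u) u = true := ext_range (a := 170752) (len := 1334) h128 o2_128
  have h130 : ∀ u < 173420, (fun u => chkO2 tab orb u) u = true := ext_range (a := 172086) (len := 1334) h129 o2_129
  have h131 : ∀ u < 174754, (fun u => chkO2 tab orb u) u = true := ext_range (a := 173420) (len := 1334) h130 o2_130
  have h132 : ∀ u < 176088, (fun u => chkO2 tab orb u) u = true := ext_range (a := 174754) (len := 1334) h131 o2_131
  have h133 : ∀ u < 177422, (fun u => chkO2 tab orb u) u = true := ext_range (a := 176088) (len := 1334) h132 o2_132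
  have h134 : ∀ u < 178756, (fun u => chkO2 tab orb u) u = true := ext_range (a := 177422) (len := 1334) h133 o2_133
  have h135 : ∀ u < 180090, (fun u => chkO2 tab orb u) u = true := ext_range (a := 178756) (len := 1334) h134 o2_134
  have h136 : ∀ u < 181424, (fun u => chkO2 tab orb u) u = true := ext_range (a := 180090) (len := 1334) h135 o2_135
  have h137 : ∀ u < 182758, (fun u => chkO2 tab orb u) u = true := ext_range (a := 181424) (len := 1334) h136 o2_136
  have h138 : ∀ u < 184092, (fun u => chkO2 tab orb u) u = true := ext_range (a := 182758) (len := 1334) h137 o2_137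
  have h139 : ∀ u < 185426, (fun u => chkO2 tab orb u) u = true := ext_range (a := 184092) (len := 1334) h138 o2_138
  have h140 : ∀ u < 186760, (fun u => chkO2 tab orb u) u = true := ext_range (a := 185426) (len := 1334) h139 o2_139
  have h141 : ∀ u < 188094, (fun u => chkO2 tab orb u) u = true := ext_range (a := 186760) (len := 1334) h140 o2_140
  have h142 : ∀ u < 189428, (fun u => chkO2 tab orb u) u = true := ext_range (a := 188094) (len := 1334) h141 o2_141
  have h143 : ∀ u < 190762, (fun u => chkO2 tab orb u) u = true := ext_range (a := 189428) (len := 1334) h142 o2_142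
  have h144 : ∀ u < 192096, (fun u => chkO2 tab orb u) u = true := ext_range (a := 190762) (len := 1334) h143 o2_143
  have h145 : ∀ u < 193430, (fun u => chkO2 tab orb u) u = true := ext_range (a := 192096) (len := 1334) h144 o2_144
  have h146 : ∀ u < 194764, (fun u => chkO2 tab orb u) u = true := ext_range (a := 193430) (len := 1334) h145 o2_145
  have h147 : ∀ u < 196098, (fun u => chkO2 tab orb u) u = true := ext_range (a := 194764) (len := 1334) h146 o2_146
  have h148 : ∀ u < 197432, (fun u => chkO2 tab orb u) u = true := ext_range (a := 196098) (len := 1334) h147 o2_147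
  have h149 : ∀ u < 198766, (fun u => chkO2 tab orb u) u = true := ext_range (a := 197432) (len := 1334) h148 o2_148
  have h150 : ∀ u < 200100, (fun u => chkO2 tab orb u) u = true := ext_range (a := 198766) (len := 1334) h149 o2_149
  have h151 : ∀ u < 201434, (fun u => chkO2 tab orb u) u = true := ext_range (a := 200100) (len := 1334) h150 o2_150
  have h152 : ∀ u < 202768, (fun u => chkO2 tab orb u) u = true := ext_range (a := 201434) (len := 1334) h151 o2_151
  have h153 : ∀ u < 204102, (fun u => chkO2 tab orb u) u = true := ext_range (a := 202768) (len := 1334) h152 o2_152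
  have h154 : ∀ u < 205436, (fun u => chkO2 tab orb u) u = true := ext_range (a := 204102) (len := 1334) h153 o2_153
  have h155 : ∀ u < 206770, (fun u => chkO2 tab orb u) u = true := ext_range (a := 205436) (len := 1334) h154 o2_154
  have h156 : ∀ u < 208104, (fun u => chkO2 tab orb u) u = true := ext_range (a := 206770) (len := 1334) h155 o2_155
  have h157 : ∀ u < 209438, (fun u => chkO2 tab orb u) u = true := ext_range (a := 208104) (len := 1334) h156 o2_156
  have h158 : ∀ u < 210772, (fun u => chkO2 tab orb u) u = true := ext_range (a := 209438) (len := 1334) h157 o2_157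
  have h159 : ∀ u < 212106, (fun u => chkO2 tab orb u) u = true := ext_range (a := 210772) (len := 1334) h158 o2_158
  have h160 : ∀ u < 213440, (fun u => chkO2 tab orb u) u = true := ext_range (a := 212106) (len := 1334) h159 o2_159
  have h161 : ∀ u < 214774, (fun u => chkO2 tab orb u) u = true := ext_range (a := 213440) (len := 1334) h160 o2_160
  have h162 : ∀ u < 216108, (fun u => chkO2 tab orb u) u = true := ext_range (a := 214774) (len := 1334) h161 o2_161
  have h163 : ∀ u < 217442, (fun u => chkO2 tab orb u) u = true := ext_range (a := 216108) (len := 1334) h162 o2_162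
  have h164 : ∀ u < 218776, (fun u => chkO2 tab orb u) u = true := ext_range (a := 217442) (len := 1334) h163 o2_163
  have h165 : ∀ u < 220110, (fun u => chkO2 tab orb u) u = true := ext_range (a := 218776) (len := 1334) h164 o2_164
  have h166 : ∀ u < 221444, (fun u => chkO2 tab orb u) u = true := ext_range (a := 220110) (len := 1334) h165 o2_165
  have h167 : ∀ u < 222778, (fun u => chkO2 tab orb u) u = true := ext_range (a := 221444) (len := 1334) h166 o2_166
  have h168 : ∀ u < 224112, (fun u => chkO2 tab orb u) u = true := ext_range (a := 222778) (len := 1334) h167 o2_167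
  have h169 : ∀ u < 225446, (fun u => chkO2 tab orb u) u = true := ext_range (a := 224112) (len := 1334) h168 o2_168
  have h170 : ∀ u < 226780, (fun u => chkO2 tab orb u) u = true := ext_range (a := 225446) (len := 1334) h169 o2_169
  have h171 : ∀ u < 228114, (fun u => chkO2 tab orb u) u = true := ext_range (a := 226780) (len := 1334) h170 o2_170
  have h172 : ∀ u < 229448, (fun u => chkO2 tab orb u) u = true := ext_range (a := 228114) (len := 1334) h171 o2_171
  have h173 : ∀ u < 230782, (fun u => chkO2 tab orb u) u = true := ext_range (a := 229448) (len := 1334) h172 o2_172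
  have h174 : ∀ u < 232116, (fun u => chkO2 tab orb u) u = true := ext_range (a := 230782) (len := 1334) h173 o2_173
  have h175 : ∀ u < 233450, (fun u => chkO2 tab orb u) u = true := ext_range (a := 232116) (len := 1334) h174 o2_174
  have h176 : ∀ u < 234784, (fun u => chkO2 tab orb u) u = true := ext_range (a := 233450) (len := 1334) h175 o2_175
  have h177 : ∀ u < 236118, (fun u => chkO2 tab orb u) u = true := ext_range (a := 234784) (len := 1334) h176 o2_176
  have h178 : ∀ u < 237452, (fun u => chkO2 tab orb u) u = true := ext_range (a := 236118) (len := 1334) h177 o2_177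
  have h179 : ∀ u < 238786, (fun u => chkO2 tab orb u) u = true := ext_range (a := 237452) (len := 1334) h178 o2_178
  have h180 : ∀ u < 240120, (fun u => chkO2 tab orb u) u = true := ext_range (a := 238786) (len := 1334) h179 o2_179
  have h181 : ∀ u < 241454, (fun u => chkO2 tab orb u) u = true := ext_range (a := 240120) (len := 1334) h180 o2_180
  have h182 : ∀ u < 242788, (fun u => chkO2 tab orb u) u = true := ext_range (a := 241454) (len := 1334) h181 o2_181
  have h183 : ∀ u < 244122, (fun u => chkO2 tab orb u) u = true := ext_range (a := 242788) (len := 1334) h182 o2_182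
  have h184 : ∀ u < 245456, (fun u => chkO2 tab orb u) u = true := ext_range (a := 244122) (len := 1334) h183 o2_183
  have h185 : ∀ u < 246790, (fun u => chkO2 tab orb u) u = true := ext_range (a := 245456) (len := 1334) h184 o2_184
  have h186 : ∀ u < 248124, (fun u => chkO2 tab orb u) u = true := ext_range (a := 246790) (len := 1334) h185 o2_185
  have h187 : ∀ u < 249458, (fun u => chkO2 tab orb u) u = true := ext_range (a := 248124) (len := 1334) h186 o2_186
  have h188 : ∀ u < 250792, (fun u => chkO2 tab orb u) u = true := ext_range (a := 249458) (len := 1334) h187 o2_187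
  have h189 : ∀ u < 252126, (fun u => chkO2 tab orb u) u = true := ext_range (a := 250792) (len := 1334) h188 o2_188
  have h190 : ∀ u < 253460, (fun u => chkO2 tab orb u) u = true := ext_range (a := 252126) (len := 1334) h189 o2_189
  have h191 : ∀ u < 254794, (fun u => chkO2 tab orb u) u = true := ext_range (a := 253460) (len := 1334) h190 o2_190
  have h192 : ∀ u < 256128, (fun u => chkO2 tab orb u) u = true := ext_range (a := 254794) (len := 1334) h191 o2_191
  have h193 : ∀ u < 257462, (fun u => chkO2 tab orb u) u = true := ext_range (a := 256128) (len := 1334) h192 o2_192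
  have h194 : ∀ u < 258796, (fun u => chkO2 tab orb u) u = true := ext_range (a := 257462) (len := 1334) h193 o2_193
  have h195 : ∀ u < 260130, (fun u => chkO2 tab orb u) u = true := ext_range (a := 258796) (len := 1334) h194 o2_194
  have h196 : ∀ u < 261464, (fun u => chkO2 tab orb u) u = true := ext_range (a := 260130) (len := 1334) h195 o2_195
  have h197 : ∀ u < 262798, (fun u => chkO2 tab orb u) u = true := ext_range (a := 261464) (len := 1334) h196 o2_196
  have h198 : ∀ u < 264132, (fun u => chkO2 tab orb u) u = true := ext_range (a := 262798) (len := 1334) h197 o2_197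
  have h199 : ∀ u < 265466, (fun u => chkO2 tab orb u) u = true := ext_range (a := 264132) (len := 1334) h198 o2_198
  have h200 : ∀ u < 266800, (fun u => chkO2 tab orb u) u = true := ext_range (a := 265466) (len := 1334) h199 o2_199
  have h201 : ∀ u < 268134, (fun u => chkO2 tab orb u) u = true := ext_range (a := 266800) (len := 1334) h200 o2_200
  have h202 : ∀ u < 269468, (fun u => chkO2 tab orb u) u = true := ext_range (a := 268134) (len := 1334) h201 o2_201
  have h203 : ∀ u < 270802, (fun u => chkO2 tab orb u) u = true := ext_range (a := 269468) (len := 1334) h202 o2_202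
  have h204 : ∀ u < 272136, (fun u => chkO2 tab orb u) u = true := ext_range (a := 270802) (len := 1334) h203 o2_203
  have h205 : ∀ u < 273470, (fun u => chkO2 tab orb u) u = true := ext_range (a := 272136) (len := 1334) h204 o2_204
  have h206 : ∀ u < 274804, (fun u => chkO2 tab orb u) u = true := ext_range (a := 273470) (len := 1334) h205 o2_205
  have h207 : ∀ u < 276138, (fun u => chkO2 tab orb u) u = true := ext_range (a := 274804) (len := 1334) h206 o2_206
  have h208 : ∀ u < 277472, (fun u => chkO2 tab orb u) u = true := ext_range (a := 276138) (len := 1334) h207 o2_207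
  have h209 : ∀ u < 278806, (fun u => chkO2 tab orb u) u = true := ext_range (a := 277472) (len := 1334) h208 o2_208
  have h210 : ∀ u < 280140, (fun u => chkO2 tab orb u) u = true := ext_range (a := 278806) (len := 1334) h209 o2_209
  have h211 : ∀ u < 281474, (fun u => chkO2 tab orb u) u = true := ext_range (a := 280140) (len := 1334) h210 o2_210
  have h212 : ∀ u < 282808, (fun u => chkO2 tab orb u) u = true := ext_range (a := 281474) (len := 1334) h211 o2_211
  have h213 : ∀ u < 284142, (fun u => chkO2 tab orb u) u = true := ext_range (a := 282808) (len := 1334) h212 o2_212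
  have h214 : ∀ u < 285476, (fun u => chkO2 tab orb u) u = true := ext_range (a := 284142) (len := 1334) h213 o2_213
  have h215 : ∀ u < 286810, (fun u => chkO2 tab orb u) u = true := ext_range (a := 285476) (len := 1334) h214 o2_214
  have h216 : ∀ u < 288144, (fun u => chkO2 tab orb u) u = true := ext_range (a := 286810) (len := 1334) h215 o2_215
  have h217 : ∀ u < 289478, (fun u => chkO2 tab orb u) u = true := ext_range (a := 288144) (len := 1334) h216 o2_216
  have h218 : ∀ u < 290812, (fun u => chkO2 tab orb u) u = true := ext_range (a := 289478) (len := 1334) h217 o2_217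
  have h219 : ∀ u < 292146, (fun u => chkO2 tab orb u) u = true := ext_range (a := 290812) (len := 1334) h218 o2_218
  have h220 : ∀ u < 293480, (fun u => chkO2 tab orb u) u = true := ext_range (a := 292146) (len := 1334) h219 o2_219
  have h221 : ∀ u < 294814, (fun u => chkO2 tab orb u) u = true := ext_range (a := 293480) (len := 1334) h220 o2_220
  have h222 : ∀ u < 296148, (fun u => chkO2 tab orb u) u = true := ext_range (a := 294814) (len := 1334) h221 o2_221
  have h223 : ∀ u < 297482, (fun u => chkO2 tab orb u) u = true := ext_range (a := 296148) (len := 1334) h222 o2_222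
  have h224 : ∀ u < 298816, (fun u => chkO2 tab orb u) u = true := ext_range (a := 297482) (len := 1334) h223 o2_223
  have h225 : ∀ u < 300150, (fun u => chkO2 tab orb u) u = true := ext_range (a := 298816) (len := 1334) h224 o2_224
  have h226 : ∀ u < 301484, (fun u => chkO2 tab orb u) u = true := ext_range (a := 300150) (len := 1334) h225 o2_225
  have h227 : ∀ u < 302818, (fun u => chkO2 tab orb u) u = true := ext_range (a := 301484) (len := 1334) h226 o2_226
  have h228 : ∀ u < 304152, (fun u => chkO2 tab orb u) u = true := ext_range (a := 302818) (len := 1334) h227 o2_227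
  have h229 : ∀ u < 305486, (fun u => chkO2 tab orb u) u = true := ext_range (a := 304152) (len := 1334) h228 o2_228
  have h230 : ∀ u < 306820, (fun u => chkO2 tab orb u) u = true := ext_range (a := 305486) (len := 1334) h229 o2_229
  have h231 : ∀ u < 306936, (fun u => chkO2 tab orb u) u = true := ext_range (a := 306820) (len := 116) h230 o2_230
  exact h231

theorem hOL : ∀ u < 306936, Nat.blt (orb.lab u) 3 = true := by
  have h0 : ∀ u < 0, (fun u => Nat.blt (orb.lab u) 3) u = true := range_zero
  have h1 : ∀ u < 8000, (fun u => Nat.blt (orb.lab u) 3) u = true := ext_range (a := 0) (len := 8000) h0 ol_0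
  have h2 : ∀ u < 16000, (fun u => Nat.blt (orb.lab u) 3) u = true := ext_range (a := 8000) (len := 8000) h1 ol_1
  have h3 : ∀ u < 24000, (fun u => Nat.blt (orb.lab u) 3) u = true := ext_range (a := 16000) (len := 8000) h2 ol_2
  have h4 : ∀ u < 32000, (fun u => Nat.blt (orb.lab u) 3) u = true := ext_range (a := 24000) (len := 8000) h3 ol_3
  have h5 : ∀ u < 40000, (fun u => Nat.blt (orb.lab u) 3) u = true := ext_range (a := 32000) (len := 8000) h4 ol_4
  have h6 : ∀ u < 48000, (fun u => Nat.blt (orb.lab u) 3) u = true := ext_range (a := 40000) (len := 8000) h5 ol_5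
  have h7 : ∀ u < 56000, (fun u => Nat.blt (orb.lab u) 3) u = true := ext_range (a := 48000) (len := 8000) h6 ol_6
  have h8 : ∀ u < 64000, (fun u => Nat.blt (orb.lab u) 3) u = true := ext_range (a := 56000) (len := 8000) h7 ol_7
  have h9 : ∀ u < 72000, (fun u => Nat.blt (orb.lab u) 3) u = true := ext_range (a := 64000) (len := 8000) h8 ol_8
  have h10 : ∀ u < 80000, (fun u => Nat.blt (orb.lab u) 3) u = true := ext_range (a := 72000) (len := 8000) h9 ol_9
  have h11 : ∀ u < 88000, (fun u => Nat.blt (orb.lab u) 3) u = true := ext_range (a := 80000) (len := 8000) h10 ol_10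
  have h12 : ∀ u < 96000, (fun u => Nat.blt (orb.lab u) 3) u = true := ext_range (a := 88000) (len := 8000) h11 ol_11
  have h13 : ∀ u < 104000, (fun u => Nat.blt (orb.lab u) 3) u = true := ext_range (a := 96000) (len := 8000) h12 ol_12
  have h14 : ∀ u < 112000, (fun u => Nat.blt (orb.lab u) 3) u = true := ext_range (a := 104000) (len := 8000) h13 ol_13
  have h15 : ∀ u < 120000, (fun u => Nat.blt (orb.lab u) 3) u = true := ext_range (a := 112000) (len := 8000) h14 ol_14
  have h16 : ∀ u < 128000, (fun u => Nat.blt (orb.lab u) 3) u = true := ext_range (a := 120000) (len := 8000) h15 ol_15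
  have h17 : ∀ u < 136000, (fun u => Nat.blt (orb.lab u) 3) u = true := ext_range (a := 128000) (len := 8000) h16 ol_16
  have h18 : ∀ u < 144000, (fun u => Nat.blt (orb.lab u) 3) u = true := ext_range (a := 136000) (len := 8000) h17 ol_17
  have h19 : ∀ u < 152000, (fun u => Nat.blt (orb.lab u) 3) u = true := ext_range (a := 144000) (len := 8000) h18 ol_18
  have h20 : ∀ u < 160000, (fun u => Nat.blt (orb.lab u) 3) u = true := ext_range (a := 152000) (len := 8000) h19 ol_19
  have h21 : ∀ u < 168000, (fun u => Nat.blt (orb.lab u) 3) u = true := ext_range (a := 160000) (len := 8000) h20 ol_20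
  have h22 : ∀ u < 176000, (fun u => Nat.blt (orb.lab u) 3) u = true := ext_range (a := 168000) (len := 8000) h21 ol_21
  have h23 : ∀ u < 184000, (fun u => Nat.blt (orb.lab u) 3) u = true := ext_range (a := 176000) (len := 8000) h22 ol_22
  have h24 : ∀ u < 192000, (fun u => Nat.blt (orb.lab u) 3) u = true := ext_range (a := 184000) (len := 8000) h23 ol_23
  have h25 : ∀ u < 200000, (fun u => Nat.blt (orb.lab u) 3) u = true := ext_range (a := 192000) (len := 8000) h24 ol_24
  have h26 : ∀ u < 208000, (fun u => Nat.blt (orb.lab u) 3) u = true := ext_range (a := 200000) (len := 8000) h25 ol_25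
  have h27 : ∀ u < 216000, (fun u => Nat.blt (orb.lab u) 3) u = true := ext_range (a := 208000) (len := 8000) h26 ol_26
  have h28 : ∀ u < 224000, (fun u => Nat.blt (orb.lab u) 3) u = true := ext_range (a := 216000) (len := 8000) h27 ol_27
  have h29 : ∀ u < 232000, (fun u => Nat.blt (orb.lab u) 3) u = true := ext_range (a := 224000) (len := 8000) h28 ol_28
  have h30 : ∀ u < 240000, (fun u => Nat.blt (orb.lab u) 3) u = true := ext_range (a := 232000) (len := 8000) h29 ol_29
  have h31 : ∀ u < 248000, (fun u => Nat.blt (orb.lab u) 3) u = true := ext_range (a := 240000) (len := 8000) h30 ol_30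
  have h32 : ∀ u < 256000, (fun u => Nat.blt (orb.lab u) 3) u = true := ext_range (a := 248000) (len := 8000) h31 ol_31
  have h33 : ∀ u < 264000, (fun u => Nat.blt (orb.lab u) 3) u = true := ext_range (a := 256000) (len := 8000) h32 ol_32
  have h34 : ∀ u < 272000, (fun u => Nat.blt (orb.lab u) 3) u = true := ext_range (a := 264000) (len := 8000) h33 ol_33
  have h35 : ∀ u < 280000, (fun u => Nat.blt (orb.lab u) 3) u = true := ext_range (a := 272000) (len := 8000) h34 ol_34
  have h36 : ∀ u < 288000, (fun u => Nat.blt (orb.lab u) 3) u = true := ext_range (a := 280000) (len := 8000) h35 ol_35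
  have h37 : ∀ u < 296000, (fun u => Nat.blt (orb.lab u) 3) u = true := ext_range (a := 288000) (len := 8000) h36 ol_36
  have h38 : ∀ u < 304000, (fun u => Nat.blt (orb.lab u) 3) u = true := ext_range (a := 296000) (len := 8000) h37 ol_37
  have h39 : ∀ u < 306936, (fun u => Nat.blt (orb.lab u) 3) u = true := ext_range (a := 304000) (len := 2936) h38 ol_38
  exact h39

theorem hXP : ∀ u < 306936, chkXP tab xc xw u = true := by
  have h0 : ∀ u < 0, (fun u => chkXP tab xc xw u) u = true := range_zero
  have h1 : ∀ u < 301, (fun u => chkXP tab xc xw u) u = true := ext_range (a := 0) (len := 301) h0 xp_0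
  have h2 : ∀ u < 602, (fun u => chkXP tab xc xw u) u = true := ext_range (a := 301) (len := 301) h1 xp_1
  have h3 : ∀ u < 903, (fun u => chkXP tab xc xw u) u = true := ext_range (a := 602) (len := 301) h2 xp_2
  have h4 : ∀ u < 1204, (fun u => chkXP tab xc xw u) u = true := ext_range (a := 903) (len := 301) h3 xp_3
  have h5 : ∀ u < 1505, (fun u => chkXP tab xc xw u) u = true := ext_range (a := 1204) (len := 301) h4 xp_4
  have h6 : ∀ u < 1806, (fun u => chkXP tab xc xw u) u = true := ext_range (a := 1505) (len := 301) h5 xp_5
  have h7 : ∀ u < 2107, (fun u => chkXP tab xc xw u) u = true := ext_range (a := 1806) (len := 301) h6 xp_6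
  have h8 : ∀ u < 2408, (fun u => chkXP tab xc xw u) u = true := ext_range (a := 2107) (len := 301) h7 xp_7
  have h9 : ∀ u < 2709, (fun u => chkXP tab xc xw u) u = true := ext_range (a := 2408) (len := 301) h8 xp_8
  have h10 : ∀ u < 3010, (fun u => chkXP tab xc xw u) u = true := ext_range (a := 2709) (len := 301) h9 xp_9
  have h11 : ∀ u < 3311, (fun u => chkXP tab xc xw u) u = true := ext_range (a := 3010) (len := 301) h10 xp_10
  have h12 : ∀ u < 3612, (fun u => chkXP tab xc xw u) u = true := ext_range (a := 3311) (len := 301) h11 xp_11
  have h13 : ∀ u < 3913, (fun u => chkXP tab xc xw u) u = true := ext_range (a := 3612) (len := 301) h12 xp_12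
  have h14 : ∀ u < 4214, (fun u => chkXP tab xc xw u) u = true := ext_range (a := 3913) (len := 301) h13 xp_13
  have h15 : ∀ u < 4515, (fun u => chkXP tab xc xw u) u = true := ext_range (a := 4214) (len := 301) h14 xp_14
  have h16 : ∀ u < 4816, (fun u => chkXP tab xc xw u) u = true := ext_range (a := 4515) (len := 301) h15 xp_15
  have h17 : ∀ u < 5117, (fun u => chkXP tab xc xw u) u = true := ext_range (a := 4816) (len := 301) h16 xp_16
  have h18 : ∀ u < 5418, (fun u => chkXP tab xc xw u) u = true := ext_range (a := 5117) (len := 301) h17 xp_17
  have h19 : ∀ u < 5719, (fun u => chkXP tab xc xw u) u = true := ext_range (a := 5418) (len := 301) h18 xp_18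
  have h20 : ∀ u < 6020, (fun u => chkXP tab xc xw u) u = true := ext_range (a := 5719) (len := 301) h19 xp_19
  have h21 : ∀ u < 6321, (fun u => chkXP tab xc xw u) u = true := ext_range (a := 6020) (len := 301) h20 xp_20
  have h22 : ∀ u < 6622, (fun u => chkXP tab xc xw u) u = true := ext_range (a := 6321) (len := 301) h21 xp_21
  have h23 : ∀ u < 6923, (fun u => chkXP tab xc xw u) u = true := ext_range (a := 6622) (len := 301) h22 xp_22
  have h24 : ∀ u < 7224, (fun u => chkXP tab xc xw u) u = true := ext_range (a := 6923) (len := 301) h23 xp_23
  have h25 : ∀ u < 7525, (fun u => chkXP tab xc xw u) u = true := ext_range (a := 7224) (len := 301) h24 xp_24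
  have h26 : ∀ u < 7826, (fun u => chkXP tab xc xw u) u = true := ext_range (a := 7525) (len := 301) h25 xp_25
  have h27 : ∀ u < 8127, (fun u => chkXP tab xc xw u) u = true := ext_range (a := 7826) (len := 301) h26 xp_26
  have h28 : ∀ u < 8428, (fun u => chkXP tab xc xw u) u = true := ext_range (a := 8127) (len := 301) h27 xp_27
  have h29 : ∀ u < 8729, (fun u => chkXP tab xc xw u) u = true := ext_range (a := 8428) (len := 301) h28 xp_28
  have h30 : ∀ u < 9030, (fun u => chkXP tab xc xw u) u = true := ext_range (a := 8729) (len := 301) h29 xp_29
  have h31 : ∀ u < 9331, (fun u => chkXP tab xc xw u) u = true := ext_range (a := 9030) (len := 301) h30 xp_30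
  have h32 : ∀ u < 9632, (fun u => chkXP tab xc xw u) u = true := ext_range (a := 9331) (len := 301) h31 xp_31
  have h33 : ∀ u < 9933, (fun u => chkXP tab xc xw u) u = true := ext_range (a := 9632) (len := 301) h32 xp_32
  have h34 : ∀ u < 10234, (fun u => chkXP tab xc xw u) u = true := ext_range (a := 9933) (len := 301) h33 xp_33
  have h35 : ∀ u < 10535, (fun u => chkXP tab xc xw u) u = true := ext_range (a := 10234) (len := 301) h34 xp_34
  have h36 : ∀ u < 10836, (fun u => chkXP tab xc xw u) u = true := ext_range (a := 10535) (len := 301) h35 xp_35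
  have h37 : ∀ u < 11137, (fun u => chkXP tab xc xw u) u = true := ext_range (a := 10836) (len := 301) h36 xp_36
  have h38 : ∀ u < 11438, (fun u => chkXP tab xc xw u) u = true := ext_range (a := 11137) (len := 301) h37 xp_37
  have h39 : ∀ u < 11739, (fun u => chkXP tab xc xw u) u = true := ext_range (a := 11438) (len := 301) h38 xp_38
  have h40 : ∀ u < 12040, (fun u => chkXP tab xc xw u) u = true := ext_range (a := 11739) (len := 301) h39 xp_39
  have h41 : ∀ u < 12341, (fun u => chkXP tab xc xw u) u = true := ext_range (a := 12040) (len := 301) h40 xp_40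
  have h42 : ∀ u < 12642, (fun u => chkXP tab xc xw u) u = true := ext_range (a := 12341) (len := 301) h41 xp_41
  have h43 : ∀ u < 12943, (fun u => chkXP tab xc xw u) u = true := ext_range (a := 12642) (len := 301) h42 xp_42
  have h44 : ∀ u < 13244, (fun u => chkXP tab xc xw u) u = true := ext_range (a := 12943) (len := 301) h43 xp_43
  have h45 : ∀ u < 13545, (fun u => chkXP tab xc xw u) u = true := ext_range (a := 13244) (len := 301) h44 xp_44
  have h46 : ∀ u < 13846, (fun u => chkXP tab xc xw u) u = true := ext_range (a := 13545) (len := 301) h45 xp_45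
  have h47 : ∀ u < 14147, (fun u => chkXP tab xc xw u) u = true := ext_range (a := 13846) (len := 301) h46 xp_46
  have h48 : ∀ u < 14448, (fun u => chkXP tab xc xw u) u = true := ext_range (a := 14147) (len := 301) h47 xp_47
  have h49 : ∀ u < 14749, (fun u => chkXP tab xc xw u) u = true := ext_range (a := 14448) (len := 301) h48 xp_48
  have h50 : ∀ u < 15050, (fun u => chkXP tab xc xw u) u = true := ext_range (a := 14749) (len := 301) h49 xp_49
  have h51 : ∀ u < 15351, (fun u => chkXP tab xc xw u) u = true := ext_range (a := 15050) (len := 301) h50 xp_50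
  have h52 : ∀ u < 15652, (fun u => chkXP tab xc xw u) u = true := ext_range (a := 15351) (len := 301) h51 xp_51
  have h53 : ∀ u < 15953, (fun u => chkXP tab xc xw u) u = true := ext_range (a := 15652) (len := 301) h52 xp_52
  have h54 : ∀ u < 16254, (fun u => chkXP tab xc xw u) u = true := ext_range (a := 15953) (len := 301) h53 xp_53
  have h55 : ∀ u < 16555, (fun u => chkXP tab xc xw u) u = true := ext_range (a := 16254) (len := 301) h54 xp_54
  have h56 : ∀ u < 16856, (fun u => chkXP tab xc xw u) u = true := ext_range (a := 16555) (len := 301) h55 xp_55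
  have h57 : ∀ u < 17157, (fun u => chkXP tab xc xw u) u = true := ext_range (a := 16856) (len := 301) h56 xp_56
  have h58 : ∀ u < 17458, (fun u => chkXP tab xc xw u) u = true := ext_range (a := 17157) (len := 301) h57 xp_57
  have h59 : ∀ u < 17759, (fun u => chkXP tab xc xw u) u = true := ext_range (a := 17458) (len := 301) h58 xp_58
  have h60 : ∀ u < 18060, (fun u => chkXP tab xc xw u) u = true := ext_range (a := 17759) (len := 301) h59 xp_59
  have h61 : ∀ u < 18361, (fun u => chkXP tab xc xw u) u = true := ext_range (a := 18060) (len := 301) h60 xp_60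
  have h62 : ∀ u < 18662, (fun u => chkXP tab xc xw u) u = true := ext_range (a := 18361) (len := 301) h61 xp_61
  have h63 : ∀ u < 18963, (fun u => chkXP tab xc xw u) u = true := ext_range (a := 18662) (len := 301) h62 xp_62
  have h64 : ∀ u < 19264, (fun u => chkXP tab xc xw u) u = true := ext_range (a := 18963) (len := 301) h63 xp_63
  have h65 : ∀ u < 19565, (fun u => chkXP tab xc xw u) u = true := ext_range (a := 19264) (len := 301) h64 xp_64
  have h66 : ∀ u < 19866, (fun u => chkXP tab xc xw u) u = true := ext_range (a := 19565) (len := 301) h65 xp_65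
  have h67 : ∀ u < 20167, (fun u => chkXP tab xc xw u) u = true := ext_range (a := 19866) (len := 301) h66 xp_66
  have h68 : ∀ u < 20468, (fun u => chkXP tab xc xw u) u = true := ext_range (a := 20167) (len := 301) h67 xp_67
  have h69 : ∀ u < 20769, (fun u => chkXP tab xc xw u) u = true := ext_range (a := 20468) (len := 301) h68 xp_68
  have h70 : ∀ u < 21070, (fun u => chkXP tab xc xw u) u = true := ext_range (a := 20769) (len := 301) h69 xp_69
  have h71 : ∀ u < 21371, (fun u => chkXP tab xc xw u) u = true := ext_range (a := 21070) (len := 301) h70 xp_70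
  have h72 : ∀ u < 21672, (fun u => chkXP tab xc xw u) u = true := ext_range (a := 21371) (len := 301) h71 xp_71
  have h73 : ∀ u < 21973, (fun u => chkXP tab xc xw u) u = true := ext_range (a := 21672) (len := 301) h72 xp_72
  have h74 : ∀ u < 22274, (fun u => chkXP tab xc xw u) u = true := ext_range (a := 21973) (len := 301) h73 xp_73
  have h75 : ∀ u < 22575, (fun u => chkXP tab xc xw u) u = true := ext_range (a := 22274) (len := 301) h74 xp_74
  have h76 : ∀ u < 22876, (fun u => chkXP tab xc xw u) u = true := ext_range (a := 22575) (len := 301) h75 xp_75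
  have h77 : ∀ u < 23177, (fun u => chkXP tab xc xw u) u = true := ext_range (a := 22876) (len := 301) h76 xp_76
  have h78 : ∀ u < 23478, (fun u => chkXP tab xc xw u) u = true := ext_range (a := 23177) (len := 301) h77 xp_77
  have h79 : ∀ u < 23779, (fun u => chkXP tab xc xw u) u = true := ext_range (a := 23478) (len := 301) h78 xp_78
  have h80 : ∀ u < 24080, (fun u => chkXP tab xc xw u) u = true := ext_range (a := 23779) (len := 301) h79 xp_79
  have h81 : ∀ u < 24381, (fun u => chkXP tab xc xw u) u = true := ext_range (a := 24080) (len := 301) h80 xp_80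
  have h82 : ∀ u < 24682, (fun u => chkXP tab xc xw u) u = true := ext_range (a := 24381) (len := 301) h81 xp_81
  have h83 : ∀ u < 24983, (fun u => chkXP tab xc xw u) u = true := ext_range (a := 24682) (len := 301) h82 xp_82
  have h84 : ∀ u < 25284, (fun u => chkXP tab xc xw u) u = true := ext_range (a := 24983) (len := 301) h83 xp_83
  have h85 : ∀ u < 25585, (fun u => chkXP tab xc xw u) u = true := ext_range (a := 25284) (len := 301) h84 xp_84
  have h86 : ∀ u < 25886, (fun u => chkXP tab xc xw u) u = true := ext_range (a := 25585) (len := 301) h85 xp_85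
  have h87 : ∀ u < 26187, (fun u => chkXP tab xc xw u) u = true := ext_range (a := 25886) (len := 301) h86 xp_86
  have h88 : ∀ u < 26488, (fun u => chkXP tab xc xw u) u = true := ext_range (a := 26187) (len := 301) h87 xp_87
  have h89 : ∀ u < 26789, (fun u => chkXP tab xc xw u) u = true := ext_range (a := 26488) (len := 301) h88 xp_88
  have h90 : ∀ u < 27090, (fun u => chkXP tab xc xw u) u = true := ext_range (a := 26789) (len := 301) h89 xp_89
  have h91 : ∀ u < 27391, (fun u => chkXP tab xc xw u) u = true := ext_range (a := 27090) (len := 301) h90 xp_90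
  have h92 : ∀ u < 27692, (fun u => chkXP tab xc xw u) u = true := ext_range (a := 27391) (len := 301) h91 xp_91
  have h93 : ∀ u < 27993, (fun u => chkXP tab xc xw u) u = true := ext_range (a := 27692) (len := 301) h92 xp_92
  have h94 : ∀ u < 28294, (fun u => chkXP tab xc xw u) u = true := ext_range (a := 27993) (len := 301) h93 xp_93
  have h95 : ∀ u < 28595, (fun u => chkXP tab xc xw u) u = true := ext_range (a := 28294) (len := 301) h94 xp_94
  have h96 : ∀ u < 28896, (fun u => chkXP tab xc xw u) u = true := ext_range (a := 28595) (len := 301) h95 xp_95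
  have h97 : ∀ u < 29197, (fun u => chkXP tab xc xw u) u = true := ext_range (a := 28896) (len := 301) h96 xp_96
  have h98 : ∀ u < 29498, (fun u => chkXP tab xc xw u) u = true := ext_range (a := 29197) (len := 301) h97 xp_97
  have h99 : ∀ u < 29799, (fun u => chkXP tab xc xw u) u = true := ext_range (a := 29498) (len := 301) h98 xp_98
  have h100 : ∀ u < 30100, (fun u => chkXP tab xc xw u) u = true := ext_range (a := 29799) (len := 301) h99 xp_99
  have h101 : ∀ u < 30401, (fun u => chkXP tab xc xw u) u = true := ext_range (a := 30100) (len := 301) h100 xp_100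
  have h102 : ∀ u < 30702, (fun u => chkXP tab xc xw u) u = true := ext_range (a := 30401) (len := 301) h101 xp_101
  have h103 : ∀ u < 31003, (fun u => chkXP tab xc xw u) u = true := ext_range (a := 30702) (len := 301) h102 xp_102
  have h104 : ∀ u < 31304, (fun u => chkXP tab xc xw u) u = true := ext_range (a := 31003) (len := 301) h103 xp_103
  have h105 : ∀ u < 31605, (fun u => chkXP tab xc xw u) u = true := ext_range (a := 31304) (len := 301) h104 xp_104
  have h106 : ∀ u < 31906, (fun u => chkXP tab xc xw u) u = true := ext_range (a := 31605) (len := 301) h105 xp_105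
  have h107 : ∀ u < 32207, (fun u => chkXP tab xc xw u) u = true := ext_range (a := 31906) (len := 301) h106 xp_106
  have h108 : ∀ u < 32508, (fun u => chkXP tab xc xw u) u = true := ext_range (a := 32207) (len := 301) h107 xp_107
  have h109 : ∀ u < 32809, (fun u => chkXP tab xc xw u) u = true := ext_range (a := 32508) (len := 301) h108 xp_108
  have h110 : ∀ u < 33110, (fun u => chkXP tab xc xw u) u = true := ext_range (a := 32809) (len := 301) h109 xp_109
  have h111 : ∀ u < 33411, (fun u => chkXP tab xc xw u) u = true := ext_range (a := 33110) (len := 301) h110 xp_110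
  have h112 : ∀ u < 33712, (fun u => chkXP tab xc xw u) u = true := ext_range (a := 33411) (len := 301) h111 xp_111
  have h113 : ∀ u < 34013, (fun u => chkXP tab xc xw u) u = true := ext_range (a := 33712) (len := 301) h112 xp_112
  have h114 : ∀ u < 34314, (fun u => chkXP tab xc xw u) u = true := ext_range (a := 34013) (len := 301) h113 xp_113
  have h115 : ∀ u < 34615, (fun u => chkXP tab xc xw u) u = true := ext_range (a := 34314) (len := 301) h114 xp_114
  have h116 : ∀ u < 34916, (fun u => chkXP tab xc xw u) u = true := ext_range (a := 34615) (len := 301) h115 xp_115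
  have h117 : ∀ u < 35217, (fun u => chkXP tab xc xw u) u = true := ext_range (a := 34916) (len := 301) h116 xp_116
  have h118 : ∀ u < 35518, (fun u => chkXP tab xc xw u) u = true := ext_range (a := 35217) (len := 301) h117 xp_117
  have h119 : ∀ u < 35819, (fun u => chkXP tab xc xw u) u = true := ext_range (a := 35518) (len := 301) h118 xp_118
  have h120 : ∀ u < 36120, (fun u => chkXP tab xc xw u) u = true := ext_range (a := 35819) (len := 301) h119 xp_119
  have h121 : ∀ u < 36421, (fun u => chkXP tab xc xw u) u = true := ext_range (a := 36120) (len := 301) h120 xp_120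
  have h122 : ∀ u < 36722, (fun u => chkXP tab xc xw u) u = true := ext_range (a := 36421) (len := 301) h121 xp_121
  have h123 : ∀ u < 37023, (fun u => chkXP tab xc xw u) u = true := ext_range (a := 36722) (len := 301) h122 xp_122
  have h124 : ∀ u < 37324, (fun u => chkXP tab xc xw u) u = true := ext_range (a := 37023) (len := 301) h123 xp_123
  have h125 : ∀ u < 37625, (fun u => chkXP tab xc xw u) u = true := ext_range (a := 37324) (len := 301) h124 xp_124
  have h126 : ∀ u < 37926, (fun u => chkXP tab xc xw u) u = true := ext_range (a := 37625) (len := 301) h125 xp_125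
  have h127 : ∀ u < 38227, (fun u => chkXP tab xc xw u) u = true := ext_range (a := 37926) (len := 301) h126 xp_126
  have h128 : ∀ u < 38528, (fun u => chkXP tab xc xw u) u = true := ext_range (a := 38227) (len := 301) h127 xp_127
  have h129 : ∀ u < 38829, (fun u => chkXP tab xc xw u) u = true := ext_range (a := 38528) (len := 301) h128 xp_128
  have h130 : ∀ u < 39130, (fun u => chkXP tab xc xw u) u = true := ext_range (a := 38829) (len := 301) h129 xp_129
  have h131 : ∀ u < 39431, (fun u => chkXP tab xc xw u) u = true := ext_range (a := 39130) (len := 301) h130 xp_130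
  have h132 : ∀ u < 39732, (fun u => chkXP tab xc xw u) u = true := ext_range (a := 39431) (len := 301) h131 xp_131
  have h133 : ∀ u < 40033, (fun u => chkXP tab xc xw u) u = true := ext_range (a := 39732) (len := 301) h132 xp_132
  have h134 : ∀ u < 40334, (fun u => chkXP tab xc xw u) u = true := ext_range (a := 40033) (len := 301) h133 xp_133
  have h135 : ∀ u < 40635, (fun u => chkXP tab xc xw u) u = true := ext_range (a := 40334) (len := 301) h134 xp_134
  have h136 : ∀ u < 40936, (fun u => chkXP tab xc xw u) u = true := ext_range (a := 40635) (len := 301) h135 xp_135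
  have h137 : ∀ u < 41237, (fun u => chkXP tab xc xw u) u = true := ext_range (a := 40936) (len := 301) h136 xp_136
  have h138 : ∀ u < 41538, (fun u => chkXP tab xc xw u) u = true := ext_range (a := 41237) (len := 301) h137 xp_137
  have h139 : ∀ u < 41839, (fun u => chkXP tab xc xw u) u = true := ext_range (a := 41538) (len := 301) h138 xp_138
  have h140 : ∀ u < 42140, (fun u => chkXP tab xc xw u) u = true := ext_range (a := 41839) (len := 301) h139 xp_139
  have h141 : ∀ u < 42441, (fun u => chkXP tab xc xw u) u = true := ext_range (a := 42140) (len := 301) h140 xp_140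
  have h142 : ∀ u < 42742, (fun u => chkXP tab xc xw u) u = true := ext_range (a := 42441) (len := 301) h141 xp_141
  have h143 : ∀ u < 43043, (fun u => chkXP tab xc xw u) u = true := ext_range (a := 42742) (len := 301) h142 xp_142
  have h144 : ∀ u < 43344, (fun u => chkXP tab xc xw u) u = true := ext_range (a := 43043) (len := 301) h143 xp_143
  have h145 : ∀ u < 43645, (fun u => chkXP tab xc xw u) u = true := ext_range (a := 43344) (len := 301) h144 xp_144
  have h146 : ∀ u < 43946, (fun u => chkXP tab xc xw u) u = true := ext_range (a := 43645) (len := 301) h145 xp_145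
  have h147 : ∀ u < 44247, (fun u => chkXP tab xc xw u) u = true := ext_range (a := 43946) (len := 301) h146 xp_146
  have h148 : ∀ u < 44548, (fun u => chkXP tab xc xw u) u = true := ext_range (a := 44247) (len := 301) h147 xp_147
  have h149 : ∀ u < 44849, (fun u => chkXP tab xc xw u) u = true := ext_range (a := 44548) (len := 301) h148 xp_148
  have h150 : ∀ u < 45150, (fun u => chkXP tab xc xw u) u = true := ext_range (a := 44849) (len := 301) h149 xp_149
  have h151 : ∀ u < 45451, (fun u => chkXP tab xc xw u) u = true := ext_range (a := 45150) (len := 301) h150 xp_150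
  have h152 : ∀ u < 45752, (fun u => chkXP tab xc xw u) u = true := ext_range (a := 45451) (len := 301) h151 xp_151
  have h153 : ∀ u < 46053, (fun u => chkXP tab xc xw u) u = true := ext_range (a := 45752) (len := 301) h152 xp_152
  have h154 : ∀ u < 46354, (fun u => chkXP tab xc xw u) u = true := ext_range (a := 46053) (len := 301) h153 xp_153
  have h155 : ∀ u < 46655, (fun u => chkXP tab xc xw u) u = true := ext_range (a := 46354) (len := 301) h154 xp_154
  have h156 : ∀ u < 46956, (fun u => chkXP tab xc xw u) u = true := ext_range (a := 46655) (len := 301) h155 xp_155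
  have h157 : ∀ u < 47257, (fun u => chkXP tab xc xw u) u = true := ext_range (a := 46956) (len := 301) h156 xp_156
  have h158 : ∀ u < 47558, (fun u => chkXP tab xc xw u) u = true := ext_range (a := 47257) (len := 301) h157 xp_157
  have h159 : ∀ u < 47859, (fun u => chkXP tab xc xw u) u = true := ext_range (a := 47558) (len := 301) h158 xp_158
  have h160 : ∀ u < 48160, (fun u => chkXP tab xc xw u) u = true := ext_range (a := 47859) (len := 301) h159 xp_159
  have h161 : ∀ u < 48461, (fun u => chkXP tab xc xw u) u = true := ext_range (a := 48160) (len := 301) h160 xp_160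
  have h162 : ∀ u < 48762, (fun u => chkXP tab xc xw u) u = true := ext_range (a := 48461) (len := 301) h161 xp_161
  have h163 : ∀ u < 49063, (fun u => chkXP tab xc xw u) u = true := ext_range (a := 48762) (len := 301) h162 xp_162
  have h164 : ∀ u < 49364, (fun u => chkXP tab xc xw u) u = true := ext_range (a := 49063) (len := 301) h163 xp_163
  have h165 : ∀ u < 49665, (fun u => chkXP tab xc xw u) u = true := ext_range (a := 49364) (len := 301) h164 xp_164
  have h166 : ∀ u < 49966, (fun u => chkXP tab xc xw u) u = true := ext_range (a := 49665) (len := 301) h165 xp_165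
  have h167 : ∀ u < 50267, (fun u => chkXP tab xc xw u) u = true := ext_range (a := 49966) (len := 301) h166 xp_166
  have h168 : ∀ u < 50568, (fun u => chkXP tab xc xw u) u = true := ext_range (a := 50267) (len := 301) h167 xp_167
  have h169 : ∀ u < 50869, (fun u => chkXP tab xc xw u) u = true := ext_range (a := 50568) (len := 301) h168 xp_168
  have h170 : ∀ u < 51170, (fun u => chkXP tab xc xw u) u = true := ext_range (a := 50869) (len := 301) h169 xp_169
  have h171 : ∀ u < 51471, (fun u => chkXP tab xc xw u) u = true := ext_range (a := 51170) (len := 301) h170 xp_170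
  have h172 : ∀ u < 51772, (fun u => chkXP tab xc xw u) u = true := ext_range (a := 51471) (len := 301) h171 xp_171
  have h173 : ∀ u < 52073, (fun u => chkXP tab xc xw u) u = true := ext_range (a := 51772) (len := 301) h172 xp_172
  have h174 : ∀ u < 52374, (fun u => chkXP tab xc xw u) u = true := ext_range (a := 52073) (len := 301) h173 xp_173
  have h175 : ∀ u < 52675, (fun u => chkXP tab xc xw u) u = true := ext_range (a := 52374) (len := 301) h174 xp_174
  have h176 : ∀ u < 52976, (fun u => chkXP tab xc xw u) u = true := ext_range (a := 52675) (len := 301) h175 xp_175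
  have h177 : ∀ u < 53277, (fun u => chkXP tab xc xw u) u = true := ext_range (a := 52976) (len := 301) h176 xp_176
  have h178 : ∀ u < 53578, (fun u => chkXP tab xc xw u) u = true := ext_range (a := 53277) (len := 301) h177 xp_177
  have h179 : ∀ u < 53879, (fun u => chkXP tab xc xw u) u = true := ext_range (a := 53578) (len := 301) h178 xp_178
  have h180 : ∀ u < 54180, (fun u => chkXP tab xc xw u) u = true := ext_range (a := 53879) (len := 301) h179 xp_179
  have h181 : ∀ u < 54481, (fun u => chkXP tab xc xw u) u = true := ext_range (a := 54180) (len := 301) h180 xp_180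
  have h182 : ∀ u < 54782, (fun u => chkXP tab xc xw u) u = true := ext_range (a := 54481) (len := 301) h181 xp_181
  have h183 : ∀ u < 55083, (fun u => chkXP tab xc xw u) u = true := ext_range (a := 54782) (len := 301) h182 xp_182
  have h184 : ∀ u < 55384, (fun u => chkXP tab xc xw u) u = true := ext_range (a := 55083) (len := 301) h183 xp_183
  have h185 : ∀ u < 55685, (fun u => chkXP tab xc xw u) u = true := ext_range (a := 55384) (len := 301) h184 xp_184
  have h186 : ∀ u < 55986, (fun u => chkXP tab xc xw u) u = true := ext_range (a := 55685) (len := 301) h185 xp_185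
  have h187 : ∀ u < 56287, (fun u => chkXP tab xc xw u) u = true := ext_range (a := 55986) (len := 301) h186 xp_186
  have h188 : ∀ u < 56588, (fun u => chkXP tab xc xw u) u = true := ext_range (a := 56287) (len := 301) h187 xp_187
  have h189 : ∀ u < 56889, (fun u => chkXP tab xc xw u) u = true := ext_range (a := 56588) (len := 301) h188 xp_188
  have h190 : ∀ u < 57190, (fun u => chkXP tab xc xw u) u = true := ext_range (a := 56889) (len := 301) h189 xp_189
  have h191 : ∀ u < 57491, (fun u => chkXP tab xc xw u) u = true := ext_range (a := 57190) (len := 301) h190 xp_190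
  have h192 : ∀ u < 57792, (fun u => chkXP tab xc xw u) u = true := ext_range (a := 57491) (len := 301) h191 xp_191
  have h193 : ∀ u < 58093, (fun u => chkXP tab xc xw u) u = true := ext_range (a := 57792) (len := 301) h192 xp_192
  have h194 : ∀ u < 58394, (fun u => chkXP tab xc xw u) u = true := ext_range (a := 58093) (len := 301) h193 xp_193
  have h195 : ∀ u < 58695, (fun u => chkXP tab xc xw u) u = true := ext_range (a := 58394) (len := 301) h194 xp_194
  have h196 : ∀ u < 58996, (fun u => chkXP tab xc xw u) u = true := ext_range (a := 58695) (len := 301) h195 xp_195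
  have h197 : ∀ u < 59297, (fun u => chkXP tab xc xw u) u = true := ext_range (a := 58996) (len := 301) h196 xp_196
  have h198 : ∀ u < 59598, (fun u => chkXP tab xc xw u) u = true := ext_range (a := 59297) (len := 301) h197 xp_197
  have h199 : ∀ u < 59899, (fun u => chkXP tab xc xw u) u = true := ext_range (a := 59598) (len := 301) h198 xp_198
  have h200 : ∀ u < 60200, (fun u => chkXP tab xc xw u) u = true := ext_range (a := 59899) (len := 301) h199 xp_199
  have h201 : ∀ u < 60501, (fun u => chkXP tab xc xw u) u = true := ext_range (a := 60200) (len := 301) h200 xp_200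
  have h202 : ∀ u < 60802, (fun u => chkXP tab xc xw u) u = true := ext_range (a := 60501) (len := 301) h201 xp_201
  have h203 : ∀ u < 61103, (fun u => chkXP tab xc xw u) u = true := ext_range (a := 60802) (len := 301) h202 xp_202
  have h204 : ∀ u < 61404, (fun u => chkXP tab xc xw u) u = true := ext_range (a := 61103) (len := 301) h203 xp_203
  have h205 : ∀ u < 61705, (fun u => chkXP tab xc xw u) u = true := ext_range (a := 61404) (len := 301) h204 xp_204
  have h206 : ∀ u < 62006, (fun u => chkXP tab xc xw u) u = true := ext_range (a := 61705) (len := 301) h205 xp_205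
  have h207 : ∀ u < 62307, (fun u => chkXP tab xc xw u) u = true := ext_range (a := 62006) (len := 301) h206 xp_206
  have h208 : ∀ u < 62608, (fun u => chkXP tab xc xw u) u = true := ext_range (a := 62307) (len := 301) h207 xp_207
  have h209 : ∀ u < 62909, (fun u => chkXP tab xc xw u) u = true := ext_range (a := 62608) (len := 301) h208 xp_208
  have h210 : ∀ u < 63210, (fun u => chkXP tab xc xw u) u = true := ext_range (a := 62909) (len := 301) h209 xp_209
  have h211 : ∀ u < 63511, (fun u => chkXP tab xc xw u) u = true := ext_range (a := 63210) (len := 301) h210 xp_210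
  have h212 : ∀ u < 63812, (fun u => chkXP tab xc xw u) u = true := ext_range (a := 63511) (len := 301) h211 xp_211
  have h213 : ∀ u < 64113, (fun u => chkXP tab xc xw u) u = true := ext_range (a := 63812) (len := 301) h212 xp_212
  have h214 : ∀ u < 64414, (fun u => chkXP tab xc xw u) u = true := ext_range (a := 64113) (len := 301) h213 xp_213
  have h215 : ∀ u < 64715, (fun u => chkXP tab xc xw u) u = true := ext_range (a := 64414) (len := 301) h214 xp_214
  have h216 : ∀ u < 65016, (fun u => chkXP tab xc xw u) u = true := ext_range (a := 64715) (len := 301) h215 xp_215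
  have h217 : ∀ u < 65317, (fun u => chkXP tab xc xw u) u = true := ext_range (a := 65016) (len := 301) h216 xp_216
  have h218 : ∀ u < 65618, (fun u => chkXP tab xc xw u) u = true := ext_range (a := 65317) (len := 301) h217 xp_217
  have h219 : ∀ u < 65919, (fun u => chkXP tab xc xw u) u = true := ext_range (a := 65618) (len := 301) h218 xp_218
  have h220 : ∀ u < 66220, (fun u => chkXP tab xc xw u) u = true := ext_range (a := 65919) (len := 301) h219 xp_219
  have h221 : ∀ u < 66521, (fun u => chkXP tab xc xw u) u = true := ext_range (a := 66220) (len := 301) h220 xp_220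
  have h222 : ∀ u < 66822, (fun u => chkXP tab xc xw u) u = true := ext_range (a := 66521) (len := 301) h221 xp_221
  have h223 : ∀ u < 67123, (fun u => chkXP tab xc xw u) u = true := ext_range (a := 66822) (len := 301) h222 xp_222
  have h224 : ∀ u < 67424, (fun u => chkXP tab xc xw u) u = true := ext_range (a := 67123) (len := 301) h223 xp_223
  have h225 : ∀ u < 67725, (fun u => chkXP tab xc xw u) u = true := ext_range (a := 67424) (len := 301) h224 xp_224
  have h226 : ∀ u < 68026, (fun u => chkXP tab xc xw u) u = true := ext_range (a := 67725) (len := 301) h225 xp_225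
  have h227 : ∀ u < 68327, (fun u => chkXP tab xc xw u) u = true := ext_range (a := 68026) (len := 301) h226 xp_226
  have h228 : ∀ u < 68628, (fun u => chkXP tab xc xw u) u = true := ext_range (a := 68327) (len := 301) h227 xp_227
  have h229 : ∀ u < 68929, (fun u => chkXP tab xc xw u) u = true := ext_range (a := 68628) (len := 301) h228 xp_228
  have h230 : ∀ u < 69230, (fun u => chkXP tab xc xw u) u = true := ext_range (a := 68929) (len := 301) h229 xp_229
  have h231 : ∀ u < 69531, (fun u => chkXP tab xc xw u) u = true := ext_range (a := 69230) (len := 301) h230 xp_230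
  have h232 : ∀ u < 69832, (fun u => chkXP tab xc xw u) u = true := ext_range (a := 69531) (len := 301) h231 xp_231
  have h233 : ∀ u < 70133, (fun u => chkXP tab xc xw u) u = true := ext_range (a := 69832) (len := 301) h232 xp_232
  have h234 : ∀ u < 70434, (fun u => chkXP tab xc xw u) u = true := ext_range (a := 70133) (len := 301) h233 xp_233
  have h235 : ∀ u < 70735, (fun u => chkXP tab xc xw u) u = true := ext_range (a := 70434) (len := 301) h234 xp_234
  have h236 : ∀ u < 71036, (fun u => chkXP tab xc xw u) u = true := ext_range (a := 70735) (len := 301) h235 xp_235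
  have h237 : ∀ u < 71337, (fun u => chkXP tab xc xw u) u = true := ext_range (a := 71036) (len := 301) h236 xp_236
  have h238 : ∀ u < 71638, (fun u => chkXP tab xc xw u) u = true := ext_range (a := 71337) (len := 301) h237 xp_237
  have h239 : ∀ u < 71939, (fun u => chkXP tab xc xw u) u = true := ext_range (a := 71638) (len := 301) h238 xp_238
  have h240 : ∀ u < 72240, (fun u => chkXP tab xc xw u) u = true := ext_range (a := 71939) (len := 301) h239 xp_239
  have h241 : ∀ u < 72541, (fun u => chkXP tab xc xw u) u = true := ext_range (a := 72240) (len := 301) h240 xp_240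
  have h242 : ∀ u < 72842, (fun u => chkXP tab xc xw u) u = true := ext_range (a := 72541) (len := 301) h241 xp_241
  have h243 : ∀ u < 73143, (fun u => chkXP tab xc xw u) u = true := ext_range (a := 72842) (len := 301) h242 xp_242
  have h244 : ∀ u < 73444, (fun u => chkXP tab xc xw u) u = true := ext_range (a := 73143) (len := 301) h243 xp_243
  have h245 : ∀ u < 73745, (fun u => chkXP tab xc xw u) u = true := ext_range (a := 73444) (len := 301) h244 xp_244
  have h246 : ∀ u < 74046, (fun u => chkXP tab xc xw u) u = true := ext_range (a := 73745) (len := 301) h245 xp_245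
  have h247 : ∀ u < 74347, (fun u => chkXP tab xc xw u) u = true := ext_range (a := 74046) (len := 301) h246 xp_246
  have h248 : ∀ u < 74648, (fun u => chkXP tab xc xw u) u = true := ext_range (a := 74347) (len := 301) h247 xp_247
  have h249 : ∀ u < 74949, (fun u => chkXP tab xc xw u) u = true := ext_range (a := 74648) (len := 301) h248 xp_248
  have h250 : ∀ u < 75250, (fun u => chkXP tab xc xw u) u = true := ext_range (a := 74949) (len := 301) h249 xp_249
  have h251 : ∀ u < 75551, (fun u => chkXP tab xc xw u) u = true := ext_range (a := 75250) (len := 301) h250 xp_250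
  have h252 : ∀ u < 75852, (fun u => chkXP tab xc xw u) u = true := ext_range (a := 75551) (len := 301) h251 xp_251
  have h253 : ∀ u < 76153, (fun u => chkXP tab xc xw u) u = true := ext_range (a := 75852) (len := 301) h252 xp_252
  have h254 : ∀ u < 76454, (fun u => chkXP tab xc xw u) u = true := ext_range (a := 76153) (len := 301) h253 xp_253
  have h255 : ∀ u < 76755, (fun u => chkXP tab xc xw u) u = true := ext_range (a := 76454) (len := 301) h254 xp_254
  have h256 : ∀ u < 77056, (fun u => chkXP tab xc xw u) u = true := ext_range (a := 76755) (len := 301) h255 xp_255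
  have h257 : ∀ u < 77357, (fun u => chkXP tab xc xw u) u = true := ext_range (a := 77056) (len := 301) h256 xp_256
  have h258 : ∀ u < 77658, (fun u => chkXP tab xc xw u) u = true := ext_range (a := 77357) (len := 301) h257 xp_257
  have h259 : ∀ u < 77959, (fun u => chkXP tab xc xw u) u = true := ext_range (a := 77658) (len := 301) h258 xp_258
  have h260 : ∀ u < 78260, (fun u => chkXP tab xc xw u) u = true := ext_range (a := 77959) (len := 301) h259 xp_259
  have h261 : ∀ u < 78561, (fun u => chkXP tab xc xw u) u = true := ext_range (a := 78260) (len := 301) h260 xp_260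
  have h262 : ∀ u < 78862, (fun u => chkXP tab xc xw u) u = true := ext_range (a := 78561) (len := 301) h261 xp_261
  have h263 : ∀ u < 79163, (fun u => chkXP tab xc xw u) u = true := ext_range (a := 78862) (len := 301) h262 xp_262
  have h264 : ∀ u < 79464, (fun u => chkXP tab xc xw u) u = true := ext_range (a := 79163) (len := 301) h263 xp_263
  have h265 : ∀ u < 79765, (fun u => chkXP tab xc xw u) u = true := ext_range (a := 79464) (len := 301) h264 xp_264
  have h266 : ∀ u < 80066, (fun u => chkXP tab xc xw u) u = true := ext_range (a := 79765) (len := 301) h265 xp_265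
  have h267 : ∀ u < 80367, (fun u => chkXP tab xc xw u) u = true := ext_range (a := 80066) (len := 301) h266 xp_266
  have h268 : ∀ u < 80668, (fun u => chkXP tab xc xw u) u = true := ext_range (a := 80367) (len := 301) h267 xp_267
  have h269 : ∀ u < 80969, (fun u => chkXP tab xc xw u) u = true := ext_range (a := 80668) (len := 301) h268 xp_268
  have h270 : ∀ u < 81270, (fun u => chkXP tab xc xw u) u = true := ext_range (a := 80969) (len := 301) h269 xp_269
  have h271 : ∀ u < 81571, (fun u => chkXP tab xc xw u) u = true := ext_range (a := 81270) (len := 301) h270 xp_270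
  have h272 : ∀ u < 81872, (fun u => chkXP tab xc xw u) u = true := ext_range (a := 81571) (len := 301) h271 xp_271
  have h273 : ∀ u < 82173, (fun u => chkXP tab xc xw u) u = true := ext_range (a := 81872) (len := 301) h272 xp_272
  have h274 : ∀ u < 82474, (fun u => chkXP tab xc xw u) u = true := ext_range (a := 82173) (len := 301) h273 xp_273
  have h275 : ∀ u < 82775, (fun u => chkXP tab xc xw u) u = true := ext_range (a := 82474) (len := 301) h274 xp_274
  have h276 : ∀ u < 83076, (fun u => chkXP tab xc xw u) u = true := ext_range (a := 82775) (len := 301) h275 xp_275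
  have h277 : ∀ u < 83377, (fun u => chkXP tab xc xw u) u = true := ext_range (a := 83076) (len := 301) h276 xp_276
  have h278 : ∀ u < 83678, (fun u => chkXP tab xc xw u) u = true := ext_range (a := 83377) (len := 301) h277 xp_277
  have h279 : ∀ u < 83979, (fun u => chkXP tab xc xw u) u = true := ext_range (a := 83678) (len := 301) h278 xp_278
  have h280 : ∀ u < 84280, (fun u => chkXP tab xc xw u) u = true := ext_range (a := 83979) (len := 301) h279 xp_279
  have h281 : ∀ u < 84581, (fun u => chkXP tab xc xw u) u = true := ext_range (a := 84280) (len := 301) h280 xp_280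
  have h282 : ∀ u < 84882, (fun u => chkXP tab xc xw u) u = true := ext_range (a := 84581) (len := 301) h281 xp_281
  have h283 : ∀ u < 85183, (fun u => chkXP tab xc xw u) u = true := ext_range (a := 84882) (len := 301) h282 xp_282
  have h284 : ∀ u < 85484, (fun u => chkXP tab xc xw u) u = true := ext_range (a := 85183) (len := 301) h283 xp_283
  have h285 : ∀ u < 85785, (fun u => chkXP tab xc xw u) u = true := ext_range (a := 85484) (len := 301) h284 xp_284
  have h286 : ∀ u < 86086, (fun u => chkXP tab xc xw u) u = true := ext_range (a := 85785) (len := 301) h285 xp_285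
  have h287 : ∀ u < 86387, (fun u => chkXP tab xc xw u) u = true := ext_range (a := 86086) (len := 301) h286 xp_286
  have h288 : ∀ u < 86688, (fun u => chkXP tab xc xw u) u = true := ext_range (a := 86387) (len := 301) h287 xp_287
  have h289 : ∀ u < 86989, (fun u => chkXP tab xc xw u) u = true := ext_range (a := 86688) (len := 301) h288 xp_288
  have h290 : ∀ u < 87290, (fun u => chkXP tab xc xw u) u = true := ext_range (a := 86989) (len := 301) h289 xp_289
  have h291 : ∀ u < 87591, (fun u => chkXP tab xc xw u) u = true := ext_range (a := 87290) (len := 301) h290 xp_290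
  have h292 : ∀ u < 87892, (fun u => chkXP tab xc xw u) u = true := ext_range (a := 87591) (len := 301) h291 xp_291
  have h293 : ∀ u < 88193, (fun u => chkXP tab xc xw u) u = true := ext_range (a := 87892) (len := 301) h292 xp_292
  have h294 : ∀ u < 88494, (fun u => chkXP tab xc xw u) u = true := ext_range (a := 88193) (len := 301) h293 xp_293
  have h295 : ∀ u < 88795, (fun u => chkXP tab xc xw u) u = true := ext_range (a := 88494) (len := 301) h294 xp_294
  have h296 : ∀ u < 89096, (fun u => chkXP tab xc xw u) u = true := ext_range (a := 88795) (len := 301) h295 xp_295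
  have h297 : ∀ u < 89397, (fun u => chkXP tab xc xw u) u = true := ext_range (a := 89096) (len := 301) h296 xp_296
  have h298 : ∀ u < 89698, (fun u => chkXP tab xc xw u) u = true := ext_range (a := 89397) (len := 301) h297 xp_297
  have h299 : ∀ u < 89999, (fun u => chkXP tab xc xw u) u = true := ext_range (a := 89698) (len := 301) h298 xp_298
  have h300 : ∀ u < 90300, (fun u => chkXP tab xc xw u) u = true := ext_range (a := 89999) (len := 301) h299 xp_299
  have h301 : ∀ u < 90601, (fun u => chkXP tab xc xw u) u = true := ext_range (a := 90300) (len := 301) h300 xp_300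
  have h302 : ∀ u < 90902, (fun u => chkXP tab xc xw u) u = true := ext_range (a := 90601) (len := 301) h301 xp_301
  have h303 : ∀ u < 91203, (fun u => chkXP tab xc xw u) u = true := ext_range (a := 90902) (len := 301) h302 xp_302
  have h304 : ∀ u < 91504, (fun u => chkXP tab xc xw u) u = true := ext_range (a := 91203) (len := 301) h303 xp_303
  have h305 : ∀ u < 91805, (fun u => chkXP tab xc xw u) u = true := ext_range (a := 91504) (len := 301) h304 xp_304
  have h306 : ∀ u < 92106, (fun u => chkXP tab xc xw u) u = true := ext_range (a := 91805) (len := 301) h305 xp_305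
  have h307 : ∀ u < 92407, (fun u => chkXP tab xc xw u) u = true := ext_range (a := 92106) (len := 301) h306 xp_306
  have h308 : ∀ u < 92708, (fun u => chkXP tab xc xw u) u = true := ext_range (a := 92407) (len := 301) h307 xp_307
  have h309 : ∀ u < 93009, (fun u => chkXP tab xc xw u) u = true := ext_range (a := 92708) (len := 301) h308 xp_308
  have h310 : ∀ u < 93310, (fun u => chkXP tab xc xw u) u = true := ext_range (a := 93009) (len := 301) h309 xp_309
  have h311 : ∀ u < 93611, (fun u => chkXP tab xc xw u) u = true := ext_range (a := 93310) (len := 301) h310 xp_310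
  have h312 : ∀ u < 93912, (fun u => chkXP tab xc xw u) u = true := ext_range (a := 93611) (len := 301) h311 xp_311
  have h313 : ∀ u < 94213, (fun u => chkXP tab xc xw u) u = true := ext_range (a := 93912) (len := 301) h312 xp_312
  have h314 : ∀ u < 94514, (fun u => chkXP tab xc xw u) u = true := ext_range (a := 94213) (len := 301) h313 xp_313
  have h315 : ∀ u < 94815, (fun u => chkXP tab xc xw u) u = true := ext_range (a := 94514) (len := 301) h314 xp_314
  have h316 : ∀ u < 95116, (fun u => chkXP tab xc xw u) u = true := ext_range (a := 94815) (len := 301) h315 xp_315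
  have h317 : ∀ u < 95417, (fun u => chkXP tab xc xw u) u = true := ext_range (a := 95116) (len := 301) h316 xp_316
  have h318 : ∀ u < 95718, (fun u => chkXP tab xc xw u) u = true := ext_range (a := 95417) (len := 301) h317 xp_317
  have h319 : ∀ u < 96019, (fun u => chkXP tab xc xw u) u = true := ext_range (a := 95718) (len := 301) h318 xp_318
  have h320 : ∀ u < 96320, (fun u => chkXP tab xc xw u) u = true := ext_range (a := 96019) (len := 301) h319 xp_319
  have h321 : ∀ u < 96621, (fun u => chkXP tab xc xw u) u = true := ext_range (a := 96320) (len := 301) h320 xp_320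
  have h322 : ∀ u < 96922, (fun u => chkXP tab xc xw u) u = true := ext_range (a := 96621) (len := 301) h321 xp_321
  have h323 : ∀ u < 97223, (fun u => chkXP tab xc xw u) u = true := ext_range (a := 96922) (len := 301) h322 xp_322
  have h324 : ∀ u < 97524, (fun u => chkXP tab xc xw u) u = true := ext_range (a := 97223) (len := 301) h323 xp_323
  have h325 : ∀ u < 97825, (fun u => chkXP tab xc xw u) u = true := ext_range (a := 97524) (len := 301) h324 xp_324
  have h326 : ∀ u < 98126, (fun u => chkXP tab xc xw u) u = true := ext_range (a := 97825) (len := 301) h325 xp_325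
  have h327 : ∀ u < 98427, (fun u => chkXP tab xc xw u) u = true := ext_range (a := 98126) (len := 301) h326 xp_326
  have h328 : ∀ u < 98728, (fun u => chkXP tab xc xw u) u = true := ext_range (a := 98427) (len := 301) h327 xp_327
  have h329 : ∀ u < 99029, (fun u => chkXP tab xc xw u) u = true := ext_range (a := 98728) (len := 301) h328 xp_328
  have h330 : ∀ u < 99330, (fun u => chkXP tab xc xw u) u = true := ext_range (a := 99029) (len := 301) h329 xp_329
  have h331 : ∀ u < 99631, (fun u => chkXP tab xc xw u) u = true := ext_range (a := 99330) (len := 301) h330 xp_330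
  have h332 : ∀ u < 99932, (fun u => chkXP tab xc xw u) u = true := ext_range (a := 99631) (len := 301) h331 xp_331
  have h333 : ∀ u < 100233, (fun u => chkXP tab xc xw u) u = true := ext_range (a := 99932) (len := 301) h332 xp_332
  have h334 : ∀ u < 100534, (fun u => chkXP tab xc xw u) u = true := ext_range (a := 100233) (len := 301) h333 xp_333
  have h335 : ∀ u < 100835, (fun u => chkXP tab xc xw u) u = true := ext_range (a := 100534) (len := 301) h334 xp_334
  have h336 : ∀ u < 101136, (fun u => chkXP tab xc xw u) u = true := ext_range (a := 100835) (len := 301) h335 xp_335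
  have h337 : ∀ u < 101437, (fun u => chkXP tab xc xw u) u = true := ext_range (a := 101136) (len := 301) h336 xp_336
  have h338 : ∀ u < 101738, (fun u => chkXP tab xc xw u) u = true := ext_range (a := 101437) (len := 301) h337 xp_337
  have h339 : ∀ u < 102039, (fun u => chkXP tab xc xw u) u = true := ext_range (a := 101738) (len := 301) h338 xp_338
  have h340 : ∀ u < 102340, (fun u => chkXP tab xc xw u) u = true := ext_range (a := 102039) (len := 301) h339 xp_339
  have h341 : ∀ u < 102641, (fun u => chkXP tab xc xw u) u = true := ext_range (a := 102340) (len := 301) h340 xp_340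
  have h342 : ∀ u < 102942, (fun u => chkXP tab xc xw u) u = true := ext_range (a := 102641) (len := 301) h341 xp_341
  have h343 : ∀ u < 103243, (fun u => chkXP tab xc xw u) u = true := ext_range (a := 102942) (len := 301) h342 xp_342
  have h344 : ∀ u < 103544, (fun u => chkXP tab xc xw u) u = true := ext_range (a := 103243) (len := 301) h343 xp_343
  have h345 : ∀ u < 103845, (fun u => chkXP tab xc xw u) u = true := ext_range (a := 103544) (len := 301) h344 xp_344
  have h346 : ∀ u < 104146, (fun u => chkXP tab xc xw u) u = true := ext_range (a := 103845) (len := 301) h345 xp_345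
  have h347 : ∀ u < 104447, (fun u => chkXP tab xc xw u) u = true := ext_range (a := 104146) (len := 301) h346 xp_346
  have h348 : ∀ u < 104748, (fun u => chkXP tab xc xw u) u = true := ext_range (a := 104447) (len := 301) h347 xp_347
  have h349 : ∀ u < 105049, (fun u => chkXP tab xc xw u) u = true := ext_range (a := 104748) (len := 301) h348 xp_348
  have h350 : ∀ u < 105350, (fun u => chkXP tab xc xw u) u = true := ext_range (a := 105049) (len := 301) h349 xp_349
  have h351 : ∀ u < 105651, (fun u => chkXP tab xc xw u) u = true := ext_range (a := 105350) (len := 301) h350 xp_350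
  have h352 : ∀ u < 105952, (fun u => chkXP tab xc xw u) u = true := ext_range (a := 105651) (len := 301) h351 xp_351
  have h353 : ∀ u < 106253, (fun u => chkXP tab xc xw u) u = true := ext_range (a := 105952) (len := 301) h352 xp_352
  have h354 : ∀ u < 106554, (fun u => chkXP tab xc xw u) u = true := ext_range (a := 106253) (len := 301) h353 xp_353
  have h355 : ∀ u < 106855, (fun u => chkXP tab xc xw u) u = true := ext_range (a := 106554) (len := 301) h354 xp_354
  have h356 : ∀ u < 107156, (fun u => chkXP tab xc xw u) u = true := ext_range (a := 106855) (len := 301) h355 xp_355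
  have h357 : ∀ u < 107457, (fun u => chkXP tab xc xw u) u = true := ext_range (a := 107156) (len := 301) h356 xp_356
  have h358 : ∀ u < 107758, (fun u => chkXP tab xc xw u) u = true := ext_range (a := 107457) (len := 301) h357 xp_357
  have h359 : ∀ u < 108059, (fun u => chkXP tab xc xw u) u = true := ext_range (a := 107758) (len := 301) h358 xp_358
  have h360 : ∀ u < 108360, (fun u => chkXP tab xc xw u) u = true := ext_range (a := 108059) (len := 301) h359 xp_359
  have h361 : ∀ u < 108661, (fun u => chkXP tab xc xw u) u = true := ext_range (a := 108360) (len := 301) h360 xp_360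
  have h362 : ∀ u < 108962, (fun u => chkXP tab xc xw u) u = true := ext_range (a := 108661) (len := 301) h361 xp_361
  have h363 : ∀ u < 109263, (fun u => chkXP tab xc xw u) u = true := ext_range (a := 108962) (len := 301) h362 xp_362
  have h364 : ∀ u < 109564, (fun u => chkXP tab xc xw u) u = true := ext_range (a := 109263) (len := 301) h363 xp_363
  have h365 : ∀ u < 109865, (fun u => chkXP tab xc xw u) u = true := ext_range (a := 109564) (len := 301) h364 xp_364
  have h366 : ∀ u < 110166, (fun u => chkXP tab xc xw u) u = true := ext_range (a := 109865) (len := 301) h365 xp_365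
  have h367 : ∀ u < 110467, (fun u => chkXP tab xc xw u) u = true := ext_range (a := 110166) (len := 301) h366 xp_366
  have h368 : ∀ u < 110768, (fun u => chkXP tab xc xw u) u = true := ext_range (a := 110467) (len := 301) h367 xp_367
  have h369 : ∀ u < 111069, (fun u => chkXP tab xc xw u) u = true := ext_range (a := 110768) (len := 301) h368 xp_368
  have h370 : ∀ u < 111370, (fun u => chkXP tab xc xw u) u = true := ext_range (a := 111069) (len := 301) h369 xp_369
  have h371 : ∀ u < 111671, (fun u => chkXP tab xc xw u) u = true := ext_range (a := 111370) (len := 301) h370 xp_370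
  have h372 : ∀ u < 111972, (fun u => chkXP tab xc xw u) u = true := ext_range (a := 111671) (len := 301) h371 xp_371
  have h373 : ∀ u < 112273, (fun u => chkXP tab xc xw u) u = true := ext_range (a := 111972) (len := 301) h372 xp_372
  have h374 : ∀ u < 112574, (fun u => chkXP tab xc xw u) u = true := ext_range (a := 112273) (len := 301) h373 xp_373
  have h375 : ∀ u < 112875, (fun u => chkXP tab xc xw u) u = true := ext_range (a := 112574) (len := 301) h374 xp_374
  have h376 : ∀ u < 113176, (fun u => chkXP tab xc xw u) u = true := ext_range (a := 112875) (len := 301) h375 xp_375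
  have h377 : ∀ u < 113477, (fun u => chkXP tab xc xw u) u = true := ext_range (a := 113176) (len := 301) h376 xp_376
  have h378 : ∀ u < 113778, (fun u => chkXP tab xc xw u) u = true := ext_range (a := 113477) (len := 301) h377 xp_377
  have h379 : ∀ u < 114079, (fun u => chkXP tab xc xw u) u = true := ext_range (a := 113778) (len := 301) h378 xp_378
  have h380 : ∀ u < 114380, (fun u => chkXP tab xc xw u) u = true := ext_range (a := 114079) (len := 301) h379 xp_379
  have h381 : ∀ u < 114681, (fun u => chkXP tab xc xw u) u = true := ext_range (a := 114380) (len := 301) h380 xp_380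
  have h382 : ∀ u < 114982, (fun u => chkXP tab xc xw u) u = true := ext_range (a := 114681) (len := 301) h381 xp_381
  have h383 : ∀ u < 115283, (fun u => chkXP tab xc xw u) u = true := ext_range (a := 114982) (len := 301) h382 xp_382
  have h384 : ∀ u < 115584, (fun u => chkXP tab xc xw u) u = true := ext_range (a := 115283) (len := 301) h383 xp_383
  have h385 : ∀ u < 115885, (fun u => chkXP tab xc xw u) u = true := ext_range (a := 115584) (len := 301) h384 xp_384
  have h386 : ∀ u < 116186, (fun u => chkXP tab xc xw u) u = true := ext_range (a := 115885) (len := 301) h385 xp_385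
  have h387 : ∀ u < 116487, (fun u => chkXP tab xc xw u) u = true := ext_range (a := 116186) (len := 301) h386 xp_386
  have h388 : ∀ u < 116788, (fun u => chkXP tab xc xw u) u = true := ext_range (a := 116487) (len := 301) h387 xp_387
  have h389 : ∀ u < 117089, (fun u => chkXP tab xc xw u) u = true := ext_range (a := 116788) (len := 301) h388 xp_388
  have h390 : ∀ u < 117390, (fun u => chkXP tab xc xw u) u = true := ext_range (a := 117089) (len := 301) h389 xp_389
  have h391 : ∀ u < 117691, (fun u => chkXP tab xc xw u) u = true := ext_range (a := 117390) (len := 301) h390 xp_390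
  have h392 : ∀ u < 117992, (fun u => chkXP tab xc xw u) u = true := ext_range (a := 117691) (len := 301) h391 xp_391
  have h393 : ∀ u < 118293, (fun u => chkXP tab xc xw u) u = true := ext_range (a := 117992) (len := 301) h392 xp_392
  have h394 : ∀ u < 118594, (fun u => chkXP tab xc xw u) u = true := ext_range (a := 118293) (len := 301) h393 xp_393
  have h395 : ∀ u < 118895, (fun u => chkXP tab xc xw u) u = true := ext_range (a := 118594) (len := 301) h394 xp_394
  have h396 : ∀ u < 119196, (fun u => chkXP tab xc xw u) u = true := ext_range (a := 118895) (len := 301) h395 xp_395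
  have h397 : ∀ u < 119497, (fun u => chkXP tab xc xw u) u = true := ext_range (a := 119196) (len := 301) h396 xp_396
  have h398 : ∀ u < 119798, (fun u => chkXP tab xc xw u) u = true := ext_range (a := 119497) (len := 301) h397 xp_397
  have h399 : ∀ u < 120099, (fun u => chkXP tab xc xw u) u = true := ext_range (a := 119798) (len := 301) h398 xp_398
  have h400 : ∀ u < 120400, (fun u => chkXP tab xc xw u) u = true := ext_range (a := 120099) (len := 301) h399 xp_399
  have h401 : ∀ u < 120701, (fun u => chkXP tab xc xw u) u = true := ext_range (a := 120400) (len := 301) h400 xp_400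
  have h402 : ∀ u < 121002, (fun u => chkXP tab xc xw u) u = true := ext_range (a := 120701) (len := 301) h401 xp_401
  have h403 : ∀ u < 121303, (fun u => chkXP tab xc xw u) u = true := ext_range (a := 121002) (len := 301) h402 xp_402
  have h404 : ∀ u < 121604, (fun u => chkXP tab xc xw u) u = true := ext_range (a := 121303) (len := 301) h403 xp_403
  have h405 : ∀ u < 121905, (fun u => chkXP tab xc xw u) u = true := ext_range (a := 121604) (len := 301) h404 xp_404
  have h406 : ∀ u < 122206, (fun u => chkXP tab xc xw u) u = true := ext_range (a := 121905) (len := 301) h405 xp_405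
  have h407 : ∀ u < 122507, (fun u => chkXP tab xc xw u) u = true := ext_range (a := 122206) (len := 301) h406 xp_406
  have h408 : ∀ u < 122808, (fun u => chkXP tab xc xw u) u = true := ext_range (a := 122507) (len := 301) h407 xp_407
  have h409 : ∀ u < 123109, (fun u => chkXP tab xc xw u) u = true := ext_range (a := 122808) (len := 301) h408 xp_408
  have h410 : ∀ u < 123410, (fun u => chkXP tab xc xw u) u = true := ext_range (a := 123109) (len := 301) h409 xp_409
  have h411 : ∀ u < 123711, (fun u => chkXP tab xc xw u) u = true := ext_range (a := 123410) (len := 301) h410 xp_410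
  have h412 : ∀ u < 124012, (fun u => chkXP tab xc xw u) u = true := ext_range (a := 123711) (len := 301) h411 xp_411
  have h413 : ∀ u < 124313, (fun u => chkXP tab xc xw u) u = true := ext_range (a := 124012) (len := 301) h412 xp_412
  have h414 : ∀ u < 124614, (fun u => chkXP tab xc xw u) u = true := ext_range (a := 124313) (len := 301) h413 xp_413
  have h415 : ∀ u < 124915, (fun u => chkXP tab xc xw u) u = true := ext_range (a := 124614) (len := 301) h414 xp_414
  have h416 : ∀ u < 125216, (fun u => chkXP tab xc xw u) u = true := ext_range (a := 124915) (len := 301) h415 xp_415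
  have h417 : ∀ u < 125517, (fun u => chkXP tab xc xw u) u = true := ext_range (a := 125216) (len := 301) h416 xp_416
  have h418 : ∀ u < 125818, (fun u => chkXP tab xc xw u) u = true := ext_range (a := 125517) (len := 301) h417 xp_417
  have h419 : ∀ u < 126119, (fun u => chkXP tab xc xw u) u = true := ext_range (a := 125818) (len := 301) h418 xp_418
  have h420 : ∀ u < 126420, (fun u => chkXP tab xc xw u) u = true := ext_range (a := 126119) (len := 301) h419 xp_419
  have h421 : ∀ u < 126721, (fun u => chkXP tab xc xw u) u = true := ext_range (a := 126420) (len := 301) h420 xp_420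
  have h422 : ∀ u < 127022, (fun u => chkXP tab xc xw u) u = true := ext_range (a := 126721) (len := 301) h421 xp_421
  have h423 : ∀ u < 127323, (fun u => chkXP tab xc xw u) u = true := ext_range (a := 127022) (len := 301) h422 xp_422
  have h424 : ∀ u < 127624, (fun u => chkXP tab xc xw u) u = true := ext_range (a := 127323) (len := 301) h423 xp_423
  have h425 : ∀ u < 127925, (fun u => chkXP tab xc xw u) u = true := ext_range (a := 127624) (len := 301) h424 xp_424
  have h426 : ∀ u < 128226, (fun u => chkXP tab xc xw u) u = true := ext_range (a := 127925) (len := 301) h425 xp_425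
  have h427 : ∀ u < 128527, (fun u => chkXP tab xc xw u) u = true := ext_range (a := 128226) (len := 301) h426 xp_426
  have h428 : ∀ u < 128828, (fun u => chkXP tab xc xw u) u = true := ext_range (a := 128527) (len := 301) h427 xp_427
  have h429 : ∀ u < 129129, (fun u => chkXP tab xc xw u) u = true := ext_range (a := 128828) (len := 301) h428 xp_428
  have h430 : ∀ u < 129430, (fun u => chkXP tab xc xw u) u = true := ext_range (a := 129129) (len := 301) h429 xp_429
  have h431 : ∀ u < 129731, (fun u => chkXP tab xc xw u) u = true := ext_range (a := 129430) (len := 301) h430 xp_430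
  have h432 : ∀ u < 130032, (fun u => chkXP tab xc xw u) u = true := ext_range (a := 129731) (len := 301) h431 xp_431
  have h433 : ∀ u < 130333, (fun u => chkXP tab xc xw u) u = true := ext_range (a := 130032) (len := 301) h432 xp_432
  have h434 : ∀ u < 130634, (fun u => chkXP tab xc xw u) u = true := ext_range (a := 130333) (len := 301) h433 xp_433
  have h435 : ∀ u < 130935, (fun u => chkXP tab xc xw u) u = true := ext_range (a := 130634) (len := 301) h434 xp_434
  have h436 : ∀ u < 131236, (fun u => chkXP tab xc xw u) u = true := ext_range (a := 130935) (len := 301) h435 xp_435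
  have h437 : ∀ u < 131537, (fun u => chkXP tab xc xw u) u = true := ext_range (a := 131236) (len := 301) h436 xp_436
  have h438 : ∀ u < 131838, (fun u => chkXP tab xc xw u) u = true := ext_range (a := 131537) (len := 301) h437 xp_437
  have h439 : ∀ u < 132139, (fun u => chkXP tab xc xw u) u = true := ext_range (a := 131838) (len := 301) h438 xp_438
  have h440 : ∀ u < 132440, (fun u => chkXP tab xc xw u) u = true := ext_range (a := 132139) (len := 301) h439 xp_439
  have h441 : ∀ u < 132741, (fun u => chkXP tab xc xw u) u = true := ext_range (a := 132440) (len := 301) h440 xp_440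
  have h442 : ∀ u < 133042, (fun u => chkXP tab xc xw u) u = true := ext_range (a := 132741) (len := 301) h441 xp_441
  have h443 : ∀ u < 133343, (fun u => chkXP tab xc xw u) u = true := ext_range (a := 133042) (len := 301) h442 xp_442
  have h444 : ∀ u < 133644, (fun u => chkXP tab xc xw u) u = true := ext_range (a := 133343) (len := 301) h443 xp_443
  have h445 : ∀ u < 133945, (fun u => chkXP tab xc xw u) u = true := ext_range (a := 133644) (len := 301) h444 xp_444
  have h446 : ∀ u < 134246, (fun u => chkXP tab xc xw u) u = true := ext_range (a := 133945) (len := 301) h445 xp_445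
  have h447 : ∀ u < 134547, (fun u => chkXP tab xc xw u) u = true := ext_range (a := 134246) (len := 301) h446 xp_446
  have h448 : ∀ u < 134848, (fun u => chkXP tab xc xw u) u = true := ext_range (a := 134547) (len := 301) h447 xp_447
  have h449 : ∀ u < 135149, (fun u => chkXP tab xc xw u) u = true := ext_range (a := 134848) (len := 301) h448 xp_448
  have h450 : ∀ u < 135450, (fun u => chkXP tab xc xw u) u = true := ext_range (a := 135149) (len := 301) h449 xp_449
  have h451 : ∀ u < 135751, (fun u => chkXP tab xc xw u) u = true := ext_range (a := 135450) (len := 301) h450 xp_450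
  have h452 : ∀ u < 136052, (fun u => chkXP tab xc xw u) u = true := ext_range (a := 135751) (len := 301) h451 xp_451
  have h453 : ∀ u < 136353, (fun u => chkXP tab xc xw u) u = true := ext_range (a := 136052) (len := 301) h452 xp_452
  have h454 : ∀ u < 136654, (fun u => chkXP tab xc xw u) u = true := ext_range (a := 136353) (len := 301) h453 xp_453
  have h455 : ∀ u < 136955, (fun u => chkXP tab xc xw u) u = true := ext_range (a := 136654) (len := 301) h454 xp_454
  have h456 : ∀ u < 137256, (fun u => chkXP tab xc xw u) u = true := ext_range (a := 136955) (len := 301) h455 xp_455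
  have h457 : ∀ u < 137557, (fun u => chkXP tab xc xw u) u = true := ext_range (a := 137256) (len := 301) h456 xp_456
  have h458 : ∀ u < 137858, (fun u => chkXP tab xc xw u) u = true := ext_range (a := 137557) (len := 301) h457 xp_457
  have h459 : ∀ u < 138159, (fun u => chkXP tab xc xw u) u = true := ext_range (a := 137858) (len := 301) h458 xp_458
  have h460 : ∀ u < 138460, (fun u => chkXP tab xc xw u) u = true := ext_range (a := 138159) (len := 301) h459 xp_459
  have h461 : ∀ u < 138761, (fun u => chkXP tab xc xw u) u = true := ext_range (a := 138460) (len := 301) h460 xp_460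
  have h462 : ∀ u < 139062, (fun u => chkXP tab xc xw u) u = true := ext_range (a := 138761) (len := 301) h461 xp_461
  have h463 : ∀ u < 139363, (fun u => chkXP tab xc xw u) u = true := ext_range (a := 139062) (len := 301) h462 xp_462
  have h464 : ∀ u < 139664, (fun u => chkXP tab xc xw u) u = true := ext_range (a := 139363) (len := 301) h463 xp_463
  have h465 : ∀ u < 139965, (fun u => chkXP tab xc xw u) u = true := ext_range (a := 139664) (len := 301) h464 xp_464
  have h466 : ∀ u < 140266, (fun u => chkXP tab xc xw u) u = true := ext_range (a := 139965) (len := 301) h465 xp_465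
  have h467 : ∀ u < 140567, (fun u => chkXP tab xc xw u) u = true := ext_range (a := 140266) (len := 301) h466 xp_466
  have h468 : ∀ u < 140868, (fun u => chkXP tab xc xw u) u = true := ext_range (a := 140567) (len := 301) h467 xp_467
  have h469 : ∀ u < 141169, (fun u => chkXP tab xc xw u) u = true := ext_range (a := 140868) (len := 301) h468 xp_468
  have h470 : ∀ u < 141470, (fun u => chkXP tab xc xw u) u = true := ext_range (a := 141169) (len := 301) h469 xp_469
  have h471 : ∀ u < 141771, (fun u => chkXP tab xc xw u) u = true := ext_range (a := 141470) (len := 301) h470 xp_470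
  have h472 : ∀ u < 142072, (fun u => chkXP tab xc xw u) u = true := ext_range (a := 141771) (len := 301) h471 xp_471
  have h473 : ∀ u < 142373, (fun u => chkXP tab xc xw u) u = true := ext_range (a := 142072) (len := 301) h472 xp_472
  have h474 : ∀ u < 142674, (fun u => chkXP tab xc xw u) u = true := ext_range (a := 142373) (len := 301) h473 xp_473
  have h475 : ∀ u < 142975, (fun u => chkXP tab xc xw u) u = true := ext_range (a := 142674) (len := 301) h474 xp_474
  have h476 : ∀ u < 143276, (fun u => chkXP tab xc xw u) u = true := ext_range (a := 142975) (len := 301) h475 xp_475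
  have h477 : ∀ u < 143577, (fun u => chkXP tab xc xw u) u = true := ext_range (a := 143276) (len := 301) h476 xp_476
  have h478 : ∀ u < 143878, (fun u => chkXP tab xc xw u) u = true := ext_range (a := 143577) (len := 301) h477 xp_477
  have h479 : ∀ u < 144179, (fun u => chkXP tab xc xw u) u = true := ext_range (a := 143878) (len := 301) h478 xp_478
  have h480 : ∀ u < 144480, (fun u => chkXP tab xc xw u) u = true := ext_range (a := 144179) (len := 301) h479 xp_479
  have h481 : ∀ u < 144781, (fun u => chkXP tab xc xw u) u = true := ext_range (a := 144480) (len := 301) h480 xp_480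
  have h482 : ∀ u < 145082, (fun u => chkXP tab xc xw u) u = true := ext_range (a := 144781) (len := 301) h481 xp_481
  have h483 : ∀ u < 145383, (fun u => chkXP tab xc xw u) u = true := ext_range (a := 145082) (len := 301) h482 xp_482
  have h484 : ∀ u < 145684, (fun u => chkXP tab xc xw u) u = true := ext_range (a := 145383) (len := 301) h483 xp_483
  have h485 : ∀ u < 145985, (fun u => chkXP tab xc xw u) u = true := ext_range (a := 145684) (len := 301) h484 xp_484
  have h486 : ∀ u < 146286, (fun u => chkXP tab xc xw u) u = true := ext_range (a := 145985) (len := 301) h485 xp_485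
  have h487 : ∀ u < 146587, (fun u => chkXP tab xc xw u) u = true := ext_range (a := 146286) (len := 301) h486 xp_486
  have h488 : ∀ u < 146888, (fun u => chkXP tab xc xw u) u = true := ext_range (a := 146587) (len := 301) h487 xp_487
  have h489 : ∀ u < 147189, (fun u => chkXP tab xc xw u) u = true := ext_range (a := 146888) (len := 301) h488 xp_488
  have h490 : ∀ u < 147490, (fun u => chkXP tab xc xw u) u = true := ext_range (a := 147189) (len := 301) h489 xp_489
  have h491 : ∀ u < 147791, (fun u => chkXP tab xc xw u) u = true := ext_range (a := 147490) (len := 301) h490 xp_490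
  have h492 : ∀ u < 148092, (fun u => chkXP tab xc xw u) u = true := ext_range (a := 147791) (len := 301) h491 xp_491
  have h493 : ∀ u < 148393, (fun u => chkXP tab xc xw u) u = true := ext_range (a := 148092) (len := 301) h492 xp_492
  have h494 : ∀ u < 148694, (fun u => chkXP tab xc xw u) u = true := ext_range (a := 148393) (len := 301) h493 xp_493
  have h495 : ∀ u < 148995, (fun u => chkXP tab xc xw u) u = true := ext_range (a := 148694) (len := 301) h494 xp_494
  have h496 : ∀ u < 149296, (fun u => chkXP tab xc xw u) u = true := ext_range (a := 148995) (len := 301) h495 xp_495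
  have h497 : ∀ u < 149597, (fun u => chkXP tab xc xw u) u = true := ext_range (a := 149296) (len := 301) h496 xp_496
  have h498 : ∀ u < 149898, (fun u => chkXP tab xc xw u) u = true := ext_range (a := 149597) (len := 301) h497 xp_497
  have h499 : ∀ u < 150199, (fun u => chkXP tab xc xw u) u = true := ext_range (a := 149898) (len := 301) h498 xp_498
  have h500 : ∀ u < 150500, (fun u => chkXP tab xc xw u) u = true := ext_range (a := 150199) (len := 301) h499 xp_499
  have h501 : ∀ u < 150801, (fun u => chkXP tab xc xw u) u = true := ext_range (a := 150500) (len := 301) h500 xp_500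
  have h502 : ∀ u < 151102, (fun u => chkXP tab xc xw u) u = true := ext_range (a := 150801) (len := 301) h501 xp_501
  have h503 : ∀ u < 151403, (fun u => chkXP tab xc xw u) u = true := ext_range (a := 151102) (len := 301) h502 xp_502
  have h504 : ∀ u < 151704, (fun u => chkXP tab xc xw u) u = true := ext_range (a := 151403) (len := 301) h503 xp_503
  have h505 : ∀ u < 152005, (fun u => chkXP tab xc xw u) u = true := ext_range (a := 151704) (len := 301) h504 xp_504
  have h506 : ∀ u < 152306, (fun u => chkXP tab xc xw u) u = true := ext_range (a := 152005) (len := 301) h505 xp_505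
  have h507 : ∀ u < 152607, (fun u => chkXP tab xc xw u) u = true := ext_range (a := 152306) (len := 301) h506 xp_506
  have h508 : ∀ u < 152908, (fun u => chkXP tab xc xw u) u = true := ext_range (a := 152607) (len := 301) h507 xp_507
  have h509 : ∀ u < 153209, (fun u => chkXP tab xc xw u) u = true := ext_range (a := 152908) (len := 301) h508 xp_508
  have h510 : ∀ u < 153510, (fun u => chkXP tab xc xw u) u = true := ext_range (a := 153209) (len := 301) h509 xp_509
  have h511 : ∀ u < 153811, (fun u => chkXP tab xc xw u) u = true := ext_range (a := 153510) (len := 301) h510 xp_510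
  have h512 : ∀ u < 154112, (fun u => chkXP tab xc xw u) u = true := ext_range (a := 153811) (len := 301) h511 xp_511
  have h513 : ∀ u < 154413, (fun u => chkXP tab xc xw u) u = true := ext_range (a := 154112) (len := 301) h512 xp_512
  have h514 : ∀ u < 154714, (fun u => chkXP tab xc xw u) u = true := ext_range (a := 154413) (len := 301) h513 xp_513
  have h515 : ∀ u < 155015, (fun u => chkXP tab xc xw u) u = true := ext_range (a := 154714) (len := 301) h514 xp_514
  have h516 : ∀ u < 155316, (fun u => chkXP tab xc xw u) u = true := ext_range (a := 155015) (len := 301) h515 xp_515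
  have h517 : ∀ u < 155617, (fun u => chkXP tab xc xw u) u = true := ext_range (a := 155316) (len := 301) h516 xp_516
  have h518 : ∀ u < 155918, (fun u => chkXP tab xc xw u) u = true := ext_range (a := 155617) (len := 301) h517 xp_517
  have h519 : ∀ u < 156219, (fun u => chkXP tab xc xw u) u = true := ext_range (a := 155918) (len := 301) h518 xp_518
  have h520 : ∀ u < 156520, (fun u => chkXP tab xc xw u) u = true := ext_range (a := 156219) (len := 301) h519 xp_519
  have h521 : ∀ u < 156821, (fun u => chkXP tab xc xw u) u = true := ext_range (a := 156520) (len := 301) h520 xp_520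
  have h522 : ∀ u < 157122, (fun u => chkXP tab xc xw u) u = true := ext_range (a := 156821) (len := 301) h521 xp_521
  have h523 : ∀ u < 157423, (fun u => chkXP tab xc xw u) u = true := ext_range (a := 157122) (len := 301) h522 xp_522
  have h524 : ∀ u < 157724, (fun u => chkXP tab xc xw u) u = true := ext_range (a := 157423) (len := 301) h523 xp_523
  have h525 : ∀ u < 158025, (fun u => chkXP tab xc xw u) u = true := ext_range (a := 157724) (len := 301) h524 xp_524
  have h526 : ∀ u < 158326, (fun u => chkXP tab xc xw u) u = true := ext_range (a := 158025) (len := 301) h525 xp_525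
  have h527 : ∀ u < 158627, (fun u => chkXP tab xc xw u) u = true := ext_range (a := 158326) (len := 301) h526 xp_526
  have h528 : ∀ u < 158928, (fun u => chkXP tab xc xw u) u = true := ext_range (a := 158627) (len := 301) h527 xp_527
  have h529 : ∀ u < 159229, (fun u => chkXP tab xc xw u) u = true := ext_range (a := 158928) (len := 301) h528 xp_528
  have h530 : ∀ u < 159530, (fun u => chkXP tab xc xw u) u = true := ext_range (a := 159229) (len := 301) h529 xp_529
  have h531 : ∀ u < 159831, (fun u => chkXP tab xc xw u) u = true := ext_range (a := 159530) (len := 301) h530 xp_530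
  have h532 : ∀ u < 160132, (fun u => chkXP tab xc xw u) u = true := ext_range (a := 159831) (len := 301) h531 xp_531
  have h533 : ∀ u < 160433, (fun u => chkXP tab xc xw u) u = true := ext_range (a := 160132) (len := 301) h532 xp_532
  have h534 : ∀ u < 160734, (fun u => chkXP tab xc xw u) u = true := ext_range (a := 160433) (len := 301) h533 xp_533
  have h535 : ∀ u < 161035, (fun u => chkXP tab xc xw u) u = true := ext_range (a := 160734) (len := 301) h534 xp_534
  have h536 : ∀ u < 161336, (fun u => chkXP tab xc xw u) u = true := ext_range (a := 161035) (len := 301) h535 xp_535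
  have h537 : ∀ u < 161637, (fun u => chkXP tab xc xw u) u = true := ext_range (a := 161336) (len := 301) h536 xp_536
  have h538 : ∀ u < 161938, (fun u => chkXP tab xc xw u) u = true := ext_range (a := 161637) (len := 301) h537 xp_537
  have h539 : ∀ u < 162239, (fun u => chkXP tab xc xw u) u = true := ext_range (a := 161938) (len := 301) h538 xp_538
  have h540 : ∀ u < 162540, (fun u => chkXP tab xc xw u) u = true := ext_range (a := 162239) (len := 301) h539 xp_539
  have h541 : ∀ u < 162841, (fun u => chkXP tab xc xw u) u = true := ext_range (a := 162540) (len := 301) h540 xp_540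
  have h542 : ∀ u < 163142, (fun u => chkXP tab xc xw u) u = true := ext_range (a := 162841) (len := 301) h541 xp_541
  have h543 : ∀ u < 163443, (fun u => chkXP tab xc xw u) u = true := ext_range (a := 163142) (len := 301) h542 xp_542
  have h544 : ∀ u < 163744, (fun u => chkXP tab xc xw u) u = true := ext_range (a := 163443) (len := 301) h543 xp_543
  have h545 : ∀ u < 164045, (fun u => chkXP tab xc xw u) u = true := ext_range (a := 163744) (len := 301) h544 xp_544
  have h546 : ∀ u < 164346, (fun u => chkXP tab xc xw u) u = true := ext_range (a := 164045) (len := 301) h545 xp_545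
  have h547 : ∀ u < 164647, (fun u => chkXP tab xc xw u) u = true := ext_range (a := 164346) (len := 301) h546 xp_546
  have h548 : ∀ u < 164948, (fun u => chkXP tab xc xw u) u = true := ext_range (a := 164647) (len := 301) h547 xp_547
  have h549 : ∀ u < 165249, (fun u => chkXP tab xc xw u) u = true := ext_range (a := 164948) (len := 301) h548 xp_548
  have h550 : ∀ u < 165550, (fun u => chkXP tab xc xw u) u = true := ext_range (a := 165249) (len := 301) h549 xp_549
  have h551 : ∀ u < 165851, (fun u => chkXP tab xc xw u) u = true := ext_range (a := 165550) (len := 301) h550 xp_550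
  have h552 : ∀ u < 166152, (fun u => chkXP tab xc xw u) u = true := ext_range (a := 165851) (len := 301) h551 xp_551
  have h553 : ∀ u < 166453, (fun u => chkXP tab xc xw u) u = true := ext_range (a := 166152) (len := 301) h552 xp_552
  have h554 : ∀ u < 166754, (fun u => chkXP tab xc xw u) u = true := ext_range (a := 166453) (len := 301) h553 xp_553
  have h555 : ∀ u < 167055, (fun u => chkXP tab xc xw u) u = true := ext_range (a := 166754) (len := 301) h554 xp_554
  have h556 : ∀ u < 167356, (fun u => chkXP tab xc xw u) u = true := ext_range (a := 167055) (len := 301) h555 xp_555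
  have h557 : ∀ u < 167657, (fun u => chkXP tab xc xw u) u = true := ext_range (a := 167356) (len := 301) h556 xp_556
  have h558 : ∀ u < 167958, (fun u => chkXP tab xc xw u) u = true := ext_range (a := 167657) (len := 301) h557 xp_557
  have h559 : ∀ u < 168259, (fun u => chkXP tab xc xw u) u = true := ext_range (a := 167958) (len := 301) h558 xp_558
  have h560 : ∀ u < 168560, (fun u => chkXP tab xc xw u) u = true := ext_range (a := 168259) (len := 301) h559 xp_559
  have h561 : ∀ u < 168861, (fun u => chkXP tab xc xw u) u = true := ext_range (a := 168560) (len := 301) h560 xp_560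
  have h562 : ∀ u < 169162, (fun u => chkXP tab xc xw u) u = true := ext_range (a := 168861) (len := 301) h561 xp_561
  have h563 : ∀ u < 169463, (fun u => chkXP tab xc xw u) u = true := ext_range (a := 169162) (len := 301) h562 xp_562
  have h564 : ∀ u < 169764, (fun u => chkXP tab xc xw u) u = true := ext_range (a := 169463) (len := 301) h563 xp_563
  have h565 : ∀ u < 170065, (fun u => chkXP tab xc xw u) u = true := ext_range (a := 169764) (len := 301) h564 xp_564
  have h566 : ∀ u < 170366, (fun u => chkXP tab xc xw u) u = true := ext_range (a := 170065) (len := 301) h565 xp_565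
  have h567 : ∀ u < 170667, (fun u => chkXP tab xc xw u) u = true := ext_range (a := 170366) (len := 301) h566 xp_566
  have h568 : ∀ u < 170968, (fun u => chkXP tab xc xw u) u = true := ext_range (a := 170667) (len := 301) h567 xp_567
  have h569 : ∀ u < 171269, (fun u => chkXP tab xc xw u) u = true := ext_range (a := 170968) (len := 301) h568 xp_568
  have h570 : ∀ u < 171570, (fun u => chkXP tab xc xw u) u = true := ext_range (a := 171269) (len := 301) h569 xp_569
  have h571 : ∀ u < 171871, (fun u => chkXP tab xc xw u) u = true := ext_range (a := 171570) (len := 301) h570 xp_570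
  have h572 : ∀ u < 172172, (fun u => chkXP tab xc xw u) u = true := ext_range (a := 171871) (len := 301) h571 xp_571
  have h573 : ∀ u < 172473, (fun u => chkXP tab xc xw u) u = true := ext_range (a := 172172) (len := 301) h572 xp_572
  have h574 : ∀ u < 172774, (fun u => chkXP tab xc xw u) u = true := ext_range (a := 172473) (len := 301) h573 xp_573
  have h575 : ∀ u < 173075, (fun u => chkXP tab xc xw u) u = true := ext_range (a := 172774) (len := 301) h574 xp_574
  have h576 : ∀ u < 173376, (fun u => chkXP tab xc xw u) u = true := ext_range (a := 173075) (len := 301) h575 xp_575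
  have h577 : ∀ u < 173677, (fun u => chkXP tab xc xw u) u = true := ext_range (a := 173376) (len := 301) h576 xp_576
  have h578 : ∀ u < 173978, (fun u => chkXP tab xc xw u) u = true := ext_range (a := 173677) (len := 301) h577 xp_577
  have h579 : ∀ u < 174279, (fun u => chkXP tab xc xw u) u = true := ext_range (a := 173978) (len := 301) h578 xp_578
  have h580 : ∀ u < 174580, (fun u => chkXP tab xc xw u) u = true := ext_range (a := 174279) (len := 301) h579 xp_579
  have h581 : ∀ u < 174881, (fun u => chkXP tab xc xw u) u = true := ext_range (a := 174580) (len := 301) h580 xp_580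
  have h582 : ∀ u < 175182, (fun u => chkXP tab xc xw u) u = true := ext_range (a := 174881) (len := 301) h581 xp_581
  have h583 : ∀ u < 175483, (fun u => chkXP tab xc xw u) u = true := ext_range (a := 175182) (len := 301) h582 xp_582
  have h584 : ∀ u < 175784, (fun u => chkXP tab xc xw u) u = true := ext_range (a := 175483) (len := 301) h583 xp_583
  have h585 : ∀ u < 176085, (fun u => chkXP tab xc xw u) u = true := ext_range (a := 175784) (len := 301) h584 xp_584
  have h586 : ∀ u < 176386, (fun u => chkXP tab xc xw u) u = true := ext_range (a := 176085) (len := 301) h585 xp_585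
  have h587 : ∀ u < 176687, (fun u => chkXP tab xc xw u) u = true := ext_range (a := 176386) (len := 301) h586 xp_586
  have h588 : ∀ u < 176988, (fun u => chkXP tab xc xw u) u = true := ext_range (a := 176687) (len := 301) h587 xp_587
  have h589 : ∀ u < 177289, (fun u => chkXP tab xc xw u) u = true := ext_range (a := 176988) (len := 301) h588 xp_588
  have h590 : ∀ u < 177590, (fun u => chkXP tab xc xw u) u = true := ext_range (a := 177289) (len := 301) h589 xp_589
  have h591 : ∀ u < 177891, (fun u => chkXP tab xc xw u) u = true := ext_range (a := 177590) (len := 301) h590 xp_590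
  have h592 : ∀ u < 178192, (fun u => chkXP tab xc xw u) u = true := ext_range (a := 177891) (len := 301) h591 xp_591
  have h593 : ∀ u < 178493, (fun u => chkXP tab xc xw u) u = true := ext_range (a := 178192) (len := 301) h592 xp_592
  have h594 : ∀ u < 178794, (fun u => chkXP tab xc xw u) u = true := ext_range (a := 178493) (len := 301) h593 xp_593
  have h595 : ∀ u < 179095, (fun u => chkXP tab xc xw u) u = true := ext_range (a := 178794) (len := 301) h594 xp_594
  have h596 : ∀ u < 179396, (fun u => chkXP tab xc xw u) u = true := ext_range (a := 179095) (len := 301) h595 xp_595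
  have h597 : ∀ u < 179697, (fun u => chkXP tab xc xw u) u = true := ext_range (a := 179396) (len := 301) h596 xp_596
  have h598 : ∀ u < 179998, (fun u => chkXP tab xc xw u) u = true := ext_range (a := 179697) (len := 301) h597 xp_597
  have h599 : ∀ u < 180299, (fun u => chkXP tab xc xw u) u = true := ext_range (a := 179998) (len := 301) h598 xp_598
  have h600 : ∀ u < 180600, (fun u => chkXP tab xc xw u) u = true := ext_range (a := 180299) (len := 301) h599 xp_599
  have h601 : ∀ u < 180901, (fun u => chkXP tab xc xw u) u = true := ext_range (a := 180600) (len := 301) h600 xp_600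
  have h602 : ∀ u < 181202, (fun u => chkXP tab xc xw u) u = true := ext_range (a := 180901) (len := 301) h601 xp_601
  have h603 : ∀ u < 181503, (fun u => chkXP tab xc xw u) u = true := ext_range (a := 181202) (len := 301) h602 xp_602
  have h604 : ∀ u < 181804, (fun u => chkXP tab xc xw u) u = true := ext_range (a := 181503) (len := 301) h603 xp_603
  have h605 : ∀ u < 182105, (fun u => chkXP tab xc xw u) u = true := ext_range (a := 181804) (len := 301) h604 xp_604
  have h606 : ∀ u < 182406, (fun u => chkXP tab xc xw u) u = true := ext_range (a := 182105) (len := 301) h605 xp_605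
  have h607 : ∀ u < 182707, (fun u => chkXP tab xc xw u) u = true := ext_range (a := 182406) (len := 301) h606 xp_606
  have h608 : ∀ u < 183008, (fun u => chkXP tab xc xw u) u = true := ext_range (a := 182707) (len := 301) h607 xp_607
  have h609 : ∀ u < 183309, (fun u => chkXP tab xc xw u) u = true := ext_range (a := 183008) (len := 301) h608 xp_608
  have h610 : ∀ u < 183610, (fun u => chkXP tab xc xw u) u = true := ext_range (a := 183309) (len := 301) h609 xp_609
  have h611 : ∀ u < 183911, (fun u => chkXP tab xc xw u) u = true := ext_range (a := 183610) (len := 301) h610 xp_610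
  have h612 : ∀ u < 184212, (fun u => chkXP tab xc xw u) u = true := ext_range (a := 183911) (len := 301) h611 xp_611
  have h613 : ∀ u < 184513, (fun u => chkXP tab xc xw u) u = true := ext_range (a := 184212) (len := 301) h612 xp_612
  have h614 : ∀ u < 184814, (fun u => chkXP tab xc xw u) u = true := ext_range (a := 184513) (len := 301) h613 xp_613
  have h615 : ∀ u < 185115, (fun u => chkXP tab xc xw u) u = true := ext_range (a := 184814) (len := 301) h614 xp_614
  have h616 : ∀ u < 185416, (fun u => chkXP tab xc xw u) u = true := ext_range (a := 185115) (len := 301) h615 xp_615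
  have h617 : ∀ u < 185717, (fun u => chkXP tab xc xw u) u = true := ext_range (a := 185416) (len := 301) h616 xp_616
  have h618 : ∀ u < 186018, (fun u => chkXP tab xc xw u) u = true := ext_range (a := 185717) (len := 301) h617 xp_617
  have h619 : ∀ u < 186319, (fun u => chkXP tab xc xw u) u = true := ext_range (a := 186018) (len := 301) h618 xp_618
  have h620 : ∀ u < 186620, (fun u => chkXP tab xc xw u) u = true := ext_range (a := 186319) (len := 301) h619 xp_619
  have h621 : ∀ u < 186921, (fun u => chkXP tab xc xw u) u = true := ext_range (a := 186620) (len := 301) h620 xp_620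
  have h622 : ∀ u < 187222, (fun u => chkXP tab xc xw u) u = true := ext_range (a := 186921) (len := 301) h621 xp_621
  have h623 : ∀ u < 187523, (fun u => chkXP tab xc xw u) u = true := ext_range (a := 187222) (len := 301) h622 xp_622
  have h624 : ∀ u < 187824, (fun u => chkXP tab xc xw u) u = true := ext_range (a := 187523) (len := 301) h623 xp_623
  have h625 : ∀ u < 188125, (fun u => chkXP tab xc xw u) u = true := ext_range (a := 187824) (len := 301) h624 xp_624
  have h626 : ∀ u < 188426, (fun u => chkXP tab xc xw u) u = true := ext_range (a := 188125) (len := 301) h625 xp_625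
  have h627 : ∀ u < 188727, (fun u => chkXP tab xc xw u) u = true := ext_range (a := 188426) (len := 301) h626 xp_626
  have h628 : ∀ u < 189028, (fun u => chkXP tab xc xw u) u = true := ext_range (a := 188727) (len := 301) h627 xp_627
  have h629 : ∀ u < 189329, (fun u => chkXP tab xc xw u) u = true := ext_range (a := 189028) (len := 301) h628 xp_628
  have h630 : ∀ u < 189630, (fun u => chkXP tab xc xw u) u = true := ext_range (a := 189329) (len := 301) h629 xp_629
  have h631 : ∀ u < 189931, (fun u => chkXP tab xc xw u) u = true := ext_range (a := 189630) (len := 301) h630 xp_630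
  have h632 : ∀ u < 190232, (fun u => chkXP tab xc xw u) u = true := ext_range (a := 189931) (len := 301) h631 xp_631
  have h633 : ∀ u < 190533, (fun u => chkXP tab xc xw u) u = true := ext_range (a := 190232) (len := 301) h632 xp_632
  have h634 : ∀ u < 190834, (fun u => chkXP tab xc xw u) u = true := ext_range (a := 190533) (len := 301) h633 xp_633
  have h635 : ∀ u < 191135, (fun u => chkXP tab xc xw u) u = true := ext_range (a := 190834) (len := 301) h634 xp_634
  have h636 : ∀ u < 191436, (fun u => chkXP tab xc xw u) u = true := ext_range (a := 191135) (len := 301) h635 xp_635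
  have h637 : ∀ u < 191737, (fun u => chkXP tab xc xw u) u = true := ext_range (a := 191436) (len := 301) h636 xp_636
  have h638 : ∀ u < 192038, (fun u => chkXP tab xc xw u) u = true := ext_range (a := 191737) (len := 301) h637 xp_637
  have h639 : ∀ u < 192339, (fun u => chkXP tab xc xw u) u = true := ext_range (a := 192038) (len := 301) h638 xp_638
  have h640 : ∀ u < 192640, (fun u => chkXP tab xc xw u) u = true := ext_range (a := 192339) (len := 301) h639 xp_639
  have h641 : ∀ u < 192941, (fun u => chkXP tab xc xw u) u = true := ext_range (a := 192640) (len := 301) h640 xp_640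
  have h642 : ∀ u < 193242, (fun u => chkXP tab xc xw u) u = true := ext_range (a := 192941) (len := 301) h641 xp_641
  have h643 : ∀ u < 193543, (fun u => chkXP tab xc xw u) u = true := ext_range (a := 193242) (len := 301) h642 xp_642
  have h644 : ∀ u < 193844, (fun u => chkXP tab xc xw u) u = true := ext_range (a := 193543) (len := 301) h643 xp_643
  have h645 : ∀ u < 194145, (fun u => chkXP tab xc xw u) u = true := ext_range (a := 193844) (len := 301) h644 xp_644
  have h646 : ∀ u < 194446, (fun u => chkXP tab xc xw u) u = true := ext_range (a := 194145) (len := 301) h645 xp_645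
  have h647 : ∀ u < 194747, (fun u => chkXP tab xc xw u) u = true := ext_range (a := 194446) (len := 301) h646 xp_646
  have h648 : ∀ u < 195048, (fun u => chkXP tab xc xw u) u = true := ext_range (a := 194747) (len := 301) h647 xp_647
  have h649 : ∀ u < 195349, (fun u => chkXP tab xc xw u) u = true := ext_range (a := 195048) (len := 301) h648 xp_648
  have h650 : ∀ u < 195650, (fun u => chkXP tab xc xw u) u = true := ext_range (a := 195349) (len := 301) h649 xp_649
  have h651 : ∀ u < 195951, (fun u => chkXP tab xc xw u) u = true := ext_range (a := 195650) (len := 301) h650 xp_650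
  have h652 : ∀ u < 196252, (fun u => chkXP tab xc xw u) u = true := ext_range (a := 195951) (len := 301) h651 xp_651
  have h653 : ∀ u < 196553, (fun u => chkXP tab xc xw u) u = true := ext_range (a := 196252) (len := 301) h652 xp_652
  have h654 : ∀ u < 196854, (fun u => chkXP tab xc xw u) u = true := ext_range (a := 196553) (len := 301) h653 xp_653
  have h655 : ∀ u < 197155, (fun u => chkXP tab xc xw u) u = true := ext_range (a := 196854) (len := 301) h654 xp_654
  have h656 : ∀ u < 197456, (fun u => chkXP tab xc xw u) u = true := ext_range (a := 197155) (len := 301) h655 xp_655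
  have h657 : ∀ u < 197757, (fun u => chkXP tab xc xw u) u = true := ext_range (a := 197456) (len := 301) h656 xp_656
  have h658 : ∀ u < 198058, (fun u => chkXP tab xc xw u) u = true := ext_range (a := 197757) (len := 301) h657 xp_657
  have h659 : ∀ u < 198359, (fun u => chkXP tab xc xw u) u = true := ext_range (a := 198058) (len := 301) h658 xp_658
  have h660 : ∀ u < 198660, (fun u => chkXP tab xc xw u) u = true := ext_range (a := 198359) (len := 301) h659 xp_659
  have h661 : ∀ u < 198961, (fun u => chkXP tab xc xw u) u = true := ext_range (a := 198660) (len := 301) h660 xp_660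
  have h662 : ∀ u < 199262, (fun u => chkXP tab xc xw u) u = true := ext_range (a := 198961) (len := 301) h661 xp_661
  have h663 : ∀ u < 199563, (fun u => chkXP tab xc xw u) u = true := ext_range (a := 199262) (len := 301) h662 xp_662
  have h664 : ∀ u < 199864, (fun u => chkXP tab xc xw u) u = true := ext_range (a := 199563) (len := 301) h663 xp_663
  have h665 : ∀ u < 200165, (fun u => chkXP tab xc xw u) u = true := ext_range (a := 199864) (len := 301) h664 xp_664
  have h666 : ∀ u < 200466, (fun u => chkXP tab xc xw u) u = true := ext_range (a := 200165) (len := 301) h665 xp_665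
  have h667 : ∀ u < 200767, (fun u => chkXP tab xc xw u) u = true := ext_range (a := 200466) (len := 301) h666 xp_666
  have h668 : ∀ u < 201068, (fun u => chkXP tab xc xw u) u = true := ext_range (a := 200767) (len := 301) h667 xp_667
  have h669 : ∀ u < 201369, (fun u => chkXP tab xc xw u) u = true := ext_range (a := 201068) (len := 301) h668 xp_668
  have h670 : ∀ u < 201670, (fun u => chkXP tab xc xw u) u = true := ext_range (a := 201369) (len := 301) h669 xp_669
  have h671 : ∀ u < 201971, (fun u => chkXP tab xc xw u) u = true := ext_range (a := 201670) (len := 301) h670 xp_670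
  have h672 : ∀ u < 202272, (fun u => chkXP tab xc xw u) u = true := ext_range (a := 201971) (len := 301) h671 xp_671
  have h673 : ∀ u < 202573, (fun u => chkXP tab xc xw u) u = true := ext_range (a := 202272) (len := 301) h672 xp_672
  have h674 : ∀ u < 202874, (fun u => chkXP tab xc xw u) u = true := ext_range (a := 202573) (len := 301) h673 xp_673
  have h675 : ∀ u < 203175, (fun u => chkXP tab xc xw u) u = true := ext_range (a := 202874) (len := 301) h674 xp_674
  have h676 : ∀ u < 203476, (fun u => chkXP tab xc xw u) u = true := ext_range (a := 203175) (len := 301) h675 xp_675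
  have h677 : ∀ u < 203777, (fun u => chkXP tab xc xw u) u = true := ext_range (a := 203476) (len := 301) h676 xp_676
  have h678 : ∀ u < 204078, (fun u => chkXP tab xc xw u) u = true := ext_range (a := 203777) (len := 301) h677 xp_677
  have h679 : ∀ u < 204379, (fun u => chkXP tab xc xw u) u = true := ext_range (a := 204078) (len := 301) h678 xp_678
  have h680 : ∀ u < 204680, (fun u => chkXP tab xc xw u) u = true := ext_range (a := 204379) (len := 301) h679 xp_679
  have h681 : ∀ u < 204981, (fun u => chkXP tab xc xw u) u = true := ext_range (a := 204680) (len := 301) h680 xp_680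
  have h682 : ∀ u < 205282, (fun u => chkXP tab xc xw u) u = true := ext_range (a := 204981) (len := 301) h681 xp_681
  have h683 : ∀ u < 205583, (fun u => chkXP tab xc xw u) u = true := ext_range (a := 205282) (len := 301) h682 xp_682
  have h684 : ∀ u < 205884, (fun u => chkXP tab xc xw u) u = true := ext_range (a := 205583) (len := 301) h683 xp_683
  have h685 : ∀ u < 206185, (fun u => chkXP tab xc xw u) u = true := ext_range (a := 205884) (len := 301) h684 xp_684
  have h686 : ∀ u < 206486, (fun u => chkXP tab xc xw u) u = true := ext_range (a := 206185) (len := 301) h685 xp_685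
  have h687 : ∀ u < 206787, (fun u => chkXP tab xc xw u) u = true := ext_range (a := 206486) (len := 301) h686 xp_686
  have h688 : ∀ u < 207088, (fun u => chkXP tab xc xw u) u = true := ext_range (a := 206787) (len := 301) h687 xp_687
  have h689 : ∀ u < 207389, (fun u => chkXP tab xc xw u) u = true := ext_range (a := 207088) (len := 301) h688 xp_688
  have h690 : ∀ u < 207690, (fun u => chkXP tab xc xw u) u = true := ext_range (a := 207389) (len := 301) h689 xp_689
  have h691 : ∀ u < 207991, (fun u => chkXP tab xc xw u) u = true := ext_range (a := 207690) (len := 301) h690 xp_690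
  have h692 : ∀ u < 208292, (fun u => chkXP tab xc xw u) u = true := ext_range (a := 207991) (len := 301) h691 xp_691
  have h693 : ∀ u < 208593, (fun u => chkXP tab xc xw u) u = true := ext_range (a := 208292) (len := 301) h692 xp_692
  have h694 : ∀ u < 208894, (fun u => chkXP tab xc xw u) u = true := ext_range (a := 208593) (len := 301) h693 xp_693
  have h695 : ∀ u < 209195, (fun u => chkXP tab xc xw u) u = true := ext_range (a := 208894) (len := 301) h694 xp_694
  have h696 : ∀ u < 209496, (fun u => chkXP tab xc xw u) u = true := ext_range (a := 209195) (len := 301) h695 xp_695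
  have h697 : ∀ u < 209797, (fun u => chkXP tab xc xw u) u = true := ext_range (a := 209496) (len := 301) h696 xp_696
  have h698 : ∀ u < 210098, (fun u => chkXP tab xc xw u) u = true := ext_range (a := 209797) (len := 301) h697 xp_697
  have h699 : ∀ u < 210399, (fun u => chkXP tab xc xw u) u = true := ext_range (a := 210098) (len := 301) h698 xp_698
  have h700 : ∀ u < 210700, (fun u => chkXP tab xc xw u) u = true := ext_range (a := 210399) (len := 301) h699 xp_699
  have h701 : ∀ u < 211001, (fun u => chkXP tab xc xw u) u = true := ext_range (a := 210700) (len := 301) h700 xp_700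
  have h702 : ∀ u < 211302, (fun u => chkXP tab xc xw u) u = true := ext_range (a := 211001) (len := 301) h701 xp_701
  have h703 : ∀ u < 211603, (fun u => chkXP tab xc xw u) u = true := ext_range (a := 211302) (len := 301) h702 xp_702
  have h704 : ∀ u < 211904, (fun u => chkXP tab xc xw u) u = true := ext_range (a := 211603) (len := 301) h703 xp_703
  have h705 : ∀ u < 212205, (fun u => chkXP tab xc xw u) u = true := ext_range (a := 211904) (len := 301) h704 xp_704
  have h706 : ∀ u < 212506, (fun u => chkXP tab xc xw u) u = true := ext_range (a := 212205) (len := 301) h705 xp_705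
  have h707 : ∀ u < 212807, (fun u => chkXP tab xc xw u) u = true := ext_range (a := 212506) (len := 301) h706 xp_706
  have h708 : ∀ u < 213108, (fun u => chkXP tab xc xw u) u = true := ext_range (a := 212807) (len := 301) h707 xp_707
  have h709 : ∀ u < 213409, (fun u => chkXP tab xc xw u) u = true := ext_range (a := 213108) (len := 301) h708 xp_708
  have h710 : ∀ u < 213710, (fun u => chkXP tab xc xw u) u = true := ext_range (a := 213409) (len := 301) h709 xp_709
  have h711 : ∀ u < 214011, (fun u => chkXP tab xc xw u) u = true := ext_range (a := 213710) (len := 301) h710 xp_710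
  have h712 : ∀ u < 214312, (fun u => chkXP tab xc xw u) u = true := ext_range (a := 214011) (len := 301) h711 xp_711
  have h713 : ∀ u < 214613, (fun u => chkXP tab xc xw u) u = true := ext_range (a := 214312) (len := 301) h712 xp_712
  have h714 : ∀ u < 214914, (fun u => chkXP tab xc xw u) u = true := ext_range (a := 214613) (len := 301) h713 xp_713
  have h715 : ∀ u < 215215, (fun u => chkXP tab xc xw u) u = true := ext_range (a := 214914) (len := 301) h714 xp_714
  have h716 : ∀ u < 215516, (fun u => chkXP tab xc xw u) u = true := ext_range (a := 215215) (len := 301) h715 xp_715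
  have h717 : ∀ u < 215817, (fun u => chkXP tab xc xw u) u = true := ext_range (a := 215516) (len := 301) h716 xp_716
  have h718 : ∀ u < 216118, (fun u => chkXP tab xc xw u) u = true := ext_range (a := 215817) (len := 301) h717 xp_717
  have h719 : ∀ u < 216419, (fun u => chkXP tab xc xw u) u = true := ext_range (a := 216118) (len := 301) h718 xp_718
  have h720 : ∀ u < 216720, (fun u => chkXP tab xc xw u) u = true := ext_range (a := 216419) (len := 301) h719 xp_719
  have h721 : ∀ u < 217021, (fun u => chkXP tab xc xw u) u = true := ext_range (a := 216720) (len := 301) h720 xp_720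
  have h722 : ∀ u < 217322, (fun u => chkXP tab xc xw u) u = true := ext_range (a := 217021) (len := 301) h721 xp_721
  have h723 : ∀ u < 217623, (fun u => chkXP tab xc xw u) u = true := ext_range (a := 217322) (len := 301) h722 xp_722
  have h724 : ∀ u < 217924, (fun u => chkXP tab xc xw u) u = true := ext_range (a := 217623) (len := 301) h723 xp_723
  have h725 : ∀ u < 218225, (fun u => chkXP tab xc xw u) u = true := ext_range (a := 217924) (len := 301) h724 xp_724
  have h726 : ∀ u < 218526, (fun u => chkXP tab xc xw u) u = true := ext_range (a := 218225) (len := 301) h725 xp_725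
  have h727 : ∀ u < 218827, (fun u => chkXP tab xc xw u) u = true := ext_range (a := 218526) (len := 301) h726 xp_726
  have h728 : ∀ u < 219128, (fun u => chkXP tab xc xw u) u = true := ext_range (a := 218827) (len := 301) h727 xp_727
  have h729 : ∀ u < 219429, (fun u => chkXP tab xc xw u) u = true := ext_range (a := 219128) (len := 301) h728 xp_728
  have h730 : ∀ u < 219730, (fun u => chkXP tab xc xw u) u = true := ext_range (a := 219429) (len := 301) h729 xp_729
  have h731 : ∀ u < 220031, (fun u => chkXP tab xc xw u) u = true := ext_range (a := 219730) (len := 301) h730 xp_730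
  have h732 : ∀ u < 220332, (fun u => chkXP tab xc xw u) u = true := ext_range (a := 220031) (len := 301) h731 xp_731
  have h733 : ∀ u < 220633, (fun u => chkXP tab xc xw u) u = true := ext_range (a := 220332) (len := 301) h732 xp_732
  have h734 : ∀ u < 220934, (fun u => chkXP tab xc xw u) u = true := ext_range (a := 220633) (len := 301) h733 xp_733
  have h735 : ∀ u < 221235, (fun u => chkXP tab xc xw u) u = true := ext_range (a := 220934) (len := 301) h734 xp_734
  have h736 : ∀ u < 221536, (fun u => chkXP tab xc xw u) u = true := ext_range (a := 221235) (len := 301) h735 xp_735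
  have h737 : ∀ u < 221837, (fun u => chkXP tab xc xw u) u = true := ext_range (a := 221536) (len := 301) h736 xp_736
  have h738 : ∀ u < 222138, (fun u => chkXP tab xc xw u) u = true := ext_range (a := 221837) (len := 301) h737 xp_737
  have h739 : ∀ u < 222439, (fun u => chkXP tab xc xw u) u = true := ext_range (a := 222138) (len := 301) h738 xp_738
  have h740 : ∀ u < 222740, (fun u => chkXP tab xc xw u) u = true := ext_range (a := 222439) (len := 301) h739 xp_739
  have h741 : ∀ u < 223041, (fun u => chkXP tab xc xw u) u = true := ext_range (a := 222740) (len := 301) h740 xp_740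
  have h742 : ∀ u < 223342, (fun u => chkXP tab xc xw u) u = true := ext_range (a := 223041) (len := 301) h741 xp_741
  have h743 : ∀ u < 223643, (fun u => chkXP tab xc xw u) u = true := ext_range (a := 223342) (len := 301) h742 xp_742
  have h744 : ∀ u < 223944, (fun u => chkXP tab xc xw u) u = true := ext_range (a := 223643) (len := 301) h743 xp_743
  have h745 : ∀ u < 224245, (fun u => chkXP tab xc xw u) u = true := ext_range (a := 223944) (len := 301) h744 xp_744
  have h746 : ∀ u < 224546, (fun u => chkXP tab xc xw u) u = true := ext_range (a := 224245) (len := 301) h745 xp_745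
  have h747 : ∀ u < 224847, (fun u => chkXP tab xc xw u) u = true := ext_range (a := 224546) (len := 301) h746 xp_746
  have h748 : ∀ u < 225148, (fun u => chkXP tab xc xw u) u = true := ext_range (a := 224847) (len := 301) h747 xp_747
  have h749 : ∀ u < 225449, (fun u => chkXP tab xc xw u) u = true := ext_range (a := 225148) (len := 301) h748 xp_748
  have h750 : ∀ u < 225750, (fun u => chkXP tab xc xw u) u = true := ext_range (a := 225449) (len := 301) h749 xp_749
  have h751 : ∀ u < 226051, (fun u => chkXP tab xc xw u) u = true := ext_range (a := 225750) (len := 301) h750 xp_750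
  have h752 : ∀ u < 226352, (fun u => chkXP tab xc xw u) u = true := ext_range (a := 226051) (len := 301) h751 xp_751
  have h753 : ∀ u < 226653, (fun u => chkXP tab xc xw u) u = true := ext_range (a := 226352) (len := 301) h752 xp_752
  have h754 : ∀ u < 226954, (fun u => chkXP tab xc xw u) u = true := ext_range (a := 226653) (len := 301) h753 xp_753
  have h755 : ∀ u < 227255, (fun u => chkXP tab xc xw u) u = true := ext_range (a := 226954) (len := 301) h754 xp_754
  have h756 : ∀ u < 227556, (fun u => chkXP tab xc xw u) u = true := ext_range (a := 227255) (len := 301) h755 xp_755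
  have h757 : ∀ u < 227857, (fun u => chkXP tab xc xw u) u = true := ext_range (a := 227556) (len := 301) h756 xp_756
  have h758 : ∀ u < 228158, (fun u => chkXP tab xc xw u) u = true := ext_range (a := 227857) (len := 301) h757 xp_757
  have h759 : ∀ u < 228459, (fun u => chkXP tab xc xw u) u = true := ext_range (a := 228158) (len := 301) h758 xp_758
  have h760 : ∀ u < 228760, (fun u => chkXP tab xc xw u) u = true := ext_range (a := 228459) (len := 301) h759 xp_759
  have h761 : ∀ u < 229061, (fun u => chkXP tab xc xw u) u = true := ext_range (a := 228760) (len := 301) h760 xp_760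
  have h762 : ∀ u < 229362, (fun u => chkXP tab xc xw u) u = true := ext_range (a := 229061) (len := 301) h761 xp_761
  have h763 : ∀ u < 229663, (fun u => chkXP tab xc xw u) u = true := ext_range (a := 229362) (len := 301) h762 xp_762
  have h764 : ∀ u < 229964, (fun u => chkXP tab xc xw u) u = true := ext_range (a := 229663) (len := 301) h763 xp_763
  have h765 : ∀ u < 230265, (fun u => chkXP tab xc xw u) u = true := ext_range (a := 229964) (len := 301) h764 xp_764
  have h766 : ∀ u < 230566, (fun u => chkXP tab xc xw u) u = true := ext_range (a := 230265) (len := 301) h765 xp_765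
  have h767 : ∀ u < 230867, (fun u => chkXP tab xc xw u) u = true := ext_range (a := 230566) (len := 301) h766 xp_766
  have h768 : ∀ u < 231168, (fun u => chkXP tab xc xw u) u = true := ext_range (a := 230867) (len := 301) h767 xp_767
  have h769 : ∀ u < 231469, (fun u => chkXP tab xc xw u) u = true := ext_range (a := 231168) (len := 301) h768 xp_768
  have h770 : ∀ u < 231770, (fun u => chkXP tab xc xw u) u = true := ext_range (a := 231469) (len := 301) h769 xp_769
  have h771 : ∀ u < 232071, (fun u => chkXP tab xc xw u) u = true := ext_range (a := 231770) (len := 301) h770 xp_770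
  have h772 : ∀ u < 232372, (fun u => chkXP tab xc xw u) u = true := ext_range (a := 232071) (len := 301) h771 xp_771
  have h773 : ∀ u < 232673, (fun u => chkXP tab xc xw u) u = true := ext_range (a := 232372) (len := 301) h772 xp_772
  have h774 : ∀ u < 232974, (fun u => chkXP tab xc xw u) u = true := ext_range (a := 232673) (len := 301) h773 xp_773
  have h775 : ∀ u < 233275, (fun u => chkXP tab xc xw u) u = true := ext_range (a := 232974) (len := 301) h774 xp_774
  have h776 : ∀ u < 233576, (fun u => chkXP tab xc xw u) u = true := ext_range (a := 233275) (len := 301) h775 xp_775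
  have h777 : ∀ u < 233877, (fun u => chkXP tab xc xw u) u = true := ext_range (a := 233576) (len := 301) h776 xp_776
  have h778 : ∀ u < 234178, (fun u => chkXP tab xc xw u) u = true := ext_range (a := 233877) (len := 301) h777 xp_777
  have h779 : ∀ u < 234479, (fun u => chkXP tab xc xw u) u = true := ext_range (a := 234178) (len := 301) h778 xp_778
  have h780 : ∀ u < 234780, (fun u => chkXP tab xc xw u) u = true := ext_range (a := 234479) (len := 301) h779 xp_779
  have h781 : ∀ u < 235081, (fun u => chkXP tab xc xw u) u = true := ext_range (a := 234780) (len := 301) h780 xp_780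
  have h782 : ∀ u < 235382, (fun u => chkXP tab xc xw u) u = true := ext_range (a := 235081) (len := 301) h781 xp_781
  have h783 : ∀ u < 235683, (fun u => chkXP tab xc xw u) u = true := ext_range (a := 235382) (len := 301) h782 xp_782
  have h784 : ∀ u < 235984, (fun u => chkXP tab xc xw u) u = true := ext_range (a := 235683) (len := 301) h783 xp_783
  have h785 : ∀ u < 236285, (fun u => chkXP tab xc xw u) u = true := ext_range (a := 235984) (len := 301) h784 xp_784
  have h786 : ∀ u < 236586, (fun u => chkXP tab xc xw u) u = true := ext_range (a := 236285) (len := 301) h785 xp_785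
  have h787 : ∀ u < 236887, (fun u => chkXP tab xc xw u) u = true := ext_range (a := 236586) (len := 301) h786 xp_786
  have h788 : ∀ u < 237188, (fun u => chkXP tab xc xw u) u = true := ext_range (a := 236887) (len := 301) h787 xp_787
  have h789 : ∀ u < 237489, (fun u => chkXP tab xc xw u) u = true := ext_range (a := 237188) (len := 301) h788 xp_788
  have h790 : ∀ u < 237790, (fun u => chkXP tab xc xw u) u = true := ext_range (a := 237489) (len := 301) h789 xp_789
  have h791 : ∀ u < 238091, (fun u => chkXP tab xc xw u) u = true := ext_range (a := 237790) (len := 301) h790 xp_790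
  have h792 : ∀ u < 238392, (fun u => chkXP tab xc xw u) u = true := ext_range (a := 238091) (len := 301) h791 xp_791
  have h793 : ∀ u < 238693, (fun u => chkXP tab xc xw u) u = true := ext_range (a := 238392) (len := 301) h792 xp_792
  have h794 : ∀ u < 238994, (fun u => chkXP tab xc xw u) u = true := ext_range (a := 238693) (len := 301) h793 xp_793
  have h795 : ∀ u < 239295, (fun u => chkXP tab xc xw u) u = true := ext_range (a := 238994) (len := 301) h794 xp_794
  have h796 : ∀ u < 239596, (fun u => chkXP tab xc xw u) u = true := ext_range (a := 239295) (len := 301) h795 xp_795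
  have h797 : ∀ u < 239897, (fun u => chkXP tab xc xw u) u = true := ext_range (a := 239596) (len := 301) h796 xp_796
  have h798 : ∀ u < 240198, (fun u => chkXP tab xc xw u) u = true := ext_range (a := 239897) (len := 301) h797 xp_797
  have h799 : ∀ u < 240499, (fun u => chkXP tab xc xw u) u = true := ext_range (a := 240198) (len := 301) h798 xp_798
  have h800 : ∀ u < 240800, (fun u => chkXP tab xc xw u) u = true := ext_range (a := 240499) (len := 301) h799 xp_799
  have h801 : ∀ u < 241101, (fun u => chkXP tab xc xw u) u = true := ext_range (a := 240800) (len := 301) h800 xp_800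
  have h802 : ∀ u < 241402, (fun u => chkXP tab xc xw u) u = true := ext_range (a := 241101) (len := 301) h801 xp_801
  have h803 : ∀ u < 241703, (fun u => chkXP tab xc xw u) u = true := ext_range (a := 241402) (len := 301) h802 xp_802
  have h804 : ∀ u < 242004, (fun u => chkXP tab xc xw u) u = true := ext_range (a := 241703) (len := 301) h803 xp_803
  have h805 : ∀ u < 242305, (fun u => chkXP tab xc xw u) u = true := ext_range (a := 242004) (len := 301) h804 xp_804
  have h806 : ∀ u < 242606, (fun u => chkXP tab xc xw u) u = true := ext_range (a := 242305) (len := 301) h805 xp_805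
  have h807 : ∀ u < 242907, (fun u => chkXP tab xc xw u) u = true := ext_range (a := 242606) (len := 301) h806 xp_806
  have h808 : ∀ u < 243208, (fun u => chkXP tab xc xw u) u = true := ext_range (a := 242907) (len := 301) h807 xp_807
  have h809 : ∀ u < 243509, (fun u => chkXP tab xc xw u) u = true := ext_range (a := 243208) (len := 301) h808 xp_808
  have h810 : ∀ u < 243810, (fun u => chkXP tab xc xw u) u = true := ext_range (a := 243509) (len := 301) h809 xp_809
  have h811 : ∀ u < 244111, (fun u => chkXP tab xc xw u) u = true := ext_range (a := 243810) (len := 301) h810 xp_810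
  have h812 : ∀ u < 244412, (fun u => chkXP tab xc xw u) u = true := ext_range (a := 244111) (len := 301) h811 xp_811
  have h813 : ∀ u < 244713, (fun u => chkXP tab xc xw u) u = true := ext_range (a := 244412) (len := 301) h812 xp_812
  have h814 : ∀ u < 245014, (fun u => chkXP tab xc xw u) u = true := ext_range (a := 244713) (len := 301) h813 xp_813
  have h815 : ∀ u < 245315, (fun u => chkXP tab xc xw u) u = true := ext_range (a := 245014) (len := 301) h814 xp_814
  have h816 : ∀ u < 245616, (fun u => chkXP tab xc xw u) u = true := ext_range (a := 245315) (len := 301) h815 xp_815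
  have h817 : ∀ u < 245917, (fun u => chkXP tab xc xw u) u = true := ext_range (a := 245616) (len := 301) h816 xp_816
  have h818 : ∀ u < 246218, (fun u => chkXP tab xc xw u) u = true := ext_range (a := 245917) (len := 301) h817 xp_817
  have h819 : ∀ u < 246519, (fun u => chkXP tab xc xw u) u = true := ext_range (a := 246218) (len := 301) h818 xp_818
  have h820 : ∀ u < 246820, (fun u => chkXP tab xc xw u) u = true := ext_range (a := 246519) (len := 301) h819 xp_819
  have h821 : ∀ u < 247121, (fun u => chkXP tab xc xw u) u = true := ext_range (a := 246820) (len := 301) h820 xp_820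
  have h822 : ∀ u < 247422, (fun u => chkXP tab xc xw u) u = true := ext_range (a := 247121) (len := 301) h821 xp_821
  have h823 : ∀ u < 247723, (fun u => chkXP tab xc xw u) u = true := ext_range (a := 247422) (len := 301) h822 xp_822
  have h824 : ∀ u < 248024, (fun u => chkXP tab xc xw u) u = true := ext_range (a := 247723) (len := 301) h823 xp_823
  have h825 : ∀ u < 248325, (fun u => chkXP tab xc xw u) u = true := ext_range (a := 248024) (len := 301) h824 xp_824
  have h826 : ∀ u < 248626, (fun u => chkXP tab xc xw u) u = true := ext_range (a := 248325) (len := 301) h825 xp_825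
  have h827 : ∀ u < 248927, (fun u => chkXP tab xc xw u) u = true := ext_range (a := 248626) (len := 301) h826 xp_826
  have h828 : ∀ u < 249228, (fun u => chkXP tab xc xw u) u = true := ext_range (a := 248927) (len := 301) h827 xp_827
  have h829 : ∀ u < 249529, (fun u => chkXP tab xc xw u) u = true := ext_range (a := 249228) (len := 301) h828 xp_828
  have h830 : ∀ u < 249830, (fun u => chkXP tab xc xw u) u = true := ext_range (a := 249529) (len := 301) h829 xp_829
  have h831 : ∀ u < 250131, (fun u => chkXP tab xc xw u) u = true := ext_range (a := 249830) (len := 301) h830 xp_830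
  have h832 : ∀ u < 250432, (fun u => chkXP tab xc xw u) u = true := ext_range (a := 250131) (len := 301) h831 xp_831
  have h833 : ∀ u < 250733, (fun u => chkXP tab xc xw u) u = true := ext_range (a := 250432) (len := 301) h832 xp_832
  have h834 : ∀ u < 251034, (fun u => chkXP tab xc xw u) u = true := ext_range (a := 250733) (len := 301) h833 xp_833
  have h835 : ∀ u < 251335, (fun u => chkXP tab xc xw u) u = true := ext_range (a := 251034) (len := 301) h834 xp_834
  have h836 : ∀ u < 251636, (fun u => chkXP tab xc xw u) u = true := ext_range (a := 251335) (len := 301) h835 xp_835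
  have h837 : ∀ u < 251937, (fun u => chkXP tab xc xw u) u = true := ext_range (a := 251636) (len := 301) h836 xp_836
  have h838 : ∀ u < 252238, (fun u => chkXP tab xc xw u) u = true := ext_range (a := 251937) (len := 301) h837 xp_837
  have h839 : ∀ u < 252539, (fun u => chkXP tab xc xw u) u = true := ext_range (a := 252238) (len := 301) h838 xp_838
  have h840 : ∀ u < 252840, (fun u => chkXP tab xc xw u) u = true := ext_range (a := 252539) (len := 301) h839 xp_839
  have h841 : ∀ u < 253141, (fun u => chkXP tab xc xw u) u = true := ext_range (a := 252840) (len := 301) h840 xp_840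
  have h842 : ∀ u < 253442, (fun u => chkXP tab xc xw u) u = true := ext_range (a := 253141) (len := 301) h841 xp_841
  have h843 : ∀ u < 253743, (fun u => chkXP tab xc xw u) u = true := ext_range (a := 253442) (len := 301) h842 xp_842
  have h844 : ∀ u < 254044, (fun u => chkXP tab xc xw u) u = true := ext_range (a := 253743) (len := 301) h843 xp_843
  have h845 : ∀ u < 254345, (fun u => chkXP tab xc xw u) u = true := ext_range (a := 254044) (len := 301) h844 xp_844
  have h846 : ∀ u < 254646, (fun u => chkXP tab xc xw u) u = true := ext_range (a := 254345) (len := 301) h845 xp_845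
  have h847 : ∀ u < 254947, (fun u => chkXP tab xc xw u) u = true := ext_range (a := 254646) (len := 301) h846 xp_846
  have h848 : ∀ u < 255248, (fun u => chkXP tab xc xw u) u = true := ext_range (a := 254947) (len := 301) h847 xp_847
  have h849 : ∀ u < 255549, (fun u => chkXP tab xc xw u) u = true := ext_range (a := 255248) (len := 301) h848 xp_848
  have h850 : ∀ u < 255850, (fun u => chkXP tab xc xw u) u = true := ext_range (a := 255549) (len := 301) h849 xp_849
  have h851 : ∀ u < 256151, (fun u => chkXP tab xc xw u) u = true := ext_range (a := 255850) (len := 301) h850 xp_850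
  have h852 : ∀ u < 256452, (fun u => chkXP tab xc xw u) u = true := ext_range (a := 256151) (len := 301) h851 xp_851
  have h853 : ∀ u < 256753, (fun u => chkXP tab xc xw u) u = true := ext_range (a := 256452) (len := 301) h852 xp_852
  have h854 : ∀ u < 257054, (fun u => chkXP tab xc xw u) u = true := ext_range (a := 256753) (len := 301) h853 xp_853
  have h855 : ∀ u < 257355, (fun u => chkXP tab xc xw u) u = true := ext_range (a := 257054) (len := 301) h854 xp_854
  have h856 : ∀ u < 257656, (fun u => chkXP tab xc xw u) u = true := ext_range (a := 257355) (len := 301) h855 xp_855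
  have h857 : ∀ u < 257957, (fun u => chkXP tab xc xw u) u = true := ext_range (a := 257656) (len := 301) h856 xp_856
  have h858 : ∀ u < 258258, (fun u => chkXP tab xc xw u) u = true := ext_range (a := 257957) (len := 301) h857 xp_857
  have h859 : ∀ u < 258559, (fun u => chkXP tab xc xw u) u = true := ext_range (a := 258258) (len := 301) h858 xp_858
  have h860 : ∀ u < 258860, (fun u => chkXP tab xc xw u) u = true := ext_range (a := 258559) (len := 301) h859 xp_859
  have h861 : ∀ u < 259161, (fun u => chkXP tab xc xw u) u = true := ext_range (a := 258860) (len := 301) h860 xp_860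
  have h862 : ∀ u < 259462, (fun u => chkXP tab xc xw u) u = true := ext_range (a := 259161) (len := 301) h861 xp_861
  have h863 : ∀ u < 259763, (fun u => chkXP tab xc xw u) u = true := ext_range (a := 259462) (len := 301) h862 xp_862
  have h864 : ∀ u < 260064, (fun u => chkXP tab xc xw u) u = true := ext_range (a := 259763) (len := 301) h863 xp_863
  have h865 : ∀ u < 260365, (fun u => chkXP tab xc xw u) u = true := ext_range (a := 260064) (len := 301) h864 xp_864
  have h866 : ∀ u < 260666, (fun u => chkXP tab xc xw u) u = true := ext_range (a := 260365) (len := 301) h865 xp_865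
  have h867 : ∀ u < 260967, (fun u => chkXP tab xc xw u) u = true := ext_range (a := 260666) (len := 301) h866 xp_866
  have h868 : ∀ u < 261268, (fun u => chkXP tab xc xw u) u = true := ext_range (a := 260967) (len := 301) h867 xp_867
  have h869 : ∀ u < 261569, (fun u => chkXP tab xc xw u) u = true := ext_range (a := 261268) (len := 301) h868 xp_868
  have h870 : ∀ u < 261870, (fun u => chkXP tab xc xw u) u = true := ext_range (a := 261569) (len := 301) h869 xp_869
  have h871 : ∀ u < 262171, (fun u => chkXP tab xc xw u) u = true := ext_range (a := 261870) (len := 301) h870 xp_870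
  have h872 : ∀ u < 262472, (fun u => chkXP tab xc xw u) u = true := ext_range (a := 262171) (len := 301) h871 xp_871
  have h873 : ∀ u < 262773, (fun u => chkXP tab xc xw u) u = true := ext_range (a := 262472) (len := 301) h872 xp_872
  have h874 : ∀ u < 263074, (fun u => chkXP tab xc xw u) u = true := ext_range (a := 262773) (len := 301) h873 xp_873
  have h875 : ∀ u < 263375, (fun u => chkXP tab xc xw u) u = true := ext_range (a := 263074) (len := 301) h874 xp_874
  have h876 : ∀ u < 263676, (fun u => chkXP tab xc xw u) u = true := ext_range (a := 263375) (len := 301) h875 xp_875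
  have h877 : ∀ u < 263977, (fun u => chkXP tab xc xw u) u = true := ext_range (a := 263676) (len := 301) h876 xp_876
  have h878 : ∀ u < 264278, (fun u => chkXP tab xc xw u) u = true := ext_range (a := 263977) (len := 301) h877 xp_877
  have h879 : ∀ u < 264579, (fun u => chkXP tab xc xw u) u = true := ext_range (a := 264278) (len := 301) h878 xp_878
  have h880 : ∀ u < 264880, (fun u => chkXP tab xc xw u) u = true := ext_range (a := 264579) (len := 301) h879 xp_879
  have h881 : ∀ u < 265181, (fun u => chkXP tab xc xw u) u = true := ext_range (a := 264880) (len := 301) h880 xp_880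
  have h882 : ∀ u < 265482, (fun u => chkXP tab xc xw u) u = true := ext_range (a := 265181) (len := 301) h881 xp_881
  have h883 : ∀ u < 265783, (fun u => chkXP tab xc xw u) u = true := ext_range (a := 265482) (len := 301) h882 xp_882
  have h884 : ∀ u < 266084, (fun u => chkXP tab xc xw u) u = true := ext_range (a := 265783) (len := 301) h883 xp_883
  have h885 : ∀ u < 266385, (fun u => chkXP tab xc xw u) u = true := ext_range (a := 266084) (len := 301) h884 xp_884
  have h886 : ∀ u < 266686, (fun u => chkXP tab xc xw u) u = true := ext_range (a := 266385) (len := 301) h885 xp_885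
  have h887 : ∀ u < 266987, (fun u => chkXP tab xc xw u) u = true := ext_range (a := 266686) (len := 301) h886 xp_886
  have h888 : ∀ u < 267288, (fun u => chkXP tab xc xw u) u = true := ext_range (a := 266987) (len := 301) h887 xp_887
  have h889 : ∀ u < 267589, (fun u => chkXP tab xc xw u) u = true := ext_range (a := 267288) (len := 301) h888 xp_888
  have h890 : ∀ u < 267890, (fun u => chkXP tab xc xw u) u = true := ext_range (a := 267589) (len := 301) h889 xp_889
  have h891 : ∀ u < 268191, (fun u => chkXP tab xc xw u) u = true := ext_range (a := 267890) (len := 301) h890 xp_890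
  have h892 : ∀ u < 268492, (fun u => chkXP tab xc xw u) u = true := ext_range (a := 268191) (len := 301) h891 xp_891
  have h893 : ∀ u < 268793, (fun u => chkXP tab xc xw u) u = true := ext_range (a := 268492) (len := 301) h892 xp_892
  have h894 : ∀ u < 269094, (fun u => chkXP tab xc xw u) u = true := ext_range (a := 268793) (len := 301) h893 xp_893
  have h895 : ∀ u < 269395, (fun u => chkXP tab xc xw u) u = true := ext_range (a := 269094) (len := 301) h894 xp_894
  have h896 : ∀ u < 269696, (fun u => chkXP tab xc xw u) u = true := ext_range (a := 269395) (len := 301) h895 xp_895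
  have h897 : ∀ u < 269997, (fun u => chkXP tab xc xw u) u = true := ext_range (a := 269696) (len := 301) h896 xp_896
  have h898 : ∀ u < 270298, (fun u => chkXP tab xc xw u) u = true := ext_range (a := 269997) (len := 301) h897 xp_897
  have h899 : ∀ u < 270599, (fun u => chkXP tab xc xw u) u = true := ext_range (a := 270298) (len := 301) h898 xp_898
  have h900 : ∀ u < 270900, (fun u => chkXP tab xc xw u) u = true := ext_range (a := 270599) (len := 301) h899 xp_899
  have h901 : ∀ u < 271201, (fun u => chkXP tab xc xw u) u = true := ext_range (a := 270900) (len := 301) h900 xp_900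
  have h902 : ∀ u < 271502, (fun u => chkXP tab xc xw u) u = true := ext_range (a := 271201) (len := 301) h901 xp_901
  have h903 : ∀ u < 271803, (fun u => chkXP tab xc xw u) u = true := ext_range (a := 271502) (len := 301) h902 xp_902
  have h904 : ∀ u < 272104, (fun u => chkXP tab xc xw u) u = true := ext_range (a := 271803) (len := 301) h903 xp_903
  have h905 : ∀ u < 272405, (fun u => chkXP tab xc xw u) u = true := ext_range (a := 272104) (len := 301) h904 xp_904
  have h906 : ∀ u < 272706, (fun u => chkXP tab xc xw u) u = true := ext_range (a := 272405) (len := 301) h905 xp_905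
  have h907 : ∀ u < 273007, (fun u => chkXP tab xc xw u) u = true := ext_range (a := 272706) (len := 301) h906 xp_906
  have h908 : ∀ u < 273308, (fun u => chkXP tab xc xw u) u = true := ext_range (a := 273007) (len := 301) h907 xp_907
  have h909 : ∀ u < 273609, (fun u => chkXP tab xc xw u) u = true := ext_range (a := 273308) (len := 301) h908 xp_908
  have h910 : ∀ u < 273910, (fun u => chkXP tab xc xw u) u = true := ext_range (a := 273609) (len := 301) h909 xp_909
  have h911 : ∀ u < 274211, (fun u => chkXP tab xc xw u) u = true := ext_range (a := 273910) (len := 301) h910 xp_910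
  have h912 : ∀ u < 274512, (fun u => chkXP tab xc xw u) u = true := ext_range (a := 274211) (len := 301) h911 xp_911
  have h913 : ∀ u < 274813, (fun u => chkXP tab xc xw u) u = true := ext_range (a := 274512) (len := 301) h912 xp_912
  have h914 : ∀ u < 275114, (fun u => chkXP tab xc xw u) u = true := ext_range (a := 274813) (len := 301) h913 xp_913
  have h915 : ∀ u < 275415, (fun u => chkXP tab xc xw u) u = true := ext_range (a := 275114) (len := 301) h914 xp_914
  have h916 : ∀ u < 275716, (fun u => chkXP tab xc xw u) u = true := ext_range (a := 275415) (len := 301) h915 xp_915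
  have h917 : ∀ u < 276017, (fun u => chkXP tab xc xw u) u = true := ext_range (a := 275716) (len := 301) h916 xp_916
  have h918 : ∀ u < 276318, (fun u => chkXP tab xc xw u) u = true := ext_range (a := 276017) (len := 301) h917 xp_917
  have h919 : ∀ u < 276619, (fun u => chkXP tab xc xw u) u = true := ext_range (a := 276318) (len := 301) h918 xp_918
  have h920 : ∀ u < 276920, (fun u => chkXP tab xc xw u) u = true := ext_range (a := 276619) (len := 301) h919 xp_919
  have h921 : ∀ u < 277221, (fun u => chkXP tab xc xw u) u = true := ext_range (a := 276920) (len := 301) h920 xp_920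
  have h922 : ∀ u < 277522, (fun u => chkXP tab xc xw u) u = true := ext_range (a := 277221) (len := 301) h921 xp_921
  have h923 : ∀ u < 277823, (fun u => chkXP tab xc xw u) u = true := ext_range (a := 277522) (len := 301) h922 xp_922
  have h924 : ∀ u < 278124, (fun u => chkXP tab xc xw u) u = true := ext_range (a := 277823) (len := 301) h923 xp_923
  have h925 : ∀ u < 278425, (fun u => chkXP tab xc xw u) u = true := ext_range (a := 278124) (len := 301) h924 xp_924
  have h926 : ∀ u < 278726, (fun u => chkXP tab xc xw u) u = true := ext_range (a := 278425) (len := 301) h925 xp_925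
  have h927 : ∀ u < 279027, (fun u => chkXP tab xc xw u) u = true := ext_range (a := 278726) (len := 301) h926 xp_926
  have h928 : ∀ u < 279328, (fun u => chkXP tab xc xw u) u = true := ext_range (a := 279027) (len := 301) h927 xp_927
  have h929 : ∀ u < 279629, (fun u => chkXP tab xc xw u) u = true := ext_range (a := 279328) (len := 301) h928 xp_928
  have h930 : ∀ u < 279930, (fun u => chkXP tab xc xw u) u = true := ext_range (a := 279629) (len := 301) h929 xp_929
  have h931 : ∀ u < 280231, (fun u => chkXP tab xc xw u) u = true := ext_range (a := 279930) (len := 301) h930 xp_930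
  have h932 : ∀ u < 280532, (fun u => chkXP tab xc xw u) u = true := ext_range (a := 280231) (len := 301) h931 xp_931
  have h933 : ∀ u < 280833, (fun u => chkXP tab xc xw u) u = true := ext_range (a := 280532) (len := 301) h932 xp_932
  have h934 : ∀ u < 281134, (fun u => chkXP tab xc xw u) u = true := ext_range (a := 280833) (len := 301) h933 xp_933
  have h935 : ∀ u < 281435, (fun u => chkXP tab xc xw u) u = true := ext_range (a := 281134) (len := 301) h934 xp_934
  have h936 : ∀ u < 281736, (fun u => chkXP tab xc xw u) u = true := ext_range (a := 281435) (len := 301) h935 xp_935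
  have h937 : ∀ u < 282037, (fun u => chkXP tab xc xw u) u = true := ext_range (a := 281736) (len := 301) h936 xp_936
  have h938 : ∀ u < 282338, (fun u => chkXP tab xc xw u) u = true := ext_range (a := 282037) (len := 301) h937 xp_937
  have h939 : ∀ u < 282639, (fun u => chkXP tab xc xw u) u = true := ext_range (a := 282338) (len := 301) h938 xp_938
  have h940 : ∀ u < 282940, (fun u => chkXP tab xc xw u) u = true := ext_range (a := 282639) (len := 301) h939 xp_939
  have h941 : ∀ u < 283241, (fun u => chkXP tab xc xw u) u = true := ext_range (a := 282940) (len := 301) h940 xp_940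
  have h942 : ∀ u < 283542, (fun u => chkXP tab xc xw u) u = true := ext_range (a := 283241) (len := 301) h941 xp_941
  have h943 : ∀ u < 283843, (fun u => chkXP tab xc xw u) u = true := ext_range (a := 283542) (len := 301) h942 xp_942
  have h944 : ∀ u < 284144, (fun u => chkXP tab xc xw u) u = true := ext_range (a := 283843) (len := 301) h943 xp_943
  have h945 : ∀ u < 284445, (fun u => chkXP tab xc xw u) u = true := ext_range (a := 284144) (len := 301) h944 xp_944
  have h946 : ∀ u < 284746, (fun u => chkXP tab xc xw u) u = true := ext_range (a := 284445) (len := 301) h945 xp_945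
  have h947 : ∀ u < 285047, (fun u => chkXP tab xc xw u) u = true := ext_range (a := 284746) (len := 301) h946 xp_946
  have h948 : ∀ u < 285348, (fun u => chkXP tab xc xw u) u = true := ext_range (a := 285047) (len := 301) h947 xp_947
  have h949 : ∀ u < 285649, (fun u => chkXP tab xc xw u) u = true := ext_range (a := 285348) (len := 301) h948 xp_948
  have h950 : ∀ u < 285950, (fun u => chkXP tab xc xw u) u = true := ext_range (a := 285649) (len := 301) h949 xp_949
  have h951 : ∀ u < 286251, (fun u => chkXP tab xc xw u) u = true := ext_range (a := 285950) (len := 301) h950 xp_950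
  have h952 : ∀ u < 286552, (fun u => chkXP tab xc xw u) u = true := ext_range (a := 286251) (len := 301) h951 xp_951
  have h953 : ∀ u < 286853, (fun u => chkXP tab xc xw u) u = true := ext_range (a := 286552) (len := 301) h952 xp_952
  have h954 : ∀ u < 287154, (fun u => chkXP tab xc xw u) u = true := ext_range (a := 286853) (len := 301) h953 xp_953
  have h955 : ∀ u < 287455, (fun u => chkXP tab xc xw u) u = true := ext_range (a := 287154) (len := 301) h954 xp_954
  have h956 : ∀ u < 287756, (fun u => chkXP tab xc xw u) u = true := ext_range (a := 287455) (len := 301) h955 xp_955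
  have h957 : ∀ u < 288057, (fun u => chkXP tab xc xw u) u = true := ext_range (a := 287756) (len := 301) h956 xp_956
  have h958 : ∀ u < 288358, (fun u => chkXP tab xc xw u) u = true := ext_range (a := 288057) (len := 301) h957 xp_957
  have h959 : ∀ u < 288659, (fun u => chkXP tab xc xw u) u = true := ext_range (a := 288358) (len := 301) h958 xp_958
  have h960 : ∀ u < 288960, (fun u => chkXP tab xc xw u) u = true := ext_range (a := 288659) (len := 301) h959 xp_959
  have h961 : ∀ u < 289261, (fun u => chkXP tab xc xw u) u = true := ext_range (a := 288960) (len := 301) h960 xp_960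
  have h962 : ∀ u < 289562, (fun u => chkXP tab xc xw u) u = true := ext_range (a := 289261) (len := 301) h961 xp_961
  have h963 : ∀ u < 289863, (fun u => chkXP tab xc xw u) u = true := ext_range (a := 289562) (len := 301) h962 xp_962
  have h964 : ∀ u < 290164, (fun u => chkXP tab xc xw u) u = true := ext_range (a := 289863) (len := 301) h963 xp_963
  have h965 : ∀ u < 290465, (fun u => chkXP tab xc xw u) u = true := ext_range (a := 290164) (len := 301) h964 xp_964
  have h966 : ∀ u < 290766, (fun u => chkXP tab xc xw u) u = true := ext_range (a := 290465) (len := 301) h965 xp_965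
  have h967 : ∀ u < 291067, (fun u => chkXP tab xc xw u) u = true := ext_range (a := 290766) (len := 301) h966 xp_966
  have h968 : ∀ u < 291368, (fun u => chkXP tab xc xw u) u = true := ext_range (a := 291067) (len := 301) h967 xp_967
  have h969 : ∀ u < 291669, (fun u => chkXP tab xc xw u) u = true := ext_range (a := 291368) (len := 301) h968 xp_968
  have h970 : ∀ u < 291970, (fun u => chkXP tab xc xw u) u = true := ext_range (a := 291669) (len := 301) h969 xp_969
  have h971 : ∀ u < 292271, (fun u => chkXP tab xc xw u) u = true := ext_range (a := 291970) (len := 301) h970 xp_970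
  have h972 : ∀ u < 292572, (fun u => chkXP tab xc xw u) u = true := ext_range (a := 292271) (len := 301) h971 xp_971
  have h973 : ∀ u < 292873, (fun u => chkXP tab xc xw u) u = true := ext_range (a := 292572) (len := 301) h972 xp_972
  have h974 : ∀ u < 293174, (fun u => chkXP tab xc xw u) u = true := ext_range (a := 292873) (len := 301) h973 xp_973
  have h975 : ∀ u < 293475, (fun u => chkXP tab xc xw u) u = true := ext_range (a := 293174) (len := 301) h974 xp_974
  have h976 : ∀ u < 293776, (fun u => chkXP tab xc xw u) u = true := ext_range (a := 293475) (len := 301) h975 xp_975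
  have h977 : ∀ u < 294077, (fun u => chkXP tab xc xw u) u = true := ext_range (a := 293776) (len := 301) h976 xp_976
  have h978 : ∀ u < 294378, (fun u => chkXP tab xc xw u) u = true := ext_range (a := 294077) (len := 301) h977 xp_977
  have h979 : ∀ u < 294679, (fun u => chkXP tab xc xw u) u = true := ext_range (a := 294378) (len := 301) h978 xp_978
  have h980 : ∀ u < 294980, (fun u => chkXP tab xc xw u) u = true := ext_range (a := 294679) (len := 301) h979 xp_979
  have h981 : ∀ u < 295281, (fun u => chkXP tab xc xw u) u = true := ext_range (a := 294980) (len := 301) h980 xp_980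
  have h982 : ∀ u < 295582, (fun u => chkXP tab xc xw u) u = true := ext_range (a := 295281) (len := 301) h981 xp_981
  have h983 : ∀ u < 295883, (fun u => chkXP tab xc xw u) u = true := ext_range (a := 295582) (len := 301) h982 xp_982
  have h984 : ∀ u < 296184, (fun u => chkXP tab xc xw u) u = true := ext_range (a := 295883) (len := 301) h983 xp_983
  have h985 : ∀ u < 296485, (fun u => chkXP tab xc xw u) u = true := ext_range (a := 296184) (len := 301) h984 xp_984
  have h986 : ∀ u < 296786, (fun u => chkXP tab xc xw u) u = true := ext_range (a := 296485) (len := 301) h985 xp_985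
  have h987 : ∀ u < 297087, (fun u => chkXP tab xc xw u) u = true := ext_range (a := 296786) (len := 301) h986 xp_986
  have h988 : ∀ u < 297388, (fun u => chkXP tab xc xw u) u = true := ext_range (a := 297087) (len := 301) h987 xp_987
  have h989 : ∀ u < 297689, (fun u => chkXP tab xc xw u) u = true := ext_range (a := 297388) (len := 301) h988 xp_988
  have h990 : ∀ u < 297990, (fun u => chkXP tab xc xw u) u = true := ext_range (a := 297689) (len := 301) h989 xp_989
  have h991 : ∀ u < 298291, (fun u => chkXP tab xc xw u) u = true := ext_range (a := 297990) (len := 301) h990 xp_990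
  have h992 : ∀ u < 298592, (fun u => chkXP tab xc xw u) u = true := ext_range (a := 298291) (len := 301) h991 xp_991
  have h993 : ∀ u < 298893, (fun u => chkXP tab xc xw u) u = true := ext_range (a := 298592) (len := 301) h992 xp_992
  have h994 : ∀ u < 299194, (fun u => chkXP tab xc xw u) u = true := ext_range (a := 298893) (len := 301) h993 xp_993
  have h995 : ∀ u < 299495, (fun u => chkXP tab xc xw u) u = true := ext_range (a := 299194) (len := 301) h994 xp_994
  have h996 : ∀ u < 299796, (fun u => chkXP tab xc xw u) u = true := ext_range (a := 299495) (len := 301) h995 xp_995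
  have h997 : ∀ u < 300097, (fun u => chkXP tab xc xw u) u = true := ext_range (a := 299796) (len := 301) h996 xp_996
  have h998 : ∀ u < 300398, (fun u => chkXP tab xc xw u) u = true := ext_range (a := 300097) (len := 301) h997 xp_997
  have h999 : ∀ u < 300699, (fun u => chkXP tab xc xw u) u = true := ext_range (a := 300398) (len := 301) h998 xp_998
  have h1000 : ∀ u < 301000, (fun u => chkXP tab xc xw u) u = true := ext_range (a := 300699) (len := 301) h999 xp_999
  have h1001 : ∀ u < 301301, (fun u => chkXP tab xc xw u) u = true := ext_range (a := 301000) (len := 301) h1000 xp_1000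
  have h1002 : ∀ u < 301602, (fun u => chkXP tab xc xw u) u = true := ext_range (a := 301301) (len := 301) h1001 xp_1001
  have h1003 : ∀ u < 301903, (fun u => chkXP tab xc xw u) u = true := ext_range (a := 301602) (len := 301) h1002 xp_1002
  have h1004 : ∀ u < 302204, (fun u => chkXP tab xc xw u) u = true := ext_range (a := 301903) (len := 301) h1003 xp_1003
  have h1005 : ∀ u < 302505, (fun u => chkXP tab xc xw u) u = true := ext_range (a := 302204) (len := 301) h1004 xp_1004
  have h1006 : ∀ u < 302806, (fun u => chkXP tab xc xw u) u = true := ext_range (a := 302505) (len := 301) h1005 xp_1005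
  have h1007 : ∀ u < 303107, (fun u => chkXP tab xc xw u) u = true := ext_range (a := 302806) (len := 301) h1006 xp_1006
  have h1008 : ∀ u < 303408, (fun u => chkXP tab xc xw u) u = true := ext_range (a := 303107) (len := 301) h1007 xp_1007
  have h1009 : ∀ u < 303709, (fun u => chkXP tab xc xw u) u = true := ext_range (a := 303408) (len := 301) h1008 xp_1008
  have h1010 : ∀ u < 304010, (fun u => chkXP tab xc xw u) u = true := ext_range (a := 303709) (len := 301) h1009 xp_1009
  have h1011 : ∀ u < 304311, (fun u => chkXP tab xc xw u) u = true := ext_range (a := 304010) (len := 301) h1010 xp_1010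
  have h1012 : ∀ u < 304612, (fun u => chkXP tab xc xw u) u = true := ext_range (a := 304311) (len := 301) h1011 xp_1011
  have h1013 : ∀ u < 304913, (fun u => chkXP tab xc xw u) u = true := ext_range (a := 304612) (len := 301) h1012 xp_1012
  have h1014 : ∀ u < 305214, (fun u => chkXP tab xc xw u) u = true := ext_range (a := 304913) (len := 301) h1013 xp_1013
  have h1015 : ∀ u < 305515, (fun u => chkXP tab xc xw u) u = true := ext_range (a := 305214) (len := 301) h1014 xp_1014
  have h1016 : ∀ u < 305816, (fun u => chkXP tab xc xw u) u = true := ext_range (a := 305515) (len := 301) h1015 xp_1015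
  have h1017 : ∀ u < 306117, (fun u => chkXP tab xc xw u) u = true := ext_range (a := 305816) (len := 301) h1016 xp_1016
  have h1018 : ∀ u < 306418, (fun u => chkXP tab xc xw u) u = true := ext_range (a := 306117) (len := 301) h1017 xp_1017
  have h1019 : ∀ u < 306719, (fun u => chkXP tab xc xw u) u = true := ext_range (a := 306418) (len := 301) h1018 xp_1018
  have h1020 : ∀ u < 306936, (fun u => chkXP tab xc xw u) u = true := ext_range (a := 306719) (len := 217) h1019 xp_1019
  exact h1020

end Cfsg.Agent.Helper9.TCData.X1690B
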