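import Cfsg.Agent.Lib.Helper9.TC2Cox
import Cfsg.Agent.Lib.Helper9.TC2XPow
import Cfsg.Agent.Lib.Helper9.TCData.X1690.Main
import Cfsg.Agent.Lib.Helper9.TC2Pack
import Cfsg.Agent.Lib.Helper9.TCData.X1690B.P0
import Cfsg.Agent.Lib.Helper9.TCData.X1690B.P1

set_option autoImplicit false
set_option maxRecDepth 100000

namespace Cfsg.Agent.Helper9.TCData.X1690B
open Cfsg.Agent.Helper9.TC2
open Cfsg.Agent.Helper9.TCData.X1690

/-- The word of the element of prime order. -/
def xw : List ℕ := [3, 0, 10, 5, 9, 7, 4, 5, 10, 6, 11, 5, 4, 2, 8, 7, 6, 1]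

/-- The columns of the element and of its powers with exponents 2, 4, 8, 16. -/
noncomputable def xc : ℕ → ℕ → ℕ := fun c i => bget2 (BT.node 2348 (BT.node 1174 (BT.node 375 xcT_0 xcT_1) (BT.node 1549 xcT_2 xcT_3)) (BT.node 3522 (BT.node 3147 xcT_4 xcT_5) (BT.node 4321 xcT_6 xcT_7))) 10 9 19 0x7ffff 511 c i

/-- The orbit certificate. -/
noncomputable def orb : OrbData where
  lab := fun i => bget labT_0 13 2 0x3 8191 i
  dep := fun i => bget depT_0 11 6 0x3f 2047 i
  oj := fun i => bget ojT_0 12 4 0xf 4095 i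
  root := fun i => bget rootT_0 12 3 0x7 4095 i

end Cfsg.Agent.Helper9.TCData.X1690B
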