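import Cfsg.Agent.Lib.Helper9.TCData.X1690B.Main

set_option autoImplicit false
set_option maxRecDepth 1000000

namespace Cfsg.Agent.Helper9.TCData.X1690B
open Cfsg.Agent.Helper9.TC2 Cfsg.Agent.Helper9.TCData.X1690

theorem o1_1048 : allRange 293440 280 (fun u => chkO1 tab orb u) = true := by decide +kernel

theorem o1_1049 : allRange 293720 280 (fun u => chkO1 tab orb u) = true := by decide +kernel

theorem o1_1050 : allRange 294000 280 (fun u => chkO1 tab orb u) = true := by decide +kernel

theorem o1_1051 : allRange 294280 280 (fun u => chkO1 tab orb u) = true := by decide +kernel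

theorem o1_1052 : allRange 294560 280 (fun u => chkO1 tab orb u) = true := by decide +kernel

theorem o1_1053 : allRange 294840 280 (fun u => chkO1 tab orb u) = true := by decide +kernel

theorem o1_1054 : allRange 295120 280 (fun u => chkO1 tab orb u) = true := by decide +kernel

theorem o1_1055 : allRange 295400 280 (fun u => chkO1 tab orb u) = true := by decide +kernel


end Cfsg.Agent.Helper9.TCData.X1690B
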