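import Cfsg.Agent.Lib.Helper9.TCData.X1690B.Main

set_option autoImplicit false
set_option maxRecDepth 1000000

namespace Cfsg.Agent.Helper9.TCData.X1690B
open Cfsg.Agent.Helper9.TC2 Cfsg.Agent.Helper9.TCData.X1690

theorem o2_143 : allRange 190762 1334 (fun u => chkO2 tab orb u) = true := by decide +kernel

theorem o2_144 : allRange 192096 1334 (fun u => chkO2 tab orb u) = true := by decide +kernel

theorem o2_145 : allRange 193430 1334 (fun u => chkO2 tab orb u) = true := by decide +kernel

theorem o2_146 : allRange 194764 1334 (fun u => chkO2 tab orb u) = true := by decide +kernel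

theorem o2_147 : allRange 196098 1334 (fun u => chkO2 tab orb u) = true := by decide +kernel

theorem o2_148 : allRange 197432 1334 (fun u => chkO2 tab orb u) = true := by decide +kernel

theorem o2_149 : allRange 198766 1334 (fun u => chkO2 tab orb u) = true := by decide +kernel

theorem o2_150 : allRange 200100 1334 (fun u => chkO2 tab orb u) = true := by decide +kernel


end Cfsg.Agent.Helper9.TCData.X1690B
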