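import Cfsg.Agent.Lib.Helper9.TCData.X1690B.Main

set_option autoImplicit false
set_option maxRecDepth 1000000

namespace Cfsg.Agent.Helper9.TCData.X1690B
open Cfsg.Agent.Helper9.TC2 Cfsg.Agent.Helper9.TCData.X1690

theorem ol_8 : allRange 64000 8000 (fun u => Nat.blt (orb.lab u) 3) = true := by decide +kernel

theorem ol_9 : allRange 72000 8000 (fun u => Nat.blt (orb.lab u) 3) = true := by decide +kernel

theorem ol_10 : allRange 80000 8000 (fun u => Nat.blt (orb.lab u) 3) = true := by decide +kernel

theorem ol_11 : allRange 88000 8000 (fun u => Nat.blt (orb.lab u) 3) = true := by decide +kernel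

theorem ol_12 : allRange 96000 8000 (fun u => Nat.blt (orb.lab u) 3) = true := by decide +kernel

theorem ol_13 : allRange 104000 8000 (fun u => Nat.blt (orb.lab u) 3) = true := by decide +kernel

theorem ol_14 : allRange 112000 8000 (fun u => Nat.blt (orb.lab u) 3) = true := by decide +kernel

theorem ol_15 : allRange 120000 8000 (fun u => Nat.blt (orb.lab u) 3) = true := by decide +kernel


end Cfsg.Agent.Helper9.TCData.X1690B
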