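import Cfsg.Agent.Lib.Helper9.TCData.X1690B.Main

set_option autoImplicit false
set_option maxRecDepth 1000000

namespace Cfsg.Agent.Helper9.TCData.X1690B
open Cfsg.Agent.Helper9.TC2 Cfsg.Agent.Helper9.TCData.X1690

theorem xp_64 : allRange 19264 301 (fun u => chkXP tab xc xw u) = true := by decide +kernel

theorem xp_65 : allRange 19565 301 (fun u => chkXP tab xc xw u) = true := by decide +kernel

theorem xp_66 : allRange 19866 301 (fun u => chkXP tab xc xw u) = true := by decide +kernel

theorem xp_67 : allRange 20167 301 (fun u => chkXP tab xc xw u) = true := by decide +kernel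

theorem xp_68 : allRange 20468 301 (fun u => chkXP tab xc xw u) = true := by decide +kernel

theorem xp_69 : allRange 20769 301 (fun u => chkXP tab xc xw u) = true := by decide +kernel

theorem xp_70 : allRange 21070 301 (fun u => chkXP tab xc xw u) = true := by decide +kernel

theorem xp_71 : allRange 21371 301 (fun u => chkXP tab xc xw u) = true := by decide +kernel


end Cfsg.Agent.Helper9.TCData.X1690B
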