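import Cfsg.Agent.Lib.Helper9.TCData.X1690B.Main

set_option autoImplicit false
set_option maxRecDepth 1000000

namespace Cfsg.Agent.Helper9.TCData.X1690B
open Cfsg.Agent.Helper9.TC2 Cfsg.Agent.Helper9.TCData.X1690

theorem xp_160 : allRange 48160 301 (fun u => chkXP tab xc xw u) = true := by decide +kernel

theorem xp_161 : allRange 48461 301 (fun u => chkXP tab xc xw u) = true := by decide +kernel

theorem xp_162 : allRange 48762 301 (fun u => chkXP tab xc xw u) = true := by decide +kernel

theorem xp_163 : allRange 49063 301 (fun u => chkXP tab xc xw u) = true := by decide +kernel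

theorem xp_164 : allRange 49364 301 (fun u => chkXP tab xc xw u) = true := by decide +kernel

theorem xp_165 : allRange 49665 301 (fun u => chkXP tab xc xw u) = true := by decide +kernel

theorem xp_166 : allRange 49966 301 (fun u => chkXP tab xc xw u) = true := by decide +kernel

theorem xp_167 : allRange 50267 301 (fun u => chkXP tab xc xw u) = true := by decide +kernel


end Cfsg.Agent.Helper9.TCData.X1690B
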