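import Cfsg.Agent.Lib.Helper9.TCData.X1690B.Main

set_option autoImplicit false
set_option maxRecDepth 1000000

namespace Cfsg.Agent.Helper9.TCData.X1690B
open Cfsg.Agent.Helper9.TC2 Cfsg.Agent.Helper9.TCData.X1690

theorem xp_256 : allRange 77056 301 (fun u => chkXP tab xc xw u) = true := by decide +kernel

theorem xp_257 : allRange 77357 301 (fun u => chkXP tab xc xw u) = true := by decide +kernel

theorem xp_258 : allRange 77658 301 (fun u => chkXP tab xc xw u) = true := by decide +kernel

theorem xp_259 : allRange 77959 301 (fun u => chkXP tab xc xw u) = true := by decide +kernel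

theorem xp_260 : allRange 78260 301 (fun u => chkXP tab xc xw u) = true := by decide +kernel

theorem xp_261 : allRange 78561 301 (fun u => chkXP tab xc xw u) = true := by decide +kernel

theorem xp_262 : allRange 78862 301 (fun u => chkXP tab xc xw u) = true := by decide +kernel

theorem xp_263 : allRange 79163 301 (fun u => chkXP tab xc xw u) = true := by decide +kernel


end Cfsg.Agent.Helper9.TCData.X1690B
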