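import Cfsg.Agent.Lib.Helper9.TCData.X1690B.Main

set_option autoImplicit false
set_option maxRecDepth 1000000

namespace Cfsg.Agent.Helper9.TCData.X1690B
open Cfsg.Agent.Helper9.TC2 Cfsg.Agent.Helper9.TCData.X1690

theorem xp_352 : allRange 105952 301 (fun u => chkXP tab xc xw u) = true := by decide +kernel

theorem xp_353 : allRange 106253 301 (fun u => chkXP tab xc xw u) = true := by decide +kernel

theorem xp_354 : allRange 106554 301 (fun u => chkXP tab xc xw u) = true := by decide +kernel

theorem xp_355 : allRange 106855 301 (fun u => chkXP tab xc xw u) = true := by decide +kernel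

theorem xp_356 : allRange 107156 301 (fun u => chkXP tab xc xw u) = true := by decide +kernel

theorem xp_357 : allRange 107457 301 (fun u => chkXP tab xc xw u) = true := by decide +kernel

theorem xp_358 : allRange 107758 301 (fun u => chkXP tab xc xw u) = true := by decide +kernel

theorem xp_359 : allRange 108059 301 (fun u => chkXP tab xc xw u) = true := by decide +kernel


end Cfsg.Agent.Helper9.TCData.X1690B
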