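import Cfsg.Agent.Lib.Helper9.TCData.X1690B.Main

set_option autoImplicit false
set_option maxRecDepth 1000000

namespace Cfsg.Agent.Helper9.TCData.X1690B
open Cfsg.Agent.Helper9.TC2 Cfsg.Agent.Helper9.TCData.X1690

theorem xp_448 : allRange 134848 301 (fun u => chkXP tab xc xw u) = true := by decide +kernel

theorem xp_449 : allRange 135149 301 (fun u => chkXP tab xc xw u) = true := by decide +kernel

theorem xp_450 : allRange 135450 301 (fun u => chkXP tab xc xw u) = true := by decide +kernel

theorem xp_451 : allRange 135751 301 (fun u => chkXP tab xc xw u) = true := by decide +kernel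

theorem xp_452 : allRange 136052 301 (fun u => chkXP tab xc xw u) = true := by decide +kernel

theorem xp_453 : allRange 136353 301 (fun u => chkXP tab xc xw u) = true := by decide +kernel

theorem xp_454 : allRange 136654 301 (fun u => chkXP tab xc xw u) = true := by decide +kernel

theorem xp_455 : allRange 136955 301 (fun u => chkXP tab xc xw u) = true := by decide +kernel


end Cfsg.Agent.Helper9.TCData.X1690B
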