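import Cfsg.Agent.Lib.Helper9.TCData.X1690B.Main

set_option autoImplicit false
set_option maxRecDepth 1000000

namespace Cfsg.Agent.Helper9.TCData.X1690B
open Cfsg.Agent.Helper9.TC2 Cfsg.Agent.Helper9.TCData.X1690

theorem xp_544 : allRange 163744 301 (fun u => chkXP tab xc xw u) = true := by decide +kernel

theorem xp_545 : allRange 164045 301 (fun u => chkXP tab xc xw u) = true := by decide +kernel

theorem xp_546 : allRange 164346 301 (fun u => chkXP tab xc xw u) = true := by decide +kernel

theorem xp_547 : allRange 164647 301 (fun u => chkXP tab xc xw u) = true := by decide +kernel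

theorem xp_548 : allRange 164948 301 (fun u => chkXP tab xc xw u) = true := by decide +kernel

theorem xp_549 : allRange 165249 301 (fun u => chkXP tab xc xw u) = true := by decide +kernel

theorem xp_550 : allRange 165550 301 (fun u => chkXP tab xc xw u) = true := by decide +kernel

theorem xp_551 : allRange 165851 301 (fun u => chkXP tab xc xw u) = true := by decide +kernel


end Cfsg.Agent.Helper9.TCData.X1690B
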