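import Cfsg.Agent.Lib.Helper9.TCData.X1690B.Main

set_option autoImplicit false
set_option maxRecDepth 1000000

namespace Cfsg.Agent.Helper9.TCData.X1690B
open Cfsg.Agent.Helper9.TC2 Cfsg.Agent.Helper9.TCData.X1690

theorem xp_640 : allRange 192640 301 (fun u => chkXP tab xc xw u) = true := by decide +kernel

theorem xp_641 : allRange 192941 301 (fun u => chkXP tab xc xw u) = true := by decide +kernel

theorem xp_642 : allRange 193242 301 (fun u => chkXP tab xc xw u) = true := by decide +kernel

theorem xp_643 : allRange 193543 301 (fun u => chkXP tab xc xw u) = true := by decide +kernel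

theorem xp_644 : allRange 193844 301 (fun u => chkXP tab xc xw u) = true := by decide +kernel

theorem xp_645 : allRange 194145 301 (fun u => chkXP tab xc xw u) = true := by decide +kernel

theorem xp_646 : allRange 194446 301 (fun u => chkXP tab xc xw u) = true := by decide +kernel

theorem xp_647 : allRange 194747 301 (fun u => chkXP tab xc xw u) = true := by decide +kernel


end Cfsg.Agent.Helper9.TCData.X1690B
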