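import Cfsg.Agent.Lib.Helper9.TCData.X1690B.Main

set_option autoImplicit false
set_option maxRecDepth 1000000

namespace Cfsg.Agent.Helper9.TCData.X1690B
open Cfsg.Agent.Helper9.TC2 Cfsg.Agent.Helper9.TCData.X1690

theorem xp_736 : allRange 221536 301 (fun u => chkXP tab xc xw u) = true := by decide +kernel

theorem xp_737 : allRange 221837 301 (fun u => chkXP tab xc xw u) = true := by decide +kernel

theorem xp_738 : allRange 222138 301 (fun u => chkXP tab xc xw u) = true := by decide +kernel

theorem xp_739 : allRange 222439 301 (fun u => chkXP tab xc xw u) = true := by decide +kernel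

theorem xp_740 : allRange 222740 301 (fun u => chkXP tab xc xw u) = true := by decide +kernel

theorem xp_741 : allRange 223041 301 (fun u => chkXP tab xc xw u) = true := by decide +kernel

theorem xp_742 : allRange 223342 301 (fun u => chkXP tab xc xw u) = true := by decide +kernel

theorem xp_743 : allRange 223643 301 (fun u => chkXP tab xc xw u) = true := by decide +kernel


end Cfsg.Agent.Helper9.TCData.X1690B
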