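import Cfsg.Agent.Lib.Helper9.TCData.X1690B.Main

set_option autoImplicit false
set_option maxRecDepth 1000000

namespace Cfsg.Agent.Helper9.TCData.X1690B
open Cfsg.Agent.Helper9.TC2 Cfsg.Agent.Helper9.TCData.X1690

theorem xp_832 : allRange 250432 301 (fun u => chkXP tab xc xw u) = true := by decide +kernel

theorem xp_833 : allRange 250733 301 (fun u => chkXP tab xc xw u) = true := by decide +kernel

theorem xp_834 : allRange 251034 301 (fun u => chkXP tab xc xw u) = true := by decide +kernel

theorem xp_835 : allRange 251335 301 (fun u => chkXP tab xc xw u) = true := by decide +kernel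

theorem xp_836 : allRange 251636 301 (fun u => chkXP tab xc xw u) = true := by decide +kernel

theorem xp_837 : allRange 251937 301 (fun u => chkXP tab xc xw u) = true := by decide +kernel

theorem xp_838 : allRange 252238 301 (fun u => chkXP tab xc xw u) = true := by decide +kernel

theorem xp_839 : allRange 252539 301 (fun u => chkXP tab xc xw u) = true := by decide +kernel


end Cfsg.Agent.Helper9.TCData.X1690B
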