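import Cfsg.Agent.Lib.Helper9.TCData.X1690B.Main

set_option autoImplicit false
set_option maxRecDepth 1000000

namespace Cfsg.Agent.Helper9.TCData.X1690B
open Cfsg.Agent.Helper9.TC2 Cfsg.Agent.Helper9.TCData.X1690

theorem xp_928 : allRange 279328 301 (fun u => chkXP tab xc xw u) = true := by decide +kernel

theorem xp_929 : allRange 279629 301 (fun u => chkXP tab xc xw u) = true := by decide +kernel

theorem xp_930 : allRange 279930 301 (fun u => chkXP tab xc xw u) = true := by decide +kernel

theorem xp_931 : allRange 280231 301 (fun u => chkXP tab xc xw u) = true := by decide +kernel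

theorem xp_932 : allRange 280532 301 (fun u => chkXP tab xc xw u) = true := by decide +kernel

theorem xp_933 : allRange 280833 301 (fun u => chkXP tab xc xw u) = true := by decide +kernel

theorem xp_934 : allRange 281134 301 (fun u => chkXP tab xc xw u) = true := by decide +kernel

theorem xp_935 : allRange 281435 301 (fun u => chkXP tab xc xw u) = true := by decide +kernel


end Cfsg.Agent.Helper9.TCData.X1690B
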