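import Cfsg.Agent.Lib.Helper9.TCData.X1690B.Main

set_option autoImplicit false
set_option maxRecDepth 1000000

namespace Cfsg.Agent.Helper9.TCData.X1690B
open Cfsg.Agent.Helper9.TC2 Cfsg.Agent.Helper9.TCData.X1690

theorem o1_376 : allRange 105280 280 (fun u => chkO1 tab orb u) = true := by decide +kernel

theorem o1_377 : allRange 105560 280 (fun u => chkO1 tab orb u) = true := by decide +kernel

theorem o1_378 : allRange 105840 280 (fun u => chkO1 tab orb u) = true := by decide +kernel

theorem o1_379 : allRange 106120 280 (fun u => chkO1 tab orb u) = true := by decide +kernel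

theorem o1_380 : allRange 106400 280 (fun u => chkO1 tab orb u) = true := by decide +kernel

theorem o1_381 : allRange 106680 280 (fun u => chkO1 tab orb u) = true := by decide +kernel

theorem o1_382 : allRange 106960 280 (fun u => chkO1 tab orb u) = true := by decide +kernel

theorem o1_383 : allRange 107240 280 (fun u => chkO1 tab orb u) = true := by decide +kernel


end Cfsg.Agent.Helper9.TCData.X1690B
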