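import Cfsg.Agent.Lib.Helper9.TCData.X1690B.Main

set_option autoImplicit false
set_option maxRecDepth 1000000

namespace Cfsg.Agent.Helper9.TCData.X1690B
open Cfsg.Agent.Helper9.TC2 Cfsg.Agent.Helper9.TCData.X1690

theorem o1_568 : allRange 159040 280 (fun u => chkO1 tab orb u) = true := by decide +kernel

theorem o1_569 : allRange 159320 280 (fun u => chkO1 tab orb u) = true := by decide +kernel

theorem o1_570 : allRange 159600 280 (fun u => chkO1 tab orb u) = true := by decide +kernel

theorem o1_571 : allRange 159880 280 (fun u => chkO1 tab orb u) = true := by decide +kernel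

theorem o1_572 : allRange 160160 280 (fun u => chkO1 tab orb u) = true := by decide +kernel

theorem o1_573 : allRange 160440 280 (fun u => chkO1 tab orb u) = true := by decide +kernel

theorem o1_574 : allRange 160720 280 (fun u => chkO1 tab orb u) = true := by decide +kernel

theorem o1_575 : allRange 161000 280 (fun u => chkO1 tab orb u) = true := by decide +kernel


end Cfsg.Agent.Helper9.TCData.X1690B
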