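import Cfsg.Agent.Lib.Helper9.TCData.X1690B.Main

set_option autoImplicit false
set_option maxRecDepth 1000000

namespace Cfsg.Agent.Helper9.TCData.X1690B
open Cfsg.Agent.Helper9.TC2 Cfsg.Agent.Helper9.TCData.X1690

theorem o1_760 : allRange 212800 280 (fun u => chkO1 tab orb u) = true := by decide +kernel

theorem o1_761 : allRange 213080 280 (fun u => chkO1 tab orb u) = true := by decide +kernel

theorem o1_762 : allRange 213360 280 (fun u => chkO1 tab orb u) = true := by decide +kernel

theorem o1_763 : allRange 213640 280 (fun u => chkO1 tab orb u) = true := by decide +kernel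

theorem o1_764 : allRange 213920 280 (fun u => chkO1 tab orb u) = true := by decide +kernel

theorem o1_765 : allRange 214200 280 (fun u => chkO1 tab orb u) = true := by decide +kernel

theorem o1_766 : allRange 214480 280 (fun u => chkO1 tab orb u) = true := by decide +kernel

theorem o1_767 : allRange 214760 280 (fun u => chkO1 tab orb u) = true := by decide +kernel


end Cfsg.Agent.Helper9.TCData.X1690B
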